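import Cfsg.Agent.H9.FrobKernel

/-!
Normal subgroups, subgroups and quotients of Frobenius groups.
-/

set_option autoImplicit false

namespace Cfsg.Agent.H9

open Cfsg Pointwise

variable {G : Type*} [Group G]

/-- A normal subgroup meeting the complement nontrivially contains the kernel. -/
theorem frob_kernel_subset_of_normal [Finite G] {H N : Subgroup G} [hN : N.Normal]
    (hH : IsFrobeniusComplement H) (h1 : H ⊓ N ≠ ⊥) : frobeniusKernel H ⊆ N := by
  classical
  have hNH : ¬ N ≤ H := by
    intro hle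
    have h2 := frob_normalizer_le hH hle (by rwa [inf_eq_right.2 hle] at h1)
    rw [Subgroup.normalizer_eq_top] at h2
    exact hH.2.1 (top_le_iff.1 h2)
  -- first: every conjugate of `H` is conjugate to `H` under `N`
  have key : ∀ g : G, ∃ n ∈ N, n⁻¹ * g ∈ H := by
    intro g
    by_contra hg
    push Not at hg
    -- two Frobenius complements of `N` with disjoint sets of conjugates
    have hA := frob_subgroupOf hH h1 hNH
    have h1' : MulAut.conj g • H ⊓ N ≠ ⊥ := by
      obtain ⟨⟨x, hx⟩, hx1⟩ := Subgroup.ne_bot_iff_exists_ne_one.1 h1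
      refine Subgroup.ne_bot_iff_exists_ne_one.2 ⟨⟨g * x * g⁻¹, Subgroup.mem_inf.2 ⟨?_, ?_⟩⟩, ?_⟩
      · rw [mem_conj_smul]; simpa [mul_assoc] using (Subgroup.mem_inf.1 hx).1
      · exact hN.conj_mem _ (Subgroup.mem_inf.1 hx).2 g
      · intro h0
        exact hx1 (Subtype.ext (conj_eq_one_iff.1 (congrArg Subtype.val h0)))
    have hNH' : ¬ N ≤ MulAut.conj g • H := by
      intro hle
      apply hNH
      intro x hx
      have := hle (hN.conj_mem x hx g)
      rw [mem_conj_smul] at this
      simpa [mul_assoc] using this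
    have hB := frob_subgroupOf (frob_conj hH g) h1' hNH'
    set A := H.subgroupOf N
    set B := (MulAut.conj g • H).subgroupOf N
    have hcover : frobeniusKernel A ∪ frobeniusKernel B = Set.univ := by
      rw [Set.eq_univ_iff_forall]
      intro x
      by_contra hx
      rw [Set.mem_union, not_or] at hx
      obtain ⟨hx1, a, ha⟩ := not_mem_frobeniusKernel.1 hx.1
      obtain ⟨-, b, hb⟩ := not_mem_frobeniusKernel.1 hx.2
      rw [Subgroup.mem_subgroupOf] at ha
      rw [Subgroup.mem_subgroupOf, mem_conj_smul] at hb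
      have h3 : g⁻¹ * b * a⁻¹ ∈ H := by
        refine frob_mem_of_conj_mem hH ha (fun h0 => hx1 ?_) (by simpa [mul_assoc] using hb)
        exact conj_eq_one_iff.1 (Subtype.ext h0)
      refine hg (b * a⁻¹) (N.mul_mem b.2 (N.inv_mem a.2)) ?_
      simpa [mul_assoc] using H.inv_mem h3
    have hcA : (frobeniusKernel A).ncard = A.index := by
      rw [← Nat.card_coe_set_eq, card_frobeniusKernel hA]
    have hcB : (frobeniusKernel B).ncard = B.index := by
      rw [← Nat.card_coe_set_eq, card_frobeniusKernel hB]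
    have hA2 : 2 * A.index ≤ Nat.card N := by
      rw [← A.card_mul_index]
      exact Nat.mul_le_mul_right _ ((Subgroup.one_lt_card_iff_ne_bot A).2 hA.1)
    have hB2 : 2 * B.index ≤ Nat.card N := by
      rw [← B.card_mul_index]
      exact Nat.mul_le_mul_right _ ((Subgroup.one_lt_card_iff_ne_bot B).2 hB.1)
    have h4 := Set.ncard_union_add_ncard_inter (frobeniusKernel A) (frobeniusKernel B)
    rw [hcover, Set.ncard_univ, hcA, hcB] at h4
    have h5 : 0 < (frobeniusKernel A ∩ frobeniusKernel B).ncard :=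
      (Set.ncard_pos (Set.toFinite _)).2 ⟨1, one_mem_frobeniusKernel _, one_mem_frobeniusKernel _⟩
    omega
  -- the kernel of `N` lies in the kernel of `G` and has the same size
  have hA := frob_subgroupOf hH h1 hNH
  have hsup : N ⊔ H = ⊤ := by
    rw [eq_top_iff]
    intro g _
    obtain ⟨n, hn, hg⟩ := key g
    have : g = n * (n⁻¹ * g) := by group
    rw [this]
    exact Subgroup.mul_mem_sup hn hg
  have hidx : (H.subgroupOf N).index = H.index := by
    have h2 := Subgroup.relIndex_sup_left (K := N) (H := H)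
    have e1 : N.index = N.relIndex H := by
      rw [← Subgroup.relIndex_sup_left, hsup, Subgroup.relIndex_top_right]
    have e2 := Subgroup.relIndex_inf_mul_relIndex H N ⊤
    have e3 := Subgroup.relIndex_inf_mul_relIndex N H ⊤
    simp only [le_top, inf_of_le_left, Subgroup.relIndex_top_right] at e2 e3
    rw [inf_comm, e3.symm, ← e1, mul_comm] at e2
    exact Nat.eq_of_mul_eq_mul_left (Nat.pos_of_ne_zero Subgroup.index_ne_zero_of_finite) e2
  have hsub : (N.subtype '' frobeniusKernel (H.subgroupOf N)) ⊆ frobeniusKernel H := by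
    rintro _ ⟨x, hx, rfl⟩
    rw [mem_frobeniusKernel] at hx ⊢
    rcases hx with rfl | hx
    · left; simp
    · right
      intro g hg
      obtain ⟨n, hn, hg'⟩ := key g
      apply hx ⟨n, hn⟩
      rw [Subgroup.mem_subgroupOf]
      have := H.mul_mem (H.mul_mem hg' hg) (H.inv_mem hg')
      simpa [mul_assoc] using this
  have heq : (N.subtype '' frobeniusKernel (H.subgroupOf N)) = frobeniusKernel H := by
    apply Set.eq_of_subset_of_ncard_le hsub _ (Set.toFinite _)
    rw [Set.ncard_image_of_injective _ N.subtype_injective, ← Nat.card_coe_set_eq,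
      ← Nat.card_coe_set_eq, card_frobeniusKernel hH, card_frobeniusKernel hA, hidx]
  rw [← heq]
  rintro _ ⟨x, -, rfl⟩
  exact x.2

/-- A normal subgroup of a Frobenius group contains the kernel or is contained in it. -/
theorem frob_normal_subset_or [Finite G] {H : Subgroup G} (N : Subgroup G) [hN : N.Normal]
    (hH : IsFrobeniusComplement H) :
    (N : Set G) ⊆ frobeniusKernel H ∨ frobeniusKernel H ⊆ N := by
  by_cases h1 : H ⊓ N = ⊥
  · left
    intro x hx
    by_contra hxK
    obtain ⟨hx1, g, hg⟩ := not_mem_frobeniusKernel.1 hxK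
    have : g * x * g⁻¹ ∈ H ⊓ N := Subgroup.mem_inf.2 ⟨hg, hN.conj_mem x hx g⟩
    rw [h1, Subgroup.mem_bot] at this
    exact hx1 (conj_eq_one_iff.1 this)
  · exact Or.inr (frob_kernel_subset_of_normal hH h1)

theorem frob_normal_le_or [Finite G] {H K : Subgroup G} (N : Subgroup G) [hN : N.Normal]
    (hH : IsFrobeniusComplement H) (hK : frobeniusKernel H = (K : Set G)) : N ≤ K ∨ K ≤ N := by
  have := frob_normal_subset_or N hH
  rwa [hK] at this

/-- If a subgroup `N` of the kernel is normalized by `h ∈ H`, `h ≠ 1`, then the elements of the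
coset `N h` are conjugate to `h` under `N`. -/
theorem frob_exists_conj_eq_mul [Finite G] {H N : Subgroup G} (hH : IsFrobeniusComplement H)
    (hNK : (N : Set G) ⊆ frobeniusKernel H) {h : G} (hh : h ∈ H) (h1 : h ≠ 1)
    (hx : h ∈ Subgroup.normalizer (N : Set G)) {n : G} (hn : n ∈ N) :
    ∃ m ∈ N, m * h * m⁻¹ = n * h :=
  exists_conj_eq_mul_of_fpf hx (fun _ hk hc => frob_eq_one_of_commute hH hh h1 (hNK hk) hc) hn

/-- Quotients of Frobenius groups by normal subgroups not containing the kernel. -/
theorem frob_quotient [Finite G] {R : Subgroup G} (hR : IsFrobeniusComplement R)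
    (N : Subgroup G) [hN : N.Normal] (hKN : ¬ frobeniusKernel R ⊆ N) :
    IsFrobeniusComplement (R.map (QuotientGroup.mk' N)) ∧
      frobeniusKernel (R.map (QuotientGroup.mk' N)) = QuotientGroup.mk' N '' frobeniusKernel R := by
  have hNK : (N : Set G) ⊆ frobeniusKernel R := (frob_normal_subset_or N hR).resolve_right hKN
  -- an element whose image lies in the image of `R` and is nontrivial is `N`-conjugate into `R`
  have key : ∀ x : G, x ∉ N → (x : G ⧸ N) ∈ R.map (QuotientGroup.mk' N) →
      ∃ m ∈ N, m⁻¹ * x * m ∈ R := by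
    rintro x hx ⟨r, hr, hrx⟩
    have h1 : r ≠ 1 := by
      rintro rfl
      apply hx
      rw [← QuotientGroup.eq_one_iff, ← hrx, map_one]
    have h2 : x * r⁻¹ ∈ N := by
      rw [← QuotientGroup.eq_one_iff, QuotientGroup.mk_mul, ← hrx]
      simp
    obtain ⟨m, hm, hmr⟩ := frob_exists_conj_eq_mul hR hNK hr h1
      (by rw [Subgroup.normalizer_eq_top]; trivial) h2
    refine ⟨m, hm, ?_⟩
    have : x = m * r * m⁻¹ := by rw [hmr]; group
    rw [this]
    simpa [mul_assoc] using hr
  have hker : frobeniusKernel (R.map (QuotientGroup.mk' N))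
      = QuotientGroup.mk' N '' frobeniusKernel R := by
    ext x
    obtain ⟨x, rfl⟩ := QuotientGroup.mk_surjective x
    constructor
    · intro hx
      rcases mem_frobeniusKernel'.1 hx with h | h
      · exact ⟨1, one_mem_frobeniusKernel _, by rw [h, map_one]⟩
      · refine ⟨x, mem_frobeniusKernel'.2 (Or.inr fun g hg => h g ⟨_, hg, by simp⟩), rfl⟩
    · rintro ⟨y, hy, hyx⟩
      rw [← hyx]
      by_cases hyN : y ∈ N
      · exact mem_frobeniusKernel'.2 (Or.inl ((QuotientGroup.eq_one_iff y).2 hyN))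
      · refine mem_frobeniusKernel'.2 (Or.inr fun g hg => ?_)
        obtain ⟨g, rfl⟩ := QuotientGroup.mk_surjective g
        obtain ⟨m, -, hm⟩ := key (g * y * g⁻¹) (fun h => hyN (by simpa [mul_assoc] using hN.conj_mem _ h g⁻¹))
          (by simpa using hg)
        rcases mem_frobeniusKernel'.1 hy with h | h
        · exact hyN (h ▸ N.one_mem)
        · exact h (m⁻¹ * g) (by simpa [mul_assoc] using hm)
  refine ⟨?_, hker⟩
  rw [isFrobeniusComplement_iff]
  refine ⟨?_, ?_, ?_⟩
  · intro h
    obtain ⟨⟨r, hr⟩, hr1⟩ := Subgroup.ne_bot_iff_exists_ne_one.1 hR.1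
    have h1 : (r : G ⧸ N) ∈ R.map (QuotientGroup.mk' N) := ⟨r, hr, rfl⟩
    rw [h, Subgroup.mem_bot, QuotientGroup.eq_one_iff] at h1
    exact hr1 (Subtype.ext (eq_one_of_mem_frobeniusKernel_of_mem (hNK h1) hr))
  · intro h
    apply hKN
    intro x hx
    by_contra hxN
    obtain ⟨m, -, hm⟩ := key x hxN (by rw [h]; trivial)
    rcases mem_frobeniusKernel.1 hx with h | h
    · exact hxN (h ▸ N.one_mem)
    · exact h m hm
  · rintro g _ ⟨r, hr, rfl⟩ h1 hg
    obtain ⟨g, rfl⟩ := QuotientGroup.mk_surjective g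
    have hrN : r ∉ N := fun h => h1 ((QuotientGroup.eq_one_iff r).2 h)
    obtain ⟨m, hmN, hm⟩ := key (g * r * g⁻¹)
      (fun h => hrN (by simpa [mul_assoc] using hN.conj_mem _ h g⁻¹)) (by simpa using hg)
    have h2 : m⁻¹ * g ∈ R :=
      frob_mem_of_conj_mem hR hr (fun h => hrN (h ▸ N.one_mem)) (by simpa [mul_assoc] using hm)
    refine ⟨_, h2, ?_⟩
    rw [map_mul, QuotientGroup.mk'_apply, (QuotientGroup.eq_one_iff _).2 (N.inv_mem hmN), one_mul]
    rfl

/-- Quotients of Frobenius groups, for a kernel given as a subgroup. -/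
theorem frob_quotient' [Finite G] {R K : Subgroup G} (hR : IsFrobeniusComplement R)
    (hK : frobeniusKernel R = (K : Set G)) (N : Subgroup G) [hN : N.Normal] (hKN : ¬ K ≤ N) :
    IsFrobeniusComplement (R.map (QuotientGroup.mk' N)) ∧
      frobeniusKernel (R.map (QuotientGroup.mk' N)) = (K.map (QuotientGroup.mk' N) : Set (G ⧸ N)) := by
  have := frob_quotient hR N (by rw [hK]; exact hKN)
  rw [hK] at this
  exact this

/-- If `B ≠ 1` normalizes `N ≠ 1` and non-identity elements of `B` centralize no non-identity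
element of `N`, then `N B` is a Frobenius group with kernel `N` and complement `B`. -/
theorem frob_sup_of_fpf [Finite G] {N B : Subgroup G} (hN1 : N ≠ ⊥) (hB1 : B ≠ ⊥)
    (hBN : B ≤ Subgroup.normalizer (N : Set G))
    (hfpf : ∀ b ∈ B, b ≠ 1 → ∀ k ∈ N, b * k = k * b → k = 1) :
    IsFrobeniusComplement (B.subgroupOf (N ⊔ B)) ∧
      frobeniusKernel (B.subgroupOf (N ⊔ B)) = (N.subgroupOf (N ⊔ B) : Set ↥(N ⊔ B)) := by
  have hn : (N.subgroupOf (N ⊔ B)).Normal :=
    (Subgroup.normal_subgroupOf_iff_le_normalizer le_sup_left).2 (sup_le Subgroup.le_normalizer hBN)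
  refine frob_and_kernel_of_isComplement' ?_ ?_ ?_ ?_
  · refine Subgroup.isComplement'_of_disjoint_and_mul_eq_univ ?_ ?_
    · rw [Subgroup.disjoint_def]
      intro x hxN hxB
      by_contra h1
      exact h1 (Subtype.ext (hfpf x hxB (fun h => h1 (Subtype.ext h)) x hxN rfl))
    · rw [← Subgroup.normal_mul, ← Subgroup.subgroupOf_sup le_sup_left le_sup_right,
        Subgroup.subgroupOf_self, Subgroup.coe_top]
  · intro h
    rw [Subgroup.subgroupOf_eq_bot] at h
    exact hN1 (h.eq_bot_of_le le_sup_left)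
  · intro h
    rw [Subgroup.subgroupOf_eq_bot] at h
    exact hB1 (h.eq_bot_of_le le_sup_right)
  · intro b hb hb1 k hk hc
    exact Subtype.ext (hfpf b hb (fun h => hb1 (Subtype.ext h)) k hk (congrArg Subtype.val hc))

end Cfsg.Agent.H9
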