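import Cfsg.Agent.H9.FrobCompl
import Cfsg.Agent.H3.RankOne
import Cfsg.Agent.H1.Basic

/-!
Frobenius complements, second part: Sylow subgroups are cyclic or quaternion, complements of odd
order are Z-groups, and a quaternion group acting forces a square order.
-/

set_option autoImplicit false
set_option linter.unusedSectionVars false

namespace Cfsg.Agent.H9

open Cfsg Subgroup

/-- An abelian group killed by an odd prime with a quaternion action has square order. -/
theorem isSquare_card_of_quat_aux {V : Type*} [AddCommGroup V] [Finite V] {l : ℕ} (hl : l.Prime)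
    (hl2 : l ≠ 2) (i j : V →+ V) (hi : ∀ v, i (i v) = -v) (hj : ∀ v, j (j v) = -v)
    (hij : ∀ v, i (j v) = -j (i v)) (W : AddSubgroup V) (hiW : ∀ v ∈ W, i v ∈ W)
    (hjW : ∀ v ∈ W, j v ∈ W) (hW : ∀ v ∈ W, l • v = 0) : IsSquare (Nat.card W) := by
  have := Fact.mk hl
  obtain ⟨a, b, hab⟩ := ZMod.sq_add_sq l (-1)
  obtain ⟨a, rfl⟩ := ZMod.intCast_surjective a
  obtain ⟨b, rfl⟩ := ZMod.intCast_surjective b
  obtain ⟨c, hc⟩ : (l : ℤ) ∣ a ^ 2 + b ^ 2 + 1 := by
    rw [← ZMod.intCast_zmod_eq_zero_iff_dvd]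
    push_cast
    rw [hab, neg_add_cancel]
  obtain ⟨m, hm⟩ := hl.odd_of_ne_two hl2
  have hW' : ∀ v ∈ W, (l : ℤ) • v = 0 := fun v hv => by rw [natCast_zsmul, hW v hv]
  let e : V →+ V := a • i + b • j
  have he : ∀ v, e v = a • i v + b • j v := fun v => rfl
  have heW : ∀ v ∈ W, e v ∈ W := fun v hv =>
    add_mem (zsmul_mem (hiW v hv) a) (zsmul_mem (hjW v hv) b)
  have hee : ∀ v ∈ W, e (e v) = v := by
    intro v hv
    simp only [he, map_add, map_zsmul, hi, hj, hij]
    have h1 : (a ^ 2 + b ^ 2 + 1) • v = 0 := by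
      rw [hc, mul_comm, mul_smul, hW' v hv, smul_zero]
    linear_combination (norm := module) (-1 : ℤ) • h1
  have hek : ∀ v, e (i (j v)) = -i (j (e v)) := by
    intro v
    simp only [he, map_add, map_zsmul, hi, hj, hij, map_neg]
    module
  have hkk : ∀ v, i (j (i (j v))) = -v := by
    intro v
    rw [hij v, map_neg, hj, neg_neg, hi]
  have htwo : ∀ v ∈ W, (m + 1) • (v + v) = v := by
    intro v hv
    have h1 := hW v hv
    rw [hm] at h1
    linear_combination (norm := module) h1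
  let P : AddSubgroup V := W ⊓ (e - AddMonoidHom.id V).ker
  have hP : ∀ v, v ∈ P ↔ v ∈ W ∧ e v = v := by
    intro v
    simp [P, AddSubgroup.mem_inf, AddMonoidHom.mem_ker, sub_eq_zero]
  let f : P × P → W := fun x => ⟨x.1 + i (j x.2),
    add_mem ((hP _).1 x.1.2).1 (hiW _ (hjW _ ((hP _).1 x.2.2).1))⟩
  have hf : Function.Bijective f := by
    constructor
    · rintro ⟨⟨u, hu⟩, ⟨v, hv⟩⟩ ⟨⟨u', hu'⟩, ⟨v', hv'⟩⟩ h
      have h1 : u + i (j v) = u' + i (j v') := congrArg Subtype.val h
      have h2 := congrArg e h1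
      rw [hP] at hu hv hu' hv'
      rw [map_add, map_add, hek, hek, hu.2, hv.2, hu'.2, hv'.2] at h2
      have h3 : u = u' := by
        rw [← htwo u hu.1, ← htwo u' hu'.1]
        congr 1
        linear_combination (norm := module) h1 + h2
      subst h3
      have h4 : v = v' := by
        have := congrArg (fun w => i (j w)) (add_left_cancel h1)
        simpa only [hkk, neg_inj] using this
      subst h4
      rfl
    · rintro ⟨w, hw⟩
      refine ⟨(⟨(m + 1) • (w + e w), (hP _).2 ⟨nsmul_mem (add_mem hw (heW w hw)) _, ?_⟩⟩,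
        ⟨(m + 1) • i (j (e w - w)),
          (hP _).2 ⟨nsmul_mem (hiW _ (hjW _ (sub_mem (heW w hw) hw))) _, ?_⟩⟩), Subtype.ext ?_⟩
      · rw [map_nsmul, map_add, hee w hw, add_comm (e w)]
      · rw [map_nsmul, hek, map_sub e, hee w hw, ← map_neg, ← map_neg, neg_sub]
      · change (m + 1) • (w + e w) + i (j ((m + 1) • i (j (e w - w)))) = w
        rw [map_nsmul, map_nsmul, hkk]
        conv_rhs => rw [← htwo w hw]
        module
  exact ⟨Nat.card P, by rw [← Nat.card_prod, Nat.card_eq_of_bijective f hf]⟩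

/-- An abelian group of odd order with a quaternion action has square order. -/
theorem isSquare_card_of_quat {V : Type*} [AddCommGroup V] [Finite V] (hV : Odd (Nat.card V))
    (i j : V →+ V) (hi : ∀ v, i (i v) = -v) (hj : ∀ v, j (j v) = -v)
    (hij : ∀ v, i (j v) = -j (i v)) : IsSquare (Nat.card V) := by
  suffices h : ∀ W : AddSubgroup V, (∀ v ∈ W, i v ∈ W) → (∀ v ∈ W, j v ∈ W) →
      IsSquare (Nat.card W) by
    simpa using h ⊤ (by simp) (by simp)
  intro W
  induction W using WellFoundedLT.induction with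
  | ind W ih =>
  intro hiW hjW
  by_cases h1 : Nat.card W = 1
  · rw [h1]; exact IsSquare.one
  obtain ⟨l, hl, hd⟩ := Nat.exists_prime_and_dvd h1
  have hl2 : l ≠ 2 := by
    rintro rfl
    exact (Nat.not_even_iff_odd.2 hV) (even_iff_two_dvd.2 (hd.trans W.card_addSubgroup_dvd_card))
  let f : V →+ V := nsmulAddMonoidHom l
  have hf : ∀ v, f v = l • v := fun v => rfl
  have e1 : Nat.card (W ⊓ f.ker : AddSubgroup V) * Nat.card (W.map f) = Nat.card W := by
    rw [← AddSubgroup.relIndex_ker, ← AddSubgroup.inf_relIndex_left, AddSubgroup.relIndex,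
      ← AddSubgroup.card_mul_index ((W ⊓ f.ker).addSubgroupOf W),
      Nat.card_congr (AddSubgroup.addSubgroupOfEquivOfLe (inf_le_left : W ⊓ f.ker ≤ W)).toEquiv]
  have h2 : IsSquare (Nat.card (W ⊓ f.ker : AddSubgroup V)) := by
    refine isSquare_card_of_quat_aux hl hl2 i j hi hj hij _ (fun v hv => ⟨hiW v hv.1, ?_⟩)
      (fun v hv => ⟨hjW v hv.1, ?_⟩) fun v hv => hv.2
    · change l • i v = 0
      rw [← map_nsmul, show l • v = 0 from hv.2, map_zero]
    · change l • j v = 0
      rw [← map_nsmul, show l • v = 0 from hv.2, map_zero]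
  have hle : W.map f ≤ W := by
    rintro _ ⟨v, hv, rfl⟩
    exact nsmul_mem hv l
  have h3 : IsSquare (Nat.card (W.map f)) := by
    refine ih _ (lt_of_le_of_ne hle fun e => ?_) ?_ ?_
    · have := Fact.mk hl
      obtain ⟨⟨x, hx⟩, ho⟩ := exists_prime_addOrderOf_dvd_card' l hd
      rw [e, mul_eq_right₀ Nat.card_pos.ne', AddSubgroup.card_eq_one, eq_bot_iff] at e1
      rw [AddSubgroup.addOrderOf_mk] at ho
      have h4 : x = 0 := e1 ⟨hx, show l • x = 0 by rw [← ho]; exact addOrderOf_nsmul_eq_zero x⟩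
      rw [h4, addOrderOf_zero] at ho
      exact hl.one_lt.ne ho
    · rintro _ ⟨v, hv, rfl⟩
      exact ⟨i v, hiW v hv, by rw [hf, hf, map_nsmul]⟩
    · rintro _ ⟨v, hv, rfl⟩
      exact ⟨j v, hjW v hv, by rw [hf, hf, map_nsmul]⟩
  rw [← e1]
  exact h2.mul h3

namespace IsFrobAction

variable {A N : Type*} [Group A] [Group N] [Finite N] [Nontrivial N] {φ : A →* MulAut N}

/-- A `p`-group acting as a Frobenius complement is cyclic or generalized quaternion. -/
theorem pgroup_cases (hφ : IsFrobAction φ) {p : ℕ} [Fact p.Prime] (hA : IsPGroup p A) :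
    IsCyclic A ∨ (p = 2 ∧ ∃ (n : ℕ) (x y : A), 2 ≤ n ∧ orderOf x = 2 ^ n ∧
      (zpowers x).index = 2 ∧ y ∉ zpowers x ∧ y ^ 2 = x ^ 2 ^ (n - 1) ∧ y * x * y⁻¹ = x⁻¹) := by
  have := hφ.finite
  refine H3.abelian_cyclic_cases hA fun B hB => ?_
  have := hB.1
  exact hφ.isCyclic_subgroup_of_comm B

theorem isCyclic_of_isPGroup (hφ : IsFrobAction φ) {p : ℕ} [Fact p.Prime] (hp : p ≠ 2)
    {P : Subgroup A} (hP : IsPGroup p P) : IsCyclic P :=
  ((hφ.subtype P).pgroup_cases hP).resolve_right fun h => hp h.1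

theorem isZGroup_of_odd (hφ : IsFrobAction φ) (h : Odd (Nat.card A)) : IsZGroup A := by
  refine ⟨fun p hp P => ?_⟩
  have := Fact.mk hp
  have := hφ.finite
  by_cases hp2 : p = 2
  · subst hp2
    obtain ⟨k, hk⟩ := P.isPGroup'.exists_card_eq
    rcases k with _ | k
    · have : Subsingleton P := (Nat.card_eq_one_iff_unique.1 (by simpa using hk)).1
      infer_instance
    · exact absurd (even_iff_two_dvd.2 ((hk ▸ dvd_pow_self 2 (Nat.succ_ne_zero k) :
        2 ∣ Nat.card P).trans (card_subgroup_dvd_card _))) (Nat.not_even_iff_odd.2 h)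
  · exact hφ.isCyclic_of_isPGroup hp2 P.isPGroup'

theorem isCyclic_of_odd_of_isNilpotent (hφ : IsFrobAction φ) (h : Odd (Nat.card A))
    [Group.IsNilpotent A] : IsCyclic A := by
  have := hφ.isZGroup_of_odd h
  have := hφ.finite
  infer_instance

theorem odd_card_of_even (hφ : IsFrobAction φ) (h : 2 ∣ Nat.card A) : Odd (Nat.card N) := by
  rw [← Nat.coprime_two_left]
  exact Nat.Coprime.coprime_dvd_left h hφ.coprime

/-- If a Sylow subgroup of the complement is not cyclic, the kernel has odd square order. -/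
theorem odd_and_isSquare (hφ : IsFrobAction φ) {p : ℕ} [Fact p.Prime] {P : Subgroup A}
    (hP : IsPGroup p P) (hnc : ¬ IsCyclic P) : Odd (Nat.card N) ∧ IsSquare (Nat.card N) := by
  have hψ := hφ.subtype P
  set ψ := φ.comp P.subtype
  have := hψ.finite
  obtain ⟨rfl, n, x, y, hn, hx, -, -, hy, hxy⟩ := (hψ.pgroup_cases hP).resolve_left hnc
  obtain ⟨n, rfl⟩ := Nat.exists_eq_add_of_le' hn
  have h2 : 2 ∣ Nat.card P :=
    (hx ▸ dvd_pow_self 2 (by omega) : 2 ∣ orderOf x).trans (orderOf_dvd_natCard x)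
  have hodd := hψ.odd_card_of_even h2
  refine ⟨hodd, ?_⟩
  have hc := hψ.isMulCommutative_of_even h2
  letI : CommGroup N := { (inferInstance : Group N) with mul_comm := mul_comm' }
  have hz : orderOf (x ^ 2 ^ (n + 1)) = 2 := by
    rw [orderOf_pow_of_dvd (by positivity) (hx ▸ pow_dvd_pow 2 (by omega)), hx, pow_succ,
      Nat.mul_div_cancel_left _ (by positivity)]
  have hzinv := hψ.apply_eq_inv hz
  set u := x ^ 2 ^ n with hu
  have huu : u * u = x ^ 2 ^ (n + 1) := by rw [hu, ← pow_add, pow_succ, mul_two]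
  have hyy : y * y = x ^ 2 ^ (n + 1) := by rw [← sq, hy]; rfl
  have huy : u * y = x ^ 2 ^ (n + 1) * (y * u) := by
    have h1 : y * u * y⁻¹ = u⁻¹ := by rw [hu, ← conj_pow, hxy, inv_pow]
    rw [← huu, mul_inv_eq_iff_eq_mul.1 h1]
    group
  change IsSquare (Nat.card (Additive N))
  refine isSquare_card_of_quat hodd (MonoidHom.toAdditive (ψ u).toMonoidHom)
    (MonoidHom.toAdditive (ψ y).toMonoidHom) (fun v => ?_) (fun v => ?_) fun v => ?_
  · change ψ u (ψ u v.toMul) = (v.toMul)⁻¹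
    rw [← MulAut.mul_apply, ← map_mul, huu, hzinv]
  · change ψ y (ψ y v.toMul) = (v.toMul)⁻¹
    rw [← MulAut.mul_apply, ← map_mul, hyy, hzinv]
  · change ψ u (ψ y v.toMul) = (ψ y (ψ u v.toMul))⁻¹
    rw [← MulAut.mul_apply, ← map_mul, huy, map_mul, MulAut.mul_apply, hzinv, map_mul,
      MulAut.mul_apply]

end IsFrobAction

end Cfsg.Agent.H9
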