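import Cfsg.Agent.P2.Setup
import Cfsg.Agent.H9.FrobKernel

/-! A non-normal, centralizer-closed TI-subgroup with two involutions gives a `P2.ZT`
configuration. -/

set_option autoImplicit false

namespace Cfsg.Agent.H9

open Subgroup Cfsg Cfsg.Agent.FT

variable {G : Type*} [Group G] [Finite G]

/-- `Q` contains the centralizers of its non-identity elements, is a TI-subgroup and has even
order. -/
structure CTI (Q : Subgroup G) : Prop where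
  cent : ∀ x ∈ Q, x ≠ 1 → 𝐂[x] ≤ Q
  ti : ∀ x ∈ Q, x ≠ 1 → ∀ g : G, g * x * g⁻¹ ∈ Q → g ∈ 𝐍(Q)
  even : Even 𝐨(Q)

namespace CTI

variable {Q : Subgroup G}

omit [Finite G] in
theorem mem_of_commute (h : CTI Q) {x y : G} (hx : x ∈ Q) (h1 : x ≠ 1) (hc : Commute x y) :
    y ∈ Q := h.cent x hx h1 (mem_centralizer_singleton_iff.mpr hc.symm)

theorem mem_of_pow (h : CTI Q) {y : G} (hy : y ∈ 𝐍(Q)) (hp : y ^ 𝐨(Q) = 1) : y ∈ Q := by
  by_cases h1 : y = 1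
  · exact h1 ▸ Q.one_mem
  have hcop := coprime_of_centralizer_le (K := Q.subgroupOf 𝐍(Q)) fun k hk hk1 x hx =>
    h.mem_of_commute hk (fun e => hk1 (Subtype.ext e))
      (congrArg Subtype.val (mem_centralizer_singleton_iff.mp hx)).symm
  rw [Nat.card_congr (subgroupOfEquivOfLe le_normalizer).toEquiv] at hcop
  refine h.mem_of_commute ((Q.subgroupOf 𝐍(Q)).pow_index_mem ⟨y, hy⟩) (fun e => h1 ?_)
    (Commute.pow_left rfl _)
  exact orderOf_eq_one_iff.mp (Nat.eq_one_of_dvd_coprimes hcop (orderOf_dvd_of_pow_eq_one hp)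
    (orderOf_dvd_of_pow_eq_one e))

theorem invol_mem (h : CTI Q) {y : G} (hy : y ∈ 𝐍(Q)) (hp : y * y = 1) : y ∈ Q := by
  obtain ⟨k, hk⟩ := h.even
  exact h.mem_of_pow hy (by rw [hk, ← two_mul, pow_mul, pow_two, hp, one_pow])

theorem ti' (h : CTI Q) {x g : G} (hx : x ∈ Q) (h1 : x ≠ 1) (hg : g * x * g⁻¹ ∈ 𝐍(Q)) :
    g ∈ 𝐍(Q) :=
  h.ti x hx h1 g (h.mem_of_pow hg (by
    rw [conj_pow, show x ^ 𝐨(Q) = 1 from congrArg Subtype.val (pow_card_eq_one' (x := (⟨x, hx⟩ : Q))),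
      mul_one, mul_inv_cancel]))

theorem exists_invol_conj (h : CTI Q) {a u : G} (ha : a ∈ Q) (ha1 : a ≠ 1) (haa : a * a = 1)
    (hu : u ∉ 𝐍(Q)) (huu : u * u = 1) : ∃ w : G, w * w = 1 ∧ w * a * w = u := by
  rcases Nat.even_or_odd (orderOf (a * u)) with he | ho
  · obtain ⟨k, h1, -, h2, h3⟩ := L.exists_invol_commute_of_even haa huu he
    exact absurd (le_normalizer (h.mem_of_commute (h.mem_of_commute ha ha1 h2.symm) h1 h3)) hu
  · obtain ⟨k, h1, h2⟩ := L.exists_invol_conj_of_odd haa huu ho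
    exact ⟨_, h1, h2⟩

theorem exists_invol_mul (h : CTI Q) {a : G} (ha : a ∈ Q) (ha1 : a ≠ 1) (haa : a * a = 1) {g : G}
    (hg : g ∉ 𝐍(Q)) : ∃ w : G, w * w = 1 ∧ w ∉ 𝐍(Q) ∧ w * g ∈ Q := by
  obtain ⟨w, h1, h2⟩ := h.exists_invol_conj ha ha1 haa (u := g * a * g⁻¹)
    (fun e => hg (h.ti' ha ha1 e)) (by rw [conj_mul, haa, mul_one, mul_inv_cancel])
  have h3 : w * g ∈ Q := h.mem_of_commute ha ha1 (by
    have := L.inv_eq_self_of_mul_self h1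
    calc a * (w * g) = w⁻¹ * (w * a * w) * g := by group
      _ = w * g * a := by rw [h2, this]; group)
  exact ⟨w, h1, fun e => hg ((mul_mem_cancel_left e).mp (le_normalizer h3)), h3⟩

theorem exists_inverted (h : CTI Q) {t a b : G} (ht : t ∉ 𝐍(Q)) (htt : t * t = 1) (ha : a ∈ Q)
    (ha1 : a ≠ 1) (haa : a * a = 1) (hb : b ∈ Q) (hb1 : b ≠ 1) (hbb : b * b = 1) :
    ∃ d ∈ 𝐍(Q), t * d * t = d⁻¹ ∧ d * a * d⁻¹ = b := by
  have e := L.inv_eq_self_of_mul_self htt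
  obtain ⟨w, h1, h2⟩ := h.exists_invol_conj ha ha1 haa (u := t * b * t⁻¹)
    (fun e => ht (h.ti' hb hb1 e)) (by rw [conj_mul, hbb, mul_one, mul_inv_cancel])
  have e' := L.inv_eq_self_of_mul_self h1
  have h3 : t * w * a * (t * w)⁻¹ = b := by
    calc t * w * a * (t * w)⁻¹ = t * (w * a * w⁻¹) * t⁻¹ := by group
      _ = t⁻¹ * (t * b * t⁻¹) * t := by rw [e', h2, e]
      _ = b := by group
  exact ⟨t * w, h.ti a ha ha1 _ (h3 ▸ hb), by rw [← mul_assoc, htt, one_mul, mul_inv_rev, e, e'],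
    h3⟩

theorem eq_one (h : CTI Q) {t x : G} (ht : t ∉ 𝐍(Q)) (htt : t * t = 1) (hx : x ∈ Q)
    (hx' : t * x * t ∈ 𝐍(Q)) : x = 1 := by
  by_contra h1
  exact ht (h.ti' hx h1 (by rwa [L.inv_eq_self_of_mul_self htt]))

theorem exists_decomp (h : CTI Q) {t a b : G} (ht : t ∉ 𝐍(Q)) (htt : t * t = 1) (ha : a ∈ Q)
    (ha1 : a ≠ 1) (haa : a * a = 1) (hb : b ∈ 𝐍(Q)) :
    ∃ d ∈ 𝐍(Q), t * d * t = d⁻¹ ∧ d⁻¹ * b ∈ Q := by
  obtain ⟨d, h1, h2, h3⟩ := h.exists_inverted ht htt ha ha1 haa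
    (H1.conj_mem_of_le_normalizer le_rfl hb ha) (fun e => ha1 (conj_eq_one_iff.mp e))
    (by rw [conj_mul, haa, mul_one, mul_inv_cancel])
  refine ⟨d, h1, h2, h.mem_of_commute ha ha1 ?_⟩
  calc a * (d⁻¹ * b) = d⁻¹ * (d * a * d⁻¹) * b := by group
    _ = d⁻¹ * b * a := by rw [h3]; group

theorem inverts (h : CTI Q) {t a k : G} (ht : t ∉ 𝐍(Q)) (htt : t * t = 1) (ha : a ∈ Q)
    (ha1 : a ≠ 1) (haa : a * a = 1) (hk : k ∈ 𝐍(Q)) (hk' : t * k * t ∈ 𝐍(Q)) :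
    t * k * t = k⁻¹ := by
  obtain ⟨d, h1, h2, h3⟩ := h.exists_decomp ht htt ha ha1 haa hk
  have h4 := h.eq_one ht htt h3 (by
    have e : t * (d⁻¹ * k) * t = (t * d * t)⁻¹ * (t * k * t) := by
      have := L.inv_eq_self_of_mul_self htt
      rw [mul_inv_rev, mul_inv_rev, this]
      calc t * (d⁻¹ * k) * t = t * d⁻¹ * (t * t) * k * t := by rw [htt]; group
        _ = _ := by group
    rw [e, h2, inv_inv]
    exact mul_mem h1 hk')
  rwa [← inv_mul_eq_one.mp h4]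

theorem centralizer_le (h : CTI Q) {a k c : G} (ha : a ∈ Q) (ha1 : a ≠ 1) (haa : a * a = 1)
    (hk : k ∈ 𝐍(Q)) (hkQ : k ∉ Q) (hc : Commute c k) : c ∈ 𝐍(Q) := by
  by_contra hc'
  obtain ⟨u, h1, h2, h3⟩ := h.exists_invol_mul ha ha1 haa hc'
  have e := L.inv_eq_self_of_mul_self h1
  have e1 : u * k * u = (u * c) * k * (u * c)⁻¹ := by
    calc u * k * u = u * (c * k * c⁻¹) * u⁻¹ := by rw [hc.eq, e]; group
      _ = _ := by group
  have h4 := h.inverts h2 h1 ha ha1 haa hk (by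
    rw [e1]; exact mul_mem (mul_mem (le_normalizer h3) hk) (inv_mem (le_normalizer h3)))
  have h5 : k * k ∈ Q := by
    have e2 : (k * k)⁻¹ = (u * c) * (k * (u * c)⁻¹ * k⁻¹) := by
      calc (k * k)⁻¹ = k⁻¹ * k⁻¹ := by group
        _ = (u * c) * k * (u * c)⁻¹ * k⁻¹ := by rw [← e1, h4]
        _ = _ := by group
    rw [← inv_mem_iff, e2]
    exact mul_mem h3 (H1.conj_mem_of_le_normalizer le_rfl hk (inv_mem h3))
  by_cases h6 : k * k = 1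
  · exact hkQ (h.invol_mem hk h6)
  · exact hkQ (h.mem_of_commute h5 h6 ((Commute.refl k).mul_left (Commute.refl k)))

theorem exists_ZT (h : CTI Q) (hn : ¬ Q.Normal) {a b : G} (ha : a ∈ Q) (ha1 : a ≠ 1)
    (haa : a * a = 1) (hb : b ∈ Q) (hb1 : b ≠ 1) (hbb : b * b = 1) (hab : a ≠ b) :
    ∃ (H : Subgroup G) (t : G), P2.ZT Q H t ∧ Q ⊔ H = 𝐍(Q) := by
  obtain ⟨g, hg⟩ : ∃ g, g ∉ 𝐍(Q) := by
    by_contra! hc
    exact hn (normalizer_eq_top_iff.mp (eq_top_iff.mpr fun g _ => hc g))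
  obtain ⟨t, htt, ht, -⟩ := h.exists_invol_mul ha ha1 haa hg
  have e := L.inv_eq_self_of_mul_self htt
  set H := 𝐍(Q) ⊓ (𝐍(Q)).map (MulAut.conj t).toMonoidHom with hH
  have mH : ∀ {x}, x ∈ H ↔ x ∈ 𝐍(Q) ∧ t * x * t ∈ 𝐍(Q) := by
    intro x
    rw [hH, mem_inf, H1.mem_map_conj, e]
  have hinv : ∀ k ∈ H, t * k * t = k⁻¹ := fun k hk =>
    h.inverts ht htt ha ha1 haa (mH.mp hk).1 (mH.mp hk).2
  have hdec : ∀ x ∈ 𝐍(Q), ∃ d ∈ H, d⁻¹ * x ∈ Q := fun x hx => by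
    obtain ⟨d, h1, h2, h3⟩ := h.exists_decomp ht htt ha ha1 haa hx
    exact ⟨d, mH.mpr ⟨h1, h2 ▸ inv_mem h1⟩, h3⟩
  have hB : Q ⊔ H = 𝐍(Q) := le_antisymm (sup_le le_normalizer inf_le_left) fun x hx => by
    obtain ⟨d, h1, h2⟩ := hdec x hx
    rw [← mul_inv_cancel_left d x]
    exact mul_mem (mem_sup_right h1) (mem_sup_left h2)
  obtain ⟨k, hk, hk', hkab⟩ := h.exists_inverted ht htt ha ha1 haa hb hb1 hbb
  have hk1 : k ≠ 1 := fun e => hab (by rw [← hkab, e]; group)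
  have hkH : k ∈ H := mH.mpr ⟨hk, hk' ▸ inv_mem hk⟩
  have hQH : ∀ x ∈ H, x ≠ 1 → x ∉ Q := fun x hx h1 hQ => h1 (h.eq_one ht htt hQ (mH.mp hx).2)
  have hfpf : ∀ x ∈ H, x ≠ 1 → ∀ y ∈ Q, x * y = y * x → y = 1 := fun x hx h1 y hy hc => by
    by_contra h2
    exact hQH x hx h1 (h.mem_of_commute hy h2 hc.symm)
  refine ⟨H, t, ⟨⟨fun e => ha1 (mem_bot.mp (e ▸ ha)), fun e => hk1 (mem_bot.mp (e ▸ hkH)),
    inf_le_left, fun x hx h1 => eq_bot_iff.mpr fun y hy =>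
      hfpf x hx h1 y hy.1 (mem_centralizer_singleton_iff.mp hy.2).symm⟩, h.even, htt, ?_,
    fun g => ?_, fun x hx hx' => mH.mpr (hB ▸ ⟨hx, hx'⟩)⟩, hB⟩
  · refine mem_normalizer_fintype fun x hx => ?_
    rw [e, hinv x hx]
    exact inv_mem hx
  rw [hB]
  refine or_iff_not_imp_left.mpr fun hg => ?_
  obtain ⟨w, hww, hw, hwg⟩ := h.exists_invol_mul ha ha1 haa hg
  obtain ⟨d, d1, d2, d3⟩ := h.exists_decomp hw hww ha ha1 haa hk
  obtain ⟨y, hy, hyk⟩ := exists_conj_eq_mul_of_fpf hk (hfpf k hkH hk1)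
    (n := d * k⁻¹) (by
      have := H1.conj_mem_of_le_normalizer le_rfl d1 (inv_mem d3)
      rwa [show d * (d⁻¹ * k)⁻¹ * d⁻¹ = d * k⁻¹ by group] at this)
  rw [inv_mul_cancel_right] at hyk
  have hc : t * (y⁻¹ * w * y) ∈ 𝐍(Q) := h.centralizer_le ha ha1 haa hk (hQH k hkH hk1) (by
    have e1 : y⁻¹ * w * y * k * (y⁻¹ * w * y)⁻¹ = k⁻¹ := by
      calc y⁻¹ * w * y * k * (y⁻¹ * w * y)⁻¹ = y⁻¹ * (w * (y * k * y⁻¹) * w⁻¹) * y := by group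
        _ = y⁻¹ * (y * k * y⁻¹)⁻¹ * y := by rw [hyk, L.inv_eq_self_of_mul_self hww, d2]
        _ = k⁻¹ := by group
    calc t * (y⁻¹ * w * y) * k = t * (y⁻¹ * w * y * k * (y⁻¹ * w * y)⁻¹) * (y⁻¹ * w * y) := by
          group
      _ = (t * k * t⁻¹)⁻¹ * (t * (y⁻¹ * w * y)) := by rw [e1]; group
      _ = k * (t * (y⁻¹ * w * y)) := by rw [e, hk', inv_inv])
  obtain ⟨c, c1, c2⟩ := hdec _ (mul_mem hc (le_normalizer (mul_mem (inv_mem hy) hwg)))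
  refine ⟨y * c⁻¹, mul_mem (le_normalizer hy) (inv_mem c1.1), _, c2, ?_⟩
  symm
  calc y * c⁻¹ * t * (c⁻¹ * (t * (y⁻¹ * w * y) * (y⁻¹ * (w * g))))
      = y * c⁻¹ * (t * c⁻¹ * t) * y⁻¹ * (w * w) * g := by group
    _ = g := by rw [hinv _ (inv_mem c1), hww]; group

end CTI

end Cfsg.Agent.H9
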