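import Cfsg.Agent.H9.FrobAction
import Cfsg.Agent.H6.Induction

/-!
Structure of groups with a Frobenius action (Frobenius complements), part 1.
-/

set_option autoImplicit false

namespace Cfsg.Agent.H9

open Cfsg Pointwise

/-- A finite commutative group with at most `p` solutions of `x ^ p = 1` for all primes `p` is
cyclic. -/
theorem isCyclic_of_comm_of_card_ker_le {A : Type*} [CommGroup A] [Finite A]
    (h : ∀ p : ℕ, p.Prime → Nat.card (powMonoidHom p : A →* A).ker ≤ p) : IsCyclic A := by
  classical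
  have key : ∀ n : ℕ, 0 < n → Nat.card (powMonoidHom n : A →* A).ker ≤ n := by
    intro n
    induction n using Nat.recOnMul with
    | zero => intro h; omega
    | one =>
      intro _
      have : (powMonoidHom 1 : A →* A).ker = ⊥ := by
        ext x; simp
      rw [this]; simp
    | prime p hp => exact fun _ => h p hp
    | mul a b iha ihb =>
      intro hab
      have ha : 0 < a := Nat.pos_of_mul_pos_right hab
      have hb : 0 < b := Nat.pos_of_mul_pos_left hab
      let f : (powMonoidHom (a * b) : A →* A).ker →* (powMonoidHom b : A →* A).ker :=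
        MonoidHom.codRestrict ((powMonoidHom a).comp (Subgroup.subtype _)) _ (by
          intro x
          have := x.2
          simp only [MonoidHom.mem_ker, powMonoidHom_apply] at this
          simp only [MonoidHom.mem_ker, MonoidHom.comp_apply, Subgroup.coe_subtype,
            powMonoidHom_apply, ← pow_mul, this])
      rw [← f.ker.card_mul_index, Subgroup.index_ker]
      refine Nat.mul_le_mul ?_ ?_
      · refine le_trans ?_ (iha ha)
        refine Nat.card_le_card_of_injective
          (fun x => ⟨x.1.1, congrArg Subtype.val (MonoidHom.mem_ker.1 x.2)⟩) ?_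
        intro x y hxy
        have h0 : (x.1.1 : A) = y.1.1 :=
          congrArg (fun z : (powMonoidHom a : A →* A).ker => (z : A)) hxy
        exact Subtype.ext (Subtype.ext h0)
      · exact le_trans (Nat.card_le_card_of_injective _ Subtype.val_injective) (ihb hb)
  have := Fintype.ofFinite A
  refine isCyclic_of_card_pow_eq_one_le fun n hn => ?_
  have h1 := key n hn
  rw [Nat.card_eq_fintype_card, Fintype.card_subtype] at h1
  convert h1 using 2
  ext x
  simp

theorem zpowers_eq_of_mem_of_prime {G : Type*} [Group G] {a k : G} {q : ℕ} (hq : q.Prime)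
    (ha : orderOf a = q) (hk : k ∈ Subgroup.zpowers a) (hk1 : k ≠ 1) :
    Subgroup.zpowers k = Subgroup.zpowers a := by
  have := Fact.mk hq
  have h1 : Nat.card (Subgroup.zpowers a) = q := by rw [Nat.card_zpowers, ha]
  have h2 : a ∈ Subgroup.zpowers k := by
    obtain ⟨n, hn⟩ := mem_zpowers_of_prime_card h1 (g := ⟨k, hk⟩)
      (g' := ⟨a, Subgroup.mem_zpowers a⟩) (fun h => hk1 (congrArg Subtype.val h))
    exact ⟨n, congrArg Subtype.val hn⟩
  exact le_antisymm ((Subgroup.zpowers_le).2 hk) ((Subgroup.zpowers_le).2 h2)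

namespace IsFrobAction

variable {A N : Type*} [Group A] [Group N] [Finite N] [Nontrivial N] {φ : A →* MulAut N}

/-- No subgroup `C_p × C_p`. -/
theorem mem_zpowers_of_commute (hφ : IsFrobAction φ) {p : ℕ} (hp : p.Prime) {a b : A}
    (ha : orderOf a = p) (hb : b ^ p = 1) (hab : Commute a b) : b ∈ Subgroup.zpowers a := by
  by_contra hba
  refine hφ.false_of_coset_pow (F := Subgroup.zpowers a) ?_ (c := b) ?_ hba hp ?_
  · intro h
    rw [Subgroup.zpowers_eq_bot] at h
    rw [h, orderOf_one] at ha
    exact hp.one_lt.ne ha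
  · refine Subgroup.centralizer_le_normalizer _ ?_
    rintro _ ⟨n, rfl⟩
    exact (hab.zpow_left n).eq
  · rintro _ ⟨n, rfl⟩
    rw [(hab.zpow_left n).mul_pow, hb, mul_one, ← zpow_natCast, ← zpow_mul, mul_comm, zpow_mul,
      zpow_natCast, ← ha, pow_orderOf_eq_one, one_zpow]

/-- An element of prime order normalizing a nontrivial abelian subgroup centralizes a
non-identity element of it. -/
theorem exists_commute_of_normalizes (hφ : IsFrobAction φ) {F : Subgroup A} (hF : F ≠ ⊥)
    [IsMulCommutative F] {p : ℕ} (hp : p.Prime) {b : A} (hb : b ^ p = 1)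
    (hbF : b ∈ Subgroup.normalizer (F : Set A)) : ∃ k ∈ F, k ≠ 1 ∧ b * k = k * b := by
  have := hφ.finite
  by_contra hcon
  push Not at hcon
  have hf : ∀ k ∈ F, b * k = k * b → k = 1 := fun k hk hc => by
    by_contra h1
    exact hcon k hk h1 hc
  have hbF' : b ∉ F := by
    intro h
    obtain ⟨⟨k, hk⟩, hk1⟩ := Subgroup.ne_bot_iff_exists_ne_one.1 hF
    exact hk1 (Subtype.ext (hf k hk (setLike_mul_comm (s := F) h hk)))
  refine hφ.false_of_coset_pow hF hbF hbF' hp fun f hf' => ?_
  obtain ⟨m, -, hm⟩ := exists_conj_eq_mul_of_fpf hbF hf hf'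
  rw [← hm, conj_pow, hb]; simp

/-- An element of prime order normalizing a subgroup of prime order centralizes it. -/
theorem commute_of_normalizes (hφ : IsFrobAction φ) {p q : ℕ} (hp : p.Prime) (hq : q.Prime)
    {a b : A} (ha : orderOf a = q) (hb : b ^ p = 1)
    (hba : b ∈ Subgroup.normalizer (Subgroup.zpowers a : Set A)) : Commute a b := by
  obtain ⟨k, hk, hk1, hc⟩ := hφ.exists_commute_of_normalizes (F := Subgroup.zpowers a) (by
    intro h
    rw [Subgroup.zpowers_eq_bot] at h
    rw [h, orderOf_one] at ha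
    exact hq.one_lt.ne ha) hp hb hba
  have : a ∈ Subgroup.zpowers k := by
    rw [zpowers_eq_of_mem_of_prime hq ha hk hk1]; exact Subgroup.mem_zpowers a
  obtain ⟨n, rfl⟩ := this
  exact (Commute.zpow_left (hc.symm : Commute k b) n)

/-- A `p`-subgroup has at most one subgroup of order `p`. -/
theorem mem_zpowers_of_isPGroup (hφ : IsFrobAction φ) {p : ℕ} (hp : p.Prime) {P : Subgroup A}
    (hP : IsPGroup p P) {a b : A} (haP : a ∈ P) (hbP : b ∈ P) (ha : orderOf a = p)
    (hb : b ^ p = 1) : b ∈ Subgroup.zpowers a := by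
  have := hφ.finite
  have := Fact.mk hp
  have ha1 : a ≠ 1 := by
    intro h
    rw [h, orderOf_one] at ha
    exact hp.one_lt.ne ha
  have : Nontrivial P := ⟨⟨⟨a, haP⟩, 1, fun h => ha1 (congrArg Subtype.val h)⟩⟩
  have := hP.center_nontrivial
  have hdvd : p ∣ Nat.card (Subgroup.center P) :=
    (hP.to_subgroup _).card_eq_or_dvd.resolve_left Finite.one_lt_card.ne'
  obtain ⟨z, hz⟩ := exists_prime_orderOf_dvd_card' p hdvd
  have hz' : orderOf ((z : P) : A) = p := by
    rw [Subgroup.orderOf_coe, Subgroup.orderOf_coe, hz]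
  have hc : ∀ x ∈ P, Commute ((z : P) : A) x := fun x hx =>
    (congrArg Subtype.val (Subgroup.mem_center_iff.1 z.2 ⟨x, hx⟩)).symm
  have h1 := hφ.mem_zpowers_of_commute hp hz' (ha ▸ pow_orderOf_eq_one a) (hc a haP)
  rw [zpowers_eq_of_mem_of_prime hp hz' h1 ha1]
  exact hφ.mem_zpowers_of_commute hp hz' hb (hc b hbP)

/-- Subgroups of order `p` of a `p`-subgroup coincide. -/
theorem eq_of_card_eq_prime (hφ : IsFrobAction φ) {p : ℕ} (hp : p.Prime) {P : Subgroup A}
    (hP : IsPGroup p P) {X Y : Subgroup A} (hX : X ≤ P) (hY : Y ≤ P) (hXc : Nat.card X = p)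
    (hYc : Nat.card Y = p) : X = Y := by
  have := hφ.finite
  have := Fact.mk hp
  obtain ⟨a, ha⟩ := exists_prime_orderOf_dvd_card' (G := X) p (hXc ▸ dvd_rfl)
  have ha' : orderOf (a : A) = p := by rw [Subgroup.orderOf_coe, ha]
  symm
  refine Subgroup.eq_of_le_of_card_ge ?_ (by rw [hXc, hYc])
  intro b hb
  refine (Subgroup.zpowers_le.2 a.2) (hφ.mem_zpowers_of_isPGroup hp hP (hX a.2) (hY hb) ha' ?_)
  rw [← hYc]
  exact congrArg Subtype.val (pow_card_eq_one' (x := (⟨b, hb⟩ : Y)))

/-- A commutative group with a Frobenius action is cyclic. -/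
theorem isCyclic_of_comm (hφ : IsFrobAction φ) [hA : IsMulCommutative A] : IsCyclic A := by
  have := hφ.finite
  let _ : CommGroup A := { (inferInstance : Group A) with mul_comm := hA.is_comm.comm }
  refine isCyclic_of_comm_of_card_ker_le fun p hp => ?_
  by_cases h : (powMonoidHom p : A →* A).ker = ⊥
  · rw [h]; simpa using hp.one_lt.le
  · obtain ⟨⟨a, ha⟩, ha1⟩ := Subgroup.ne_bot_iff_exists_ne_one.1 h
    have := Fact.mk hp
    have ha' : orderOf a = p := orderOf_eq_prime ha (fun h => ha1 (Subtype.ext h))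
    refine le_trans (Subgroup.card_le_of_le (K := Subgroup.zpowers a) fun b hb => ?_) ?_
    · exact hφ.mem_zpowers_of_commute hp ha' hb (mul_comm a b)
    · rw [Nat.card_zpowers, ha']

theorem isCyclic_subgroup_of_comm (hφ : IsFrobAction φ) (X : Subgroup A) [IsMulCommutative X] :
    IsCyclic X := (hφ.subtype X).isCyclic_of_comm

/-- A group of order `p q` with a Frobenius action is cyclic. -/
theorem isCyclic_of_card_eq_mul (hφ : IsFrobAction φ) {p q : ℕ} (hp : p.Prime) (hq : q.Prime)
    (h : Nat.card A = p * q) : IsCyclic A := by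
  have := hφ.finite
  wlog hpq : p ≤ q generalizing p q
  · exact this hq hp (by rw [h, mul_comm]) (by omega)
  have := Fact.mk hp
  have := Fact.mk hq
  rcases hpq.eq_or_lt with rfl | hlt
  · have := IsPGroup.isMulCommutative_of_card_eq_prime_sq (p := p) (G := A) (by rw [h, sq])
    exact hφ.isCyclic_of_comm
  · obtain ⟨a, ha⟩ := exists_prime_orderOf_dvd_card' (G := A) q (h ▸ Dvd.intro_left _ rfl)
    obtain ⟨b, hb⟩ := exists_prime_orderOf_dvd_card' (G := A) p (h ▸ Dvd.intro _ rfl)
    have hidx : (Subgroup.zpowers a).index = p := by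
      have h1 := (Subgroup.zpowers a).card_mul_index
      rw [Nat.card_zpowers, ha, h, mul_comm] at h1
      exact Nat.eq_of_mul_eq_mul_right hq.pos h1
    have hn : (Subgroup.zpowers a).Normal := by
      apply Subgroup.normal_of_index_eq_minFac_card
      rw [hidx, h]
      refine le_antisymm ?_ (Nat.minFac_le_of_dvd hp.two_le (Dvd.intro _ rfl))
      have hr : (p * q).minFac.Prime :=
        Nat.minFac_prime (fun h0 => hp.one_lt.ne' (Nat.eq_one_of_mul_eq_one_right h0))
      rcases (Nat.Prime.dvd_mul hr).1 (Nat.minFac_dvd _) with h1 | h1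
      · exact ((Nat.prime_dvd_prime_iff_eq hr hp).1 h1).ge
      · rw [(Nat.prime_dvd_prime_iff_eq hr hq).1 h1]; exact hlt.le
    have hc := hφ.commute_of_normalizes hp hq ha (hb ▸ pow_orderOf_eq_one b)
      (by rw [Subgroup.normalizer_eq_top]; trivial)
    refine isCyclic_of_orderOf_eq_card (a * b) ?_
    rw [hc.orderOf_mul_eq_mul_orderOf_of_coprime, ha, hb, h, mul_comm]
    rw [ha, hb]
    exact (Nat.coprime_primes hq hp).2 hlt.ne'

theorem isCyclic_subgroup_of_card_eq_mul (hφ : IsFrobAction φ) {p q : ℕ} (hp : p.Prime)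
    (hq : q.Prime) (X : Subgroup A) (h : Nat.card X = p * q) : IsCyclic X :=
  (hφ.subtype X).isCyclic_of_card_eq_mul hp hq h

omit [Nontrivial N] in
/-- An involution inverts every element. -/
theorem apply_eq_inv (hφ : IsFrobAction φ) {t : A} (ht : orderOf t = 2) (n : N) :
    φ t n = n⁻¹ := by
  have ht1 : t ≠ 1 := by rintro rfl; simp at ht
  have h1 : MonoidHom.FixedPointFree (φ t) := hφ t ht1
  have h2 : Function.Involutive (φ t) := by
    intro x
    rw [← MulAut.mul_apply, ← map_mul, ← sq, ← ht, pow_orderOf_eq_one, map_one]; rfl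
  exact congrFun (h1.coe_eq_inv_of_involutive h2) n

omit [Nontrivial N] in
theorem isMulCommutative_of_even (hφ : IsFrobAction φ) [Finite A] (h : 2 ∣ Nat.card A) :
    IsMulCommutative N := by
  obtain ⟨t, ht⟩ := exists_prime_orderOf_dvd_card' 2 h
  refine ⟨⟨fun x y => ?_⟩⟩
  have h1 := map_mul (φ t) x⁻¹ y⁻¹
  simp only [hφ.apply_eq_inv ht, mul_inv_rev, inv_inv] at h1
  exact h1.symm

theorem involution_unique (hφ : IsFrobAction φ) {s t : A} (hs : orderOf s = 2)
    (ht : orderOf t = 2) : s = t := by
  apply hφ.injective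
  ext n
  rw [hφ.apply_eq_inv hs, hφ.apply_eq_inv ht]

theorem involution_mem_center (hφ : IsFrobAction φ) {t : A} (ht : orderOf t = 2) :
    t ∈ Subgroup.center A := by
  rw [Subgroup.mem_center_iff]
  intro g
  have := hφ.involution_unique (s := g * t * g⁻¹) (by
    rw [← MulAut.conj_apply, MulEquiv.orderOf_eq, ht]) ht
  rwa [mul_inv_eq_iff_eq_mul] at this

end IsFrobAction

/-- Every Frobenius complement acts as a Frobenius action on its (normal, nontrivial) kernel. -/
theorem frob_exists_isFrobAction {G : Type*} [Group G] [Finite G] {H : Subgroup G}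
    (hH : IsFrobeniusComplement H) :
    ∃ (K : Subgroup G) (_ : K.Normal) (_ : Nontrivial K), frobeniusKernel H = (K : Set G) ∧
      IsFrobAction ((MulAut.conjNormal : G →* MulAut K).comp H.subtype) := by
  obtain ⟨K, hKn, hK, -⟩ := H6.exists_frobeniusKernel hH
  exact ⟨K, hKn, (Subgroup.nontrivial_iff_ne_bot K).2 (frob_kernel_ne_bot hH hK), hK,
    frob_isFrobAction hH hK⟩

end Cfsg.Agent.H9
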