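import Cfsg.Agent.H9.FpfCyc

/-!
Weight spaces of an abelian subgroup and their stabilizers.
-/

set_option autoImplicit false
set_option linter.unusedSectionVars false

namespace Cfsg.Agent.H9

open Subgroup Module
open scoped commutatorElement IsMulCommutative

variable {k V : Type*} [Field k] [AddCommGroup V] [Module k V] {X : Type*} [Group X]

theorem rep_mul_apply (ρ : X →* End k V) (x y : X) (v : V) : ρ (x * y) v = ρ x (ρ y v) := by
  rw [map_mul, End.mul_apply]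

theorem rep_inv_apply (ρ : X →* End k V) (x : X) (v : V) : ρ x⁻¹ (ρ x v) = v := by
  rw [← rep_mul_apply, inv_mul_cancel, map_one, End.one_apply]

theorem rep_apply_inv (ρ : X →* End k V) (x : X) (v : V) : ρ x (ρ x⁻¹ v) = v := by
  rw [← rep_mul_apply, mul_inv_cancel, map_one, End.one_apply]

theorem rep_injective (ρ : X →* End k V) (x : X) : Function.Injective (ρ x) :=
  Function.LeftInverse.injective (rep_inv_apply ρ x)

theorem rep_eq_zero (ρ : X →* End k V) (x : X) {v : V} (h : ρ x v = 0) : v = 0 :=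
  rep_injective ρ x (by rw [h, map_zero])

/-- The weight space of a weight of `Z`. -/
def wsp (ρ : X →* End k V) (Z : Subgroup X) (μ : X → k) : Submodule k V where
  carrier := {v | ∀ z ∈ Z, ρ z v = μ z • v}
  zero_mem' := fun z _ => by simp
  add_mem' := fun ha hb z hz => by rw [map_add, ha z hz, hb z hz, smul_add]
  smul_mem' := fun c v hv z hz => by rw [map_smul, hv z hz, smul_comm]

/-- The stabilizer of a weight of `Z`. -/
def wstab (Z : Subgroup X) (μ : X → k) : Subgroup X where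
  carrier := {x | x ∈ normalizer (Z : Set X) ∧ ∀ z ∈ Z, μ (x⁻¹ * z * x) = μ z}
  one_mem' := ⟨one_mem _, fun z _ => by simp⟩
  mul_mem' := by
    rintro a b ⟨ha, ha'⟩ ⟨hb, hb'⟩
    refine ⟨mul_mem ha hb, fun z hz => ?_⟩
    rw [← ha' z hz, ← hb' _ (H1.conj_mem_of_le_normalizer' le_rfl ha hz)]
    congr 1; group
  inv_mem' := by
    rintro a ⟨ha, ha'⟩
    refine ⟨inv_mem ha, fun z hz => ?_⟩
    rw [← ha' _ (H1.conj_mem_of_le_normalizer' le_rfl (inv_mem ha) hz)]
    congr 1; group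

/-- The elements fixing a subspace pointwise. -/
def fixer (ρ : X →* End k V) (W : Submodule k V) : Subgroup X where
  carrier := {x | ∀ v ∈ W, ρ x v = v}
  one_mem' := fun v _ => by simp
  mul_mem' := fun ha hb v hv => by rw [rep_mul_apply, hb v hv, ha v hv]
  inv_mem' := fun {a} ha v hv => by
    conv_lhs => rw [← ha v hv]
    exact rep_inv_apply ρ a v

variable {ρ : X →* End k V} {Z : Subgroup X} {μ : X → k}

theorem mem_wsp {v : V} : v ∈ wsp ρ Z μ ↔ ∀ z ∈ Z, ρ z v = μ z • v := Iff.rfl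

theorem mem_wstab {x : X} :
    x ∈ wstab Z μ ↔ x ∈ normalizer (Z : Set X) ∧ ∀ z ∈ Z, μ (x⁻¹ * z * x) = μ z := Iff.rfl

theorem mem_fixer {W : Submodule k V} {x : X} : x ∈ fixer ρ W ↔ ∀ v ∈ W, ρ x v = v := Iff.rfl

theorem ker_le_fixer (W : Submodule k V) : ρ.ker ≤ fixer ρ W := fun x hx v _ => by
  rw [MonoidHom.mem_ker.mp hx, End.one_apply]

theorem fix_of_mem_zpowers {g a : X} {v : V} (hv : ρ g v = v) (ha : a ∈ zpowers g) :
    ρ a v = v := by
  have : zpowers g ≤ fixer ρ (Submodule.span k {v}) := zpowers_le.mpr fun w hw => by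
    obtain ⟨c, rfl⟩ := Submodule.mem_span_singleton.mp hw
    rw [map_smul, hv]
  exact this ha v (Submodule.mem_span_singleton_self v)

theorem apply_mem_wsp_conj {x : X} (hx : x ∈ normalizer (Z : Set X)) {v : V}
    (hv : v ∈ wsp ρ Z μ) : ρ x v ∈ wsp ρ Z fun z => μ (x⁻¹ * z * x) := fun z hz => by
  rw [← map_smul, ← hv _ (H1.conj_mem_of_le_normalizer' le_rfl hx hz), ← rep_mul_apply,
    ← rep_mul_apply]
  congr 2; group

theorem apply_mem_wsp {x : X} (hx : x ∈ wstab Z μ) {v : V} (hv : v ∈ wsp ρ Z μ) :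
    ρ x v ∈ wsp ρ Z μ := fun z hz => by
  rw [apply_mem_wsp_conj hx.1 hv z hz]
  simp only [hx.2 z hz]

theorem centralizer_le_wstab : centralizer (Z : Set X) ≤ wstab Z μ := fun x hx =>
  ⟨centralizer_le_normalizer _ hx, fun z hz => by
    rw [mul_assoc, mem_centralizer_iff.mp hx z hz, inv_mul_cancel_left]⟩

theorem wstab_le_normalizer : wstab Z μ ≤ normalizer (Z : Set X) := fun _ hx => hx.1

theorem le_normalizer_fixer {S : Subgroup X} {W : Submodule k V}
    (h : ∀ x ∈ S, ∀ v ∈ W, ρ x v ∈ W) : S ≤ normalizer (fixer ρ W : Set X) := by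
  have key : ∀ x ∈ S, ∀ y ∈ fixer ρ W, x * y * x⁻¹ ∈ fixer ρ W := fun x hx y hy v hv => by
    rw [rep_mul_apply, rep_mul_apply, hy _ (h _ (inv_mem hx) v hv), rep_apply_inv]
  intro x hx
  refine mem_normalizer_iff.mpr fun y => ⟨key x hx y, fun hy => ?_⟩
  simpa [mul_assoc] using key _ (inv_mem hx) _ hy

theorem wstab_le_normalizer_fixer : wstab Z μ ≤ normalizer (fixer ρ (wsp ρ Z μ) : Set X) :=
  le_normalizer_fixer fun _ hx _ hv => apply_mem_wsp hx hv

/-- An element acting as a scalar has commutators acting trivially. -/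
theorem commutator_mem_fixer_of_scalar {W : Submodule k V} {x y : X} {c : k}
    (hx : ∀ v ∈ W, ρ x v = c • v) (hy : ∀ v ∈ W, ρ y v ∈ W) (hx' : ∀ v ∈ W, ρ x⁻¹ v ∈ W)
    (hy' : ∀ v ∈ W, ρ y⁻¹ v ∈ W) : ⁅x, y⁆ ∈ fixer ρ W := fun v hv => by
  rw [commutatorElement_def, rep_mul_apply, rep_mul_apply, rep_mul_apply,
    hx _ (hy _ (hx' _ (hy' v hv))), ← map_smul, ← hx _ (hx' _ (hy' v hv)), rep_apply_inv,
    rep_apply_inv]

theorem commutator_le_fixer (hZ : IsMulCommutative Z) : ⁅Z, wstab Z μ⁆ ≤ fixer ρ (wsp ρ Z μ) := by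
  refine commutator_le.mpr fun z hz x hx => ?_
  exact commutator_mem_fixer_of_scalar (fun v hv => hv z hz) (fun v hv => apply_mem_wsp hx hv)
    (fun v hv => apply_mem_wsp (centralizer_le_wstab (Z.le_centralizer (inv_mem hz))) hv)
    (fun v hv => apply_mem_wsp (inv_mem hx) hv)

/-- The component of a vanishing sum in the weight space vanishes. -/
theorem sum_filter_eq_zero {ι : Type*} (s : Finset ι) (x : ι → X) (v : ι → V)
    (hx : ∀ i ∈ s, x i ∈ normalizer (Z : Set X)) (hv : ∀ i ∈ s, v i ∈ wsp ρ Z μ)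
    (h : ∑ i ∈ s, ρ (x i) (v i) = 0) [DecidablePred fun i => x i ∈ wstab Z μ] :
    ∑ i ∈ s with x i ∈ wstab Z μ, ρ (x i) (v i) = 0 := by
  classical
  let ν : ι → Z → k := fun i z => μ ((x i)⁻¹ * z * x i)
  let ν₀ : Z → k := fun z => μ z
  have h1 := H1.eq_zero_of_sum_weight_eq_zero (fun z : Z => ρ z) id (insert ν₀ (s.image ν))
    (Set.injOn_id _) (fun c => ∑ i ∈ s with ν i = c, ρ (x i) (v i)) (fun c _ z => by
      rw [map_sum, Finset.smul_sum]
      refine Finset.sum_congr rfl fun i hi => ?_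
      obtain ⟨hi, hc⟩ := Finset.mem_filter.mp hi
      rw [apply_mem_wsp_conj (hx i hi) (hv i hi) z z.2, ← hc]; rfl) (by
      rw [Finset.sum_fiberwise_of_maps_to fun i hi =>
        Finset.mem_insert_of_mem (Finset.mem_image_of_mem ν hi), h]) ν₀ (Finset.mem_insert_self _ _)
  rw [← h1]
  refine Finset.sum_congr (Finset.filter_congr fun i hi => ?_) fun _ _ => rfl
  exact ⟨fun h => funext fun z => h.2 z z.2, fun h => ⟨hx i hi, fun z hz => congrFun h ⟨z, hz⟩⟩⟩

/-- A weight vector fixed by its stabilizer in `B` gives a fixed vector of `B`. -/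
theorem eq_zero_of_fix_inf_wstab {B : Subgroup X} [Finite B] (hB : B ≤ normalizer (Z : Set X))
    (hBk : (Nat.card B : k) ≠ 0) (hfix : ∀ v, (∀ b ∈ B, ρ b v = v) → v = 0) {v : V}
    (hv : v ∈ wsp ρ Z μ) (h : ∀ b ∈ B ⊓ wstab Z μ, ρ b v = v) : v = 0 := by
  classical
  let _ := Fintype.ofFinite B
  have h1 := hfix _ fun b hb => rep_sumRep_apply ρ B hb v
  rw [sumRep_eq, LinearMap.sum_apply] at h1
  have h2 := sum_filter_eq_zero Finset.univ (fun b : B => (b : X)) (fun _ => v)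
    (fun b _ => hB b.2) (fun _ _ => hv) h1
  rw [Finset.sum_congr rfl fun b hb => h _ (mem_inf.mpr ⟨b.2, (Finset.mem_filter.mp hb).2⟩),
    Finset.sum_const, ← Nat.cast_smul_eq_nsmul k] at h2
  refine (smul_eq_zero.mp h2).resolve_left fun h3 => hBk ?_
  have h4 : (Finset.univ.filter fun b : B => (b : X) ∈ wstab Z μ).card =
      Nat.card ((wstab Z μ).subgroupOf B) := by
    rw [Nat.card_eq_fintype_card, Fintype.card_subtype]; rfl
  rw [← ((wstab Z μ).subgroupOf B).card_mul_index, Nat.cast_mul, ← h4, h3, zero_mul]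

theorem inf_wstab_ne_bot {B : Subgroup X} [Finite B] (hB : B ≤ normalizer (Z : Set X))
    (hBk : (Nat.card B : k) ≠ 0) (hfix : ∀ v, (∀ b ∈ B, ρ b v = v) → v = 0)
    (h0 : wsp ρ Z μ ≠ ⊥) : B ⊓ wstab Z μ ≠ ⊥ := by
  intro h
  refine h0 (eq_bot_iff.mpr fun v hv => eq_zero_of_fix_inf_wstab hB hBk hfix hv fun b hb => ?_)
  rw [h, mem_bot] at hb
  rw [hb, map_one, End.one_apply]

theorem mem_fixer_of_fix {B : Subgroup X} [Finite B] (hB : B ≤ normalizer (Z : Set X))
    (h : B ⊓ wstab Z μ = ⊥) {y : X} (hy : y ∈ wstab Z μ) (hyB : y ∈ centralizer (B : Set X))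
    (hfix : ∀ v, (∀ b ∈ B, ρ b v = v) → ρ y v = v) : y ∈ fixer ρ (wsp ρ Z μ) := by
  classical
  intro v hv
  let _ := Fintype.ofFinite B
  have h1 := hfix _ fun b hb => rep_sumRep_apply ρ B hb v
  rw [sumRep_eq, LinearMap.sum_apply, map_sum, ← sub_eq_zero, ← Finset.sum_sub_distrib,
    Finset.sum_congr rfl (g := fun b : B => ρ b (ρ y v - v)) fun b _ => by
      rw [map_sub, ← rep_mul_apply, ← rep_mul_apply, mem_centralizer_iff.mp hyB b b.2]] at h1
  have h2 := sum_filter_eq_zero Finset.univ (fun b : B => (b : X)) (fun _ => ρ y v - v)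
    (fun b _ => hB b.2) (fun _ _ => Submodule.sub_mem _ (apply_mem_wsp hy hv) hv) h1
  rw [Finset.sum_eq_single (1 : B)] at h2
  · simpa [sub_eq_zero] using h2
  · intro b hb hb1
    have : (b : X) ∈ B ⊓ wstab Z μ := mem_inf.mpr ⟨b.2, (Finset.mem_filter.mp hb).2⟩
    rw [h, mem_bot] at this
    exact absurd (Subtype.ext this) hb1
  · intro h3
    exact (h3 (Finset.mem_filter.mpr ⟨Finset.mem_univ _, (wstab Z μ).one_mem⟩)).elim

theorem wsp_conj_ne_bot {n : X} (hn : n ∈ normalizer (Z : Set X)) (h0 : wsp ρ Z μ ≠ ⊥) :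
    wsp ρ Z (fun z => μ (n⁻¹ * z * n)) ≠ ⊥ := by
  obtain ⟨v, hv, hv0⟩ := Submodule.exists_mem_ne_zero_of_ne_bot h0
  exact fun h => hv0 (rep_eq_zero ρ n (by simpa [h] using apply_mem_wsp_conj hn hv))

theorem mem_wstab_conj {n : X} (hn : n ∈ normalizer (Z : Set X)) {x : X} :
    x ∈ wstab Z (fun z => μ (n⁻¹ * z * n)) ↔ n⁻¹ * x * n ∈ wstab Z μ := by
  constructor
  · rintro ⟨h1, h2⟩
    refine ⟨mul_mem (mul_mem (inv_mem hn) h1) hn, fun z hz => ?_⟩
    have := h2 _ (H1.conj_mem_of_le_normalizer le_rfl hn hz)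
    simpa [mul_assoc] using this
  · rintro ⟨h1, h2⟩
    refine ⟨by simpa [mul_assoc] using mul_mem (mul_mem hn h1) (inv_mem hn), fun z hz => ?_⟩
    have := h2 _ (H1.conj_mem_of_le_normalizer' le_rfl hn hz)
    simpa [mul_assoc] using this

theorem mem_fixer_conj {n : X} (hn : n ∈ normalizer (Z : Set X)) {x : X}
    (hx : x ∈ fixer ρ (wsp ρ Z fun z => μ (n⁻¹ * z * n))) :
    n⁻¹ * x * n ∈ fixer ρ (wsp ρ Z μ) := fun v hv => by
  rw [rep_mul_apply, rep_mul_apply, hx _ (apply_mem_wsp_conj hn hv), rep_inv_apply]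

theorem exists_wsp [IsAlgClosed k] [FiniteDimensional k V] (hZ : IsMulCommutative Z)
    {N : Subgroup X} [Finite N] (hN : N ≤ Z) (hNk : (Nat.card N : k) ≠ 0) (h : ¬ N ≤ ρ.ker) :
    ∃ μ : X → k, ¬ N ≤ fixer ρ (wsp ρ Z μ) := by
  classical
  have hc : ∀ a ∈ Z, ∀ b ∈ Z, a * b = b * a := fun a ha b hb =>
    (mem_centralizer_iff.mp (Z.le_centralizer hb) a ha)
  let _ := Fintype.ofFinite N
  obtain ⟨μ, v, hv, hv0, hμ⟩ := H1.exists_weight_vector (fun z : Z => ρ z)
    (W := LinearMap.ker (sumRep ρ N)) (fun h0 => h fun x hx => by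
      ext v
      exact LinearMap.ker_eq_bot.mp h0 (LinearMap.congr_fun (sumRep_mul ρ N hx) v))
    (fun z v hv => by
      rw [LinearMap.mem_ker] at hv ⊢
      rw [← map_zero (ρ z), ← hv, sumRep_eq, LinearMap.sum_apply, LinearMap.sum_apply, map_sum]
      exact Finset.sum_congr rfl fun a _ => by
        rw [← rep_mul_apply, ← rep_mul_apply, hc _ (hN a.2) _ z.2])
    (fun a b v _ => by rw [← rep_mul_apply, ← rep_mul_apply, hc _ a.2 _ b.2])
  refine ⟨fun x => if hx : x ∈ Z then μ ⟨x, hx⟩ else 0, fun h1 => hv0 ?_⟩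
  have h2 := sumRep_apply_of_fix ρ N (v := v) fun a ha => h1 ha v fun z hz => by
    simp only [dif_pos hz]; exact hμ ⟨z, hz⟩
  rw [LinearMap.mem_ker.mp hv] at h2
  exact (smul_eq_zero.mp h2.symm).resolve_left hNk

theorem wsp_ne_bot_of_not_le {N : Subgroup X} {W : Submodule k V} (h : ¬ N ≤ fixer ρ W) :
    W ≠ ⊥ := by
  rintro rfl
  exact h fun x _ v hv => by rw [(Submodule.mem_bot k).mp hv, map_zero]

/-- The norm argument. -/
theorem mem_fixer_of_norm [Finite X] (hZ : IsMulCommutative Z) {A : Subgroup X}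
    (hA : A ≤ normalizer (Z : Set X)) (hC : Z ⊓ centralizer (A : Set X) = ⊥)
    (hcop : (Nat.card A).Coprime (Nat.card Z)) {z : X} (hz : z ∈ Z)
    (h : ∀ a ∈ A, a ∉ wstab Z μ → a⁻¹ * z * a ∈ fixer ρ (wsp ρ Z μ)) :
    z ∈ fixer ρ (wsp ρ Z μ) := by
  classical
  by_cases h0 : wsp ρ Z μ = ⊥
  · intro v hv
    rw [h0, Submodule.mem_bot] at hv
    rw [hv, map_zero]
  obtain ⟨v, hv, hv0⟩ := Submodule.exists_mem_ne_zero_of_ne_bot h0
  have hinj : ∀ a b : k, a • v = b • v → a = b := fun a b h => smul_left_injective k hv0 h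
  let ν : Z →* k := ⟨⟨fun z => μ z, hinj _ _ (by rw [← hv _ (1 : Z).2]; simp)⟩,
    fun a b => hinj _ _ (by
      rw [← hv _ (a * b).2, coe_mul, rep_mul_apply, hv _ b.2, map_smul, hv _ a.2, smul_smul,
        mul_comm])⟩
  let _ := Fintype.ofFinite A
  have h1 : H1.normHom (H1.conjAut hA) ⟨z, hz⟩ = 1 := by
    refine Subtype.ext (mem_bot.mp (hC ▸ mem_inf.mpr ⟨SetLike.coe_mem _,
      mem_centralizer_iff.mpr fun a ha => ?_⟩))
    have := congrArg Subtype.val (H1.smul_normHom (H1.conjAut hA) ⟨a, ha⟩ ⟨z, hz⟩)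
    rw [H1.coe_conjAut] at this
    exact mul_inv_eq_iff_eq_mul.mp this
  have h2 := congrArg ν h1
  rw [H1.normHom_apply, map_prod, map_one,
    ← Finset.prod_filter_mul_prod_filter_not Finset.univ fun a : A => (a : X) ∈ wstab Z μ,
    Finset.prod_congr rfl (g := fun _ => ν ⟨z, hz⟩) fun a ha => by
      have := (inv_mem (Finset.mem_filter.mp ha).2).2 z hz
      rw [inv_inv] at this
      exact this,
    Finset.prod_eq_one (s := Finset.univ.filter fun a : A => ¬ (a : X) ∈ wstab Z μ) fun a ha => by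
      have h3 := h _ (inv_mem a.2) (fun h => (Finset.mem_filter.mp ha).2 (inv_mem_iff.mp h)) v hv
      rw [inv_inv, hv _ (H1.conj_mem_of_le_normalizer hA a.2 hz)] at h3
      exact hinj _ _ (h3.trans (one_smul k v).symm),
    mul_one, Finset.prod_const] at h2
  have h4 : (Finset.univ.filter fun b : A => (b : X) ∈ wstab Z μ).card =
      Nat.card ((wstab Z μ).subgroupOf A) := by
    rw [Nat.card_eq_fintype_card, Fintype.card_subtype]; rfl
  have h5 : ν ⟨z, hz⟩ ^ Nat.card Z = 1 := by rw [← map_pow, pow_card_eq_one', map_one]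
  have h6 := pow_gcd_eq_one.mpr ⟨h2, h5⟩
  rw [h4, (hcop.coprime_dvd_left (card_subgroup_dvd_card _)).gcd_eq_one, pow_one] at h6
  intro w hw
  rw [hw z hz, show μ z = 1 from h6, one_smul]

end Cfsg.Agent.H9
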