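/-
Following the cycles of an element: a permutation group of degree `n` with `o` orbits has at most
`2 ^ (n - o)` conjugacy classes.
-/
import Mathlib

set_option autoImplicit false

namespace Cfsg.Agent.H9Tree

open MulAction
open scoped Pointwise

variable {G Ω : Type*} [Group G] [MulAction G Ω]

/-- the set of orbits of a subgroup -/
def orbs (Ω : Type*) [MulAction G Ω] (H : Subgroup G) : Set (Set Ω) :=
  Set.range fun x : Ω => orbit H x

/-- the classes of the elements that agree with `g` on `A` -/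
def cls (A : Set Ω) (g : G) : Set (ConjClasses G) :=
  {c | ∃ x : G, (∀ a ∈ A, x • a = g • a) ∧ ConjClasses.mk x = c}

theorem orbs_le [Finite Ω] (H : Subgroup G) : (orbs Ω H).ncard ≤ Nat.card Ω := by
  rw [orbs, ← Set.image_univ, ← Set.ncard_univ]
  exact Set.ncard_image_le

theorem mem_orb {H : Subgroup G} {x y : Ω} : y ∈ orbit H x ↔ ∃ h ∈ H, h • x = y :=
  ⟨fun ⟨h, e⟩ => ⟨h, h.2, e⟩, fun ⟨h, m, e⟩ => ⟨⟨h, m⟩, e⟩⟩

theorem orbs_split [Finite Ω] {H K : Subgroup G} (hk : H ≤ K) (y : Ω) :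
    (orbs Ω K).ncard + {O ∈ orbs Ω H | O ⊆ orbit K y}.ncard ≤ (orbs Ω H).ncard + 1 := by
  set R := {O ∈ orbs Ω H | O ⊆ orbit K y} with hR
  let π : Set Ω → Set Ω := fun O => {z | ∃ x ∈ O, z ∈ orbit K x}
  have sub : orbs Ω K ⊆ insert (orbit K y) (π '' (orbs Ω H \ R)) := by
    rintro _ ⟨x, rfl⟩
    by_cases h : orbit K x = orbit K y
    · exact Or.inl h
    · refine Or.inr ⟨orbit H x, ⟨⟨x, rfl⟩, fun hx => h ?_⟩, ?_⟩
      · exact orbit_eq_iff.2 (hx.2 (mem_orbit_self x))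
      · ext z
        refine ⟨fun ⟨w, hw, hz⟩ => ?_, fun hz => ⟨x, mem_orbit_self x, hz⟩⟩
        obtain ⟨h, hh, rfl⟩ := mem_orb.1 hw
        obtain ⟨k, hk', rfl⟩ := mem_orb.1 hz
        exact mem_orb.2 ⟨k * h, K.mul_mem hk' (hk hh), mul_smul _ _ _⟩
  have h1 := Set.ncard_le_ncard sub
  have h2 := Set.ncard_insert_le (orbit K y) (π '' (orbs Ω H \ R))
  have h3 : (π '' (orbs Ω H \ R)).ncard ≤ (orbs Ω H \ R).ncard := Set.ncard_image_le
  have h4 := Set.ncard_diff_add_ncard_of_subset (s := R) (t := orbs Ω H) fun O hO => hO.1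
  omega

theorem orbs_conj [Finite Ω] (A : Set Ω) (g : G) :
    (orbs Ω (fixingSubgroup G A)).ncard ≤ (orbs Ω (fixingSubgroup G (g • A))).ncard := by
  refine Set.ncard_le_ncard_of_injOn (fun O => g • O) ?_ (fun _ _ _ _ h => smul_left_cancel g h)
  rintro _ ⟨x, rfl⟩
  refine ⟨g • x, ?_⟩
  ext z
  simp only [Set.mem_smul_set, mem_orb, mem_fixingSubgroup_iff]
  constructor
  · rintro ⟨h, hh, rfl⟩
    refine ⟨_, ⟨g⁻¹ * h * g, fun a ha => ?_, rfl⟩, by simp [mul_smul]⟩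
    rw [mul_smul, mul_smul, hh _ ⟨a, ha, rfl⟩, inv_smul_smul]
  · rintro ⟨_, ⟨h, hh, rfl⟩, rfl⟩
    refine ⟨g * h * g⁻¹, ?_, by simp [mul_smul]⟩
    rintro _ ⟨a, ha, rfl⟩
    simp [mul_smul, hh a ha]

theorem two_mul_le_pow (r : ℕ) : 2 * r ≤ 2 ^ r := by
  rcases r with _ | r
  · simp
  · rw [pow_succ']; exact Nat.mul_le_mul_left _ Nat.lt_two_pow_self

/-- one step: the classes over `A` are covered by classes over `insert a A`. -/
theorem step [Finite Ω] [Finite G] {A : Set Ω} {g : G} {a : Ω} (hA : g • A ⊆ insert a A) {m N : ℕ}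
    (ih : ∀ x : G, (∀ b ∈ A, x • b = g • b) → (cls (insert a A) x).ncard * m ≤ N) :
    (cls A g).ncard * m ≤ {O ∈ orbs Ω (fixingSubgroup G (insert a A)) |
      O ⊆ orbit (fixingSubgroup G (g • A)) (g • a)}.ncard * N := by
  classical
  set H := fixingSubgroup G (insert a A)
  set K := fixingSubgroup G (g • A)
  set R := {O ∈ orbs Ω H | O ⊆ orbit K (g • a)} with hR
  have hk : H ≤ K := fixingSubgroup_antitone G Ω hA
  let C : Set Ω → Set (ConjClasses G) := fun O =>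
    {c | ∃ x : G, (∀ b ∈ A, x • b = g • b) ∧ orbit H (x • a) = O ∧ ConjClasses.mk x = c}
  have hC : ∀ O, (C O).ncard * m ≤ N := by
    intro O
    rcases (C O).eq_empty_or_nonempty with h | ⟨_, x, hx, hO, -⟩
    · simp [h]
    refine le_trans (Nat.mul_le_mul_right _ (Set.ncard_le_ncard ?_)) (ih x hx)
    rintro _ ⟨y, hy, hyO, rfl⟩
    obtain ⟨h, hh, e⟩ := mem_orb.1 (orbit_eq_iff.1 (hO.trans hyO.symm))
    have hh' := (mem_fixingSubgroup_iff G).1 hh
    have hi := (mem_fixingSubgroup_iff G).1 (H.inv_mem hh)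
    refine ⟨h * y * h⁻¹, ?_, ConjClasses.mk_eq_mk_iff_isConj.2 (isConj_iff.2 ⟨h, rfl⟩).symm⟩
    intro b hb
    rw [mul_smul, mul_smul, hi b hb]
    rcases hb with rfl | hb
    · exact e
    · rw [hy b hb, hx b hb]; exact hh' _ (hA ⟨b, hb, rfl⟩)
  have fin : R.Finite := Set.toFinite _
  have sub : cls A g ⊆ ⋃ O ∈ fin.toFinset, C O := by
    rintro _ ⟨x, hx, rfl⟩
    simp only [Set.mem_iUnion, Set.Finite.mem_toFinset]
    refine ⟨orbit H (x • a), ⟨⟨_, rfl⟩, ?_⟩, x, hx, rfl, rfl⟩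
    intro z hz
    obtain ⟨h, hh, rfl⟩ := mem_orb.1 hz
    refine mem_orb.2 ⟨h * (x * g⁻¹), K.mul_mem (hk hh) ((mem_fixingSubgroup_iff G).2 ?_), by
      simp [mul_smul]⟩
    rintro _ ⟨b, hb, rfl⟩
    simp [mul_smul, hx b hb]
  calc (cls A g).ncard * m ≤ (∑ O ∈ fin.toFinset, (C O).ncard) * m :=
        Nat.mul_le_mul_right _ ((Set.ncard_le_ncard sub).trans (Finset.set_ncard_biUnion_le _ _))
    _ = ∑ O ∈ fin.toFinset, (C O).ncard * m := Finset.sum_mul _ _ _
    _ ≤ fin.toFinset.card • N := Finset.sum_le_card_nsmul _ _ _ fun O _ => hC O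
    _ = R.ncard * N := by rw [Set.ncard_eq_toFinset_card R fin, smul_eq_mul]

theorem tree [Finite Ω] [Finite G] [FaithfulSMul G Ω] (n : ℕ) : ∀ (A : Set Ω) (g : G),
    Aᶜ.ncard = n → (g • A ⊆ A ∨ ∃ a, g • A ⊆ insert a A) →
    (cls A g).ncard * 2 ^ (orbs Ω (fixingSubgroup G A)).ncard ≤ 2 ^ Nat.card Ω := by
  induction n with
  | zero =>
    intro A g hA _
    have hA : A = Set.univ := Set.compl_empty_iff.1 ((Set.ncard_eq_zero (Set.toFinite _)).1 hA)
    have : (cls A g).ncard ≤ 1 := by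
      rw [← Set.ncard_singleton (ConjClasses.mk g)]
      refine Set.ncard_le_ncard ?_
      rintro _ ⟨x, hx, rfl⟩
      rw [eq_of_smul_eq_smul fun b : Ω => hx b (hA ▸ trivial)]
      rfl
    calc _ ≤ 1 * 2 ^ Nat.card Ω :=
          Nat.mul_le_mul this (Nat.pow_le_pow_right two_pos (orbs_le _))
      _ = _ := one_mul _
  | succ n ih =>
    intro A g hA hg
    obtain ⟨a, ha, hg⟩ : ∃ a ∉ A, g • A ⊆ insert a A := by
      obtain ⟨b, hb⟩ : Aᶜ.Nonempty := Set.nonempty_of_ncard_ne_zero (by omega)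
      rcases hg with hg | ⟨a, hg⟩
      · exact ⟨b, hb, hg.trans (Set.subset_insert _ _)⟩
      · by_cases ha : a ∈ A
        · exact ⟨b, hb, hg.trans (Set.insert_subset (Or.inr ha) (Set.subset_insert _ _))⟩
        · exact ⟨a, ha, hg⟩
    have hn : (insert a A)ᶜ.ncard = n := by
      have e : (insert a A)ᶜ = Aᶜ \ {a} := by ext; simp [and_comm]
      rw [e, Set.ncard_diff_singleton_of_mem (by exact ha), hA]; rfl
    have h1 := step hg (m := 2 ^ (orbs Ω (fixingSubgroup G (insert a A))).ncard)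
      (N := 2 ^ Nat.card Ω) fun x hx => ih _ x hn (Or.inr ⟨x • a, by
        rintro _ ⟨b, rfl | hb, rfl⟩
        · exact Or.inl rfl
        · exact Or.inr (hg ⟨b, hb, (hx b hb).symm⟩)⟩)
    have h2 := orbs_split (fixingSubgroup_antitone G Ω hg) (g • a)
    have h3 := orbs_conj A g
    set r := {O ∈ orbs Ω (fixingSubgroup G (insert a A)) |
      O ⊆ orbit (fixingSubgroup G (g • A)) (g • a)}.ncard
    have h4 := two_mul_le_pow r
    refine Nat.le_of_mul_le_mul_right ?_ (Nat.two_pow_pos r)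
    calc _ = (cls A g).ncard * 2 ^ ((orbs Ω (fixingSubgroup G A)).ncard + r) := by
          rw [pow_add, mul_assoc]
      _ ≤ (cls A g).ncard * 2 ^ ((orbs Ω (fixingSubgroup G (insert a A))).ncard + 1) :=
          Nat.mul_le_mul_left _ (Nat.pow_le_pow_right two_pos (by omega))
      _ = (cls A g).ncard * 2 ^ (orbs Ω (fixingSubgroup G (insert a A))).ncard * 2 := by
          rw [pow_succ, mul_assoc]
      _ ≤ r * 2 ^ Nat.card Ω * 2 := Nat.mul_le_mul_right _ h1
      _ = 2 ^ Nat.card Ω * (2 * r) := by ring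
      _ ≤ _ := Nat.mul_le_mul_left _ h4

theorem classNum_mul_le (G Ω : Type*) [Group G] [MulAction G Ω] [Finite Ω] [Finite G]
    [FaithfulSMul G Ω] :
    Nat.card (ConjClasses G) * 2 ^ (orbs Ω (⊤ : Subgroup G)).ncard ≤ 2 ^ Nat.card Ω := by
  have h := tree (G := G) _ (∅ : Set Ω) 1 rfl (Or.inl (by simp))
  have e : cls (∅ : Set Ω) (1 : G) = Set.univ := by
    ext c
    obtain ⟨x, rfl⟩ := ConjClasses.exists_rep c
    simpa [cls] using ⟨x, rfl⟩
  rwa [e, Set.ncard_univ, fixingSubgroup_empty] at h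

end Cfsg.Agent.H9Tree
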