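/-
Numerical weights for the refined cycle-following count.
-/
import Mathlib

set_option autoImplicit false

namespace Cfsg.Agent.H9Tree

def vt : List ℚ := [1000, 1000, 1415, 2199, 3528, 5707, 9273, 15072, 24535, 39937, 64952]
def qt : List ℚ := [0, 1000, 2000, 3415, 5660, 9231, 15065, 24495, 39937, 64869, 105635]
def ft : List ℚ := [1, 1, 2, 3, 5, 9, 15, 27, 46, 81, 140]

/-- weight of an orbit -/
def wv (m : ℕ) : ℚ := if m ≤ 10 then vt.getD m 0 / 1000 else (163 / 100) ^ m / 2
/-- weight of the orbit in which the image of the current point lies -/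
def wq (m : ℕ) : ℚ := if m ≤ 10 then qt.getD m 0 / 1000 else (163 / 100) ^ (m + 1) / 2
/-- the bound for the class number -/
def wf (m : ℕ) : ℚ := if m ≤ 10 then ft.getD m 0 else 243 * (173 / 100) ^ (m - 11)

theorem wv_big {m : ℕ} (h : 10 < m) : wv m = (163 / 100) ^ m / 2 := if_neg (by omega)
theorem wq_big {m : ℕ} (h : 10 < m) : wq m = (163 / 100) ^ (m + 1) / 2 := if_neg (by omega)
theorem wf_big {m : ℕ} (h : 10 < m) : wf m = 243 * (173 / 100) ^ (m - 11) := if_neg (by omega)

theorem wv_zero : wv 0 = 1 := by decide +kernel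
theorem wv_one : wv 1 = 1 := by decide +kernel
theorem wq_zero : wq 0 = 0 := by decide +kernel
theorem wq_one : wq 1 = 1 := by decide +kernel

theorem one_le_wv (m : ℕ) : 1 ≤ wv m := by
  by_cases h : m ≤ 10
  · revert m; decide +kernel
  · rw [wv_big (by omega)]
    have : (163 / 100 : ℚ) ^ 2 ≤ (163 / 100) ^ m := pow_le_pow_right₀ (by norm_num) (by omega)
    linarith [show (2 : ℚ) ≤ (163 / 100) ^ 2 by norm_num]

theorem wv_nonneg (m : ℕ) : 0 ≤ wv m := zero_le_one.trans (one_le_wv m)

theorem wq_nonneg (m : ℕ) : 0 ≤ wq m := by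
  by_cases h : m ≤ 10
  · revert m; decide +kernel
  · rw [wq_big (by omega)]; positivity

theorem wv_le {m : ℕ} (h : 4 ≤ m) : wv m ≤ (163 / 100) ^ m / 2 := by
  by_cases h' : m ≤ 10
  · revert m; decide +kernel
  · rw [wv_big (by omega)]

theorem wq_le {m : ℕ} (h : 4 ≤ m) : wq m ≤ (163 / 100) ^ (m + 1) / 2 := by
  by_cases h' : m ≤ 10
  · revert m; decide +kernel
  · rw [wq_big (by omega)]

theorem wqv_le (m : ℕ) : wq m + 163 / 100 * wv m ≤ (163 / 100) ^ (m + 1) := by
  by_cases h' : m ≤ 10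
  · revert m; decide +kernel
  · rw [wq_big (by omega), wv_big (by omega), pow_succ]; linarith

theorem wv_mul (a b : ℕ) : wv a * wv b ≤ wv (a + b) := by
  by_cases h : a + b ≤ 10
  · have : ∀ a ≤ 10, ∀ b ≤ 10, a + b ≤ 10 → wv a * wv b ≤ wv (a + b) := by decide +kernel
    exact this a (by omega) b (by omega) h
  wlog hab : a ≤ b generalizing a b
  · rw [mul_comm, add_comm]; exact this b a (by omega) (by omega)
  rw [wv_big (m := a + b) (by omega), pow_add, mul_div_assoc]
  refine mul_le_mul ?_ (wv_le (by omega)) (wv_nonneg _) (by positivity)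
  have := wqv_le a
  rw [pow_succ] at this
  linarith [wq_nonneg a]

theorem wq_mul (a b : ℕ) : wq a * wv b + wv a * wq b ≤ wq (a + b) := by
  by_cases h : a + b ≤ 10
  · have : ∀ a ≤ 10, ∀ b ≤ 10, a + b ≤ 10 → wq a * wv b + wv a * wq b ≤ wq (a + b) := by
      decide +kernel
    exact this a (by omega) b (by omega) h
  wlog hab : a ≤ b generalizing a b
  · have := this b a (by omega) (by omega)
    rw [add_comm a b]; linarith
  rw [wq_big (m := a + b) (by omega)]
  have h1 := mul_le_mul_of_nonneg_left (wv_le (m := b) (by omega)) (wq_nonneg a)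
  have h2 := mul_le_mul_of_nonneg_left (wq_le (m := b) (by omega)) (wv_nonneg a)
  have h3 := mul_le_mul_of_nonneg_right (wqv_le a) (show (0 : ℚ) ≤ (163 / 100) ^ b / 2 by positivity)
  have e : (163 / 100 : ℚ) ^ (a + b + 1) / 2 = (163 / 100) ^ (a + 1) * ((163 / 100) ^ b / 2) := by
    ring
  rw [e]
  rw [pow_succ] at h2
  linarith

theorem wq_le_wv (m : ℕ) : wq m ≤ wv (m + 1) := by
  by_cases h : m ≤ 9
  · revert m; decide +kernel
  · rw [wv_big (by omega)]; exact wq_le (by omega)

theorem wq_mul_wv (m : ℕ) : wq (m + 1) * wv m ≤ wv (m + 1) * wv (m + 1) := by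
  by_cases h : m ≤ 9
  · revert m; decide +kernel
  · rw [wv_big (m := m + 1) (by omega), wq_big (m := m + 1) (by omega)]
    refine (mul_le_mul_of_nonneg_left (wv_le (m := m) (by omega)) (by positivity)).trans_eq ?_
    ring

theorem wv_mono {a b : ℕ} (h : a ≤ b) : wv a ≤ wv b := by
  obtain ⟨c, rfl⟩ := Nat.exists_eq_add_of_le h
  exact (le_mul_of_one_le_right (wv_nonneg a) (one_le_wv c)).trans (wv_mul a c)

theorem wq_mono {a b : ℕ} (h : a ≤ b) : wq a ≤ wq b := by
  obtain ⟨c, rfl⟩ := Nat.exists_eq_add_of_le h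
  have h1 := le_mul_of_one_le_right (wq_nonneg a) (one_le_wv c)
  have h2 := mul_nonneg (wv_nonneg a) (wq_nonneg c)
  linarith [wq_mul a c]

theorem wf_nonneg (m : ℕ) : 0 ≤ wf m := by
  by_cases h : m ≤ 10
  · revert m; decide +kernel
  · rw [wf_big (by omega)]; positivity

theorem wf_eq {m : ℕ} (h : 10 < m) : wf m = 243 / (173 / 100) ^ 11 * (173 / 100) ^ m := by
  obtain ⟨c, rfl⟩ := Nat.exists_eq_add_of_le (show 11 ≤ m from h)
  rw [wf_big h, Nat.add_sub_cancel_left, pow_add]; field_simp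

theorem wf_le {m : ℕ} (h : 3 ≤ m) : wf m ≤ 243 / (173 / 100) ^ 11 * (173 / 100) ^ m := by
  by_cases h' : m ≤ 10
  · revert m; decide +kernel
  · rw [wf_eq (by omega)]

theorem wf_le' (m : ℕ) : wf m ≤ (173 / 100) ^ m := by
  by_cases h' : m ≤ 2
  · revert m; decide +kernel
  · exact (wf_le (by omega)).trans (mul_le_of_le_one_left (by positivity) (by norm_num))

theorem wf_mul (a b : ℕ) : wf a * wf b ≤ wf (a + b) := by
  by_cases h : a + b ≤ 10
  · have : ∀ a ≤ 10, ∀ b ≤ 10, a + b ≤ 10 → wf a * wf b ≤ wf (a + b) := by decide +kernel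
    exact this a (by omega) b (by omega) h
  wlog hab : a ≤ b generalizing a b
  · rw [mul_comm, add_comm]; exact this b a (by omega) (by omega)
  rw [wf_eq (m := a + b) (by omega)]
  refine (mul_le_mul (wf_le' a) (wf_le (m := b) (by omega)) (wf_nonneg _)
    (by positivity)).trans_eq ?_
  ring

theorem wf_step {m : ℕ} (h : 11 ≤ m) : wf m + wq m ≤ wf (m + 1) := by
  obtain ⟨c, rfl⟩ := Nat.exists_eq_add_of_le h
  rw [wf_big (by omega), wf_big (by omega), wq_big (by omega), Nat.add_sub_cancel_left,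
    show 11 + c + 1 - 11 = c + 1 by omega, show 11 + c + 1 = c + 12 by omega, pow_add,
    pow_succ (173 / 100 : ℚ) c]
  have : (163 / 100 : ℚ) ^ c ≤ (173 / 100) ^ c := pow_le_pow_left₀ (by norm_num) (by norm_num) c
  have h0 : (0 : ℚ) ≤ (163 / 100) ^ c := by positivity
  norm_num
  linarith

theorem wf_sq {m : ℕ} (h : 3 ≤ m) : wf m ^ 2 ≤ 3 ^ (m - 1) := by
  by_cases h' : m ≤ 10
  · revert m; decide +kernel
  · obtain ⟨c, rfl⟩ := Nat.exists_eq_add_of_le (show 11 ≤ m by omega)
    rw [wf_big (by omega), Nat.add_sub_cancel_left, show 11 + c - 1 = 10 + c by omega, pow_add,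
      mul_pow, ← pow_mul, mul_comm c 2, pow_mul]
    exact mul_le_mul (by norm_num) (pow_le_pow_left₀ (by norm_num) (by norm_num) c) (by positivity)
      (by positivity)

section
open Finset
variable {ι : Type*} [DecidableEq ι] (z : ι → ℕ)

theorem prod_wv_le (s : Finset ι) : ∏ i ∈ s, wv (z i) ≤ wv (∑ i ∈ s, z i) := by
  induction s using Finset.induction_on with
  | empty => simp [wv_zero]
  | insert i s hi ih =>
    rw [prod_insert hi, sum_insert hi]
    exact (mul_le_mul_of_nonneg_left ih (wv_nonneg _)).trans (wv_mul _ _)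

theorem sum_wq_le (s : Finset ι) :
    ∑ i ∈ s, wq (z i) * ∏ j ∈ s.erase i, wv (z j) ≤ wq (∑ i ∈ s, z i) := by
  induction s using Finset.induction_on with
  | empty => simp [wq_zero]
  | insert i s hi ih =>
    rw [sum_insert hi, sum_insert hi, erase_insert hi]
    refine le_trans (add_le_add (mul_le_mul_of_nonneg_left (prod_wv_le z s) (wq_nonneg _)) ?_)
      (wq_mul _ _)
    refine le_trans (le_of_eq ?_) (mul_le_mul_of_nonneg_left ih (wv_nonneg _))
    rw [mul_sum]
    refine sum_congr rfl fun j hj => ?_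
    rw [erase_insert_of_ne (by rintro rfl; exact hi hj),
      prod_insert fun h => hi (mem_of_mem_erase h)]
    ring
end

end Cfsg.Agent.H9Tree
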