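/-
The refined cycle-following count: coverings of sets of derangements by classes of stabilisers.
-/
import Cfsg.Agent.H9.Tree
import Cfsg.Agent.H9.TreeNum

set_option autoImplicit false
set_option linter.unusedSectionVars false

namespace Cfsg.Agent.H9Tree

open MulAction
open scoped Pointwise

variable {G Ω : Type*} [Group G] [MulAction G Ω]

/-- `X` is covered by at most `w` classes under conjugation by `M`. -/
def Cov (M : Subgroup G) (X : Set G) (w : ℚ) : Prop :=
  ∃ T : Finset G, (T.card : ℚ) ≤ w ∧ ∀ x ∈ X, ∃ h ∈ M, h * x * h⁻¹ ∈ T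

theorem Cov.mono {M M' : Subgroup G} {X X' : Set G} {w w' : ℚ} (h : Cov M X w) (hM : M ≤ M')
    (hX : X' ⊆ X) (hw : w ≤ w') : Cov M' X' w' := by
  obtain ⟨T, hT, h⟩ := h
  refine ⟨T, hT.trans hw, fun x hx => ?_⟩
  obtain ⟨y, hy, e⟩ := h x (hX hx)
  exact ⟨y, hM hy, e⟩

theorem Cov.sat {M : Subgroup G} {X Y : Set G} {w : ℚ} (h : Cov M Y w)
    (hX : ∀ x ∈ X, ∃ h ∈ M, h * x * h⁻¹ ∈ Y) : Cov M X w := by
  obtain ⟨T, hT, h⟩ := h
  refine ⟨T, hT, fun x hx => ?_⟩
  obtain ⟨y, hy, e⟩ := hX x hx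
  obtain ⟨z, hz, e'⟩ := h _ e
  exact ⟨z * y, M.mul_mem hz hy, by simpa [mul_assoc] using e'⟩

theorem Cov.sum {M : Subgroup G} {ι : Type*} (R : Finset ι) {Y : ι → Set G} {w : ι → ℚ}
    (h : ∀ i ∈ R, Cov M (Y i) (w i)) {X : Set G} (hX : ∀ x ∈ X, ∃ i ∈ R, x ∈ Y i) :
    Cov M X (∑ i ∈ R, w i) := by
  classical
  choose! T hT hc using h
  refine ⟨R.biUnion T, ?_, fun x hx => ?_⟩
  · refine le_trans ?_ (Finset.sum_le_sum hT)
    exact_mod_cast Finset.card_biUnion_le
  · obtain ⟨i, hi, hx⟩ := hX x hx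
    obtain ⟨y, hy, e⟩ := hc i hi x hx
    exact ⟨y, hy, Finset.mem_biUnion.2 ⟨i, hi, e⟩⟩

theorem Cov.add {M : Subgroup G} {Y Z X : Set G} {w w' : ℚ} (h : Cov M Y w) (h' : Cov M Z w')
    (hX : X ⊆ Y ∪ Z) : Cov M X (w + w') := by
  have := Cov.sum (M := M) (Finset.univ : Finset Bool) (Y := fun b => cond b Y Z)
    (w := fun b => cond b w w') (fun b _ => by cases b <;> assumption) (X := X) fun x hx =>
      (hX hx).elim (fun h => ⟨true, by simp, h⟩) fun h => ⟨false, by simp, h⟩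
  simpa using this

theorem cov_empty (M : Subgroup G) {w : ℚ} (hw : 0 ≤ w) : Cov M ∅ w :=
  ⟨∅, by simpa using hw, fun _ h => h.elim⟩

theorem Cov.classNum_le {L : Subgroup G} {w : ℚ} (h : Cov L L w) :
    (Nat.card (ConjClasses L) : ℚ) ≤ w := by
  classical
  obtain ⟨T, hT, h⟩ := h
  refine le_trans ?_ hT
  let φ : G → ConjClasses L := fun y => if hy : y ∈ L then ConjClasses.mk ⟨y, hy⟩ else 1
  have : (Set.univ : Set (ConjClasses L)) ⊆ φ '' T := by
    intro c _
    obtain ⟨x, rfl⟩ := ConjClasses.exists_rep c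
    obtain ⟨y, hy, e⟩ := h x x.2
    have m : y * x * y⁻¹ ∈ L := L.mul_mem (L.mul_mem hy x.2) (L.inv_mem hy)
    refine ⟨_, e, ?_⟩
    simp only [φ, dif_pos m]
    exact ConjClasses.mk_eq_mk_iff_isConj.2 (IsConj.symm (isConj_iff.2 ⟨⟨y, hy⟩, rfl⟩))
  have h1 := (Set.ncard_le_ncard this ((Finset.finite_toSet T).image _)).trans
    (Set.ncard_image_le (Finset.finite_toSet T))
  rw [Set.ncard_univ, Set.ncard_coe_finset] at h1
  exact_mod_cast h1

theorem cov_classNum [Finite G] (L : Subgroup G) : Cov L L (Nat.card (ConjClasses L)) := by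
  classical
  haveI := Fintype.ofFinite (ConjClasses L)
  choose r hr using fun c : ConjClasses L => ConjClasses.exists_rep c
  refine ⟨Finset.univ.image fun c => (r c : G), ?_, fun x hx => ?_⟩
  · rw [Nat.card_eq_fintype_card]; exact_mod_cast Finset.card_image_le
  · obtain ⟨y, e⟩ := isConj_iff.1 (ConjClasses.mk_eq_mk_iff_isConj.1 (hr (ConjClasses.mk ⟨x, hx⟩))).symm
    exact ⟨y, y.2, Finset.mem_image.2 ⟨_, Finset.mem_univ _, (congrArg Subtype.val e).symm⟩⟩

/-- elements that agree with `g` on `A` and fix no point outside `A` -/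
def XS (A : Set Ω) (g : G) : Set G := {x | (∀ a ∈ A, x • a = g • a) ∧ ∀ y ∉ A, x • y ≠ y}

theorem cov_card [Finite G] (M : Subgroup G) (A : Set Ω) (g : G) :
    Cov M (XS A g) (Nat.card (fixingSubgroup G A)) := by
  classical
  haveI := Fintype.ofFinite (fixingSubgroup G A)
  refine ⟨Finset.univ.image fun h : fixingSubgroup G A => g * h, ?_, fun x hx => ⟨1, M.one_mem, ?_⟩⟩
  · rw [Nat.card_eq_fintype_card]; exact_mod_cast Finset.card_image_le
  · refine Finset.mem_image.2 ⟨⟨g⁻¹ * x, (mem_fixingSubgroup_iff G).2 fun a ha => ?_⟩,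
      Finset.mem_univ _, by simp⟩
    rw [mul_smul, hx.1 a ha, inv_smul_smul]

variable (G) in
/-- bound at a closed stage -/
def Fr (A : Set Ω) (w : ℚ) : Prop :=
  ∀ g : G, g • A ⊆ A → Cov (fixingSubgroup G A) (XS A g) w

variable (G) in
/-- bound in the middle of a cycle -/
def Co (A : Set Ω) (a : Ω) (w : ℚ) : Prop :=
  ∀ g : G, g • A ⊆ insert a A → Cov (fixingSubgroup G (insert a A)) (XS A g) w

theorem Fr.co {A : Set Ω} {a : Ω} {w : ℚ} (h : Fr G A w) (ha : a ∈ A) : Co G A a w := by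
  rw [Co, Set.insert_eq_of_mem ha]; exact h

theorem step2 {A : Set Ω} {g : G} {a : Ω} (hA : g • A ⊆ insert a A) {X : Set G} (hX : X ⊆ XS A g)
    (R : Finset (Set Ω)) (w : Set Ω → ℚ) (w0 : ∀ O ∈ R, 0 ≤ w O)
    (hR : ∀ x ∈ X, orbit (fixingSubgroup G (insert a A)) (x • a) ∈ R)
    (hw : ∀ x ∈ X,
      Co G (insert a A) (x • a) (w (orbit (fixingSubgroup G (insert a A)) (x • a)))) :
    Cov (fixingSubgroup G (insert a A)) X (∑ O ∈ R, w O) := by
  set H := fixingSubgroup G (insert a A)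
  refine Cov.sum R (Y := fun O => {x ∈ X | orbit H (x • a) = O}) (fun O hO => ?_)
    fun x hx => ⟨_, hR x hx, hx, rfl⟩
  rcases Set.eq_empty_or_nonempty {x ∈ X | orbit H (x • a) = O} with e | ⟨x, hx, rfl⟩
  · rw [e]; exact cov_empty _ (w0 O hO)
  have h1 := hw x hx x (by
    rintro _ ⟨b, rfl | hb, rfl⟩
    · exact Or.inl rfl
    · exact Or.inr (hA ⟨b, hb, ((hX hx).1 b hb).symm⟩))
  replace hx := hX hx
  refine (h1.mono (fixingSubgroup_antitone G Ω (Set.subset_insert _ _)) subset_rfl le_rfl).sat ?_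
  rintro y ⟨hy, hyO⟩
  replace hy := hX hy
  obtain ⟨h, hh, e⟩ := mem_orb.1 (orbit_eq_iff.1 hyO.symm)
  have hh' := (mem_fixingSubgroup_iff G).1 hh
  have hi := (mem_fixingSubgroup_iff G).1 (H.inv_mem hh)
  refine ⟨h, hh, fun b hb => ?_, fun z hz e' => ?_⟩
  · rw [mul_smul, mul_smul, hi b hb]
    rcases hb with rfl | hb
    · exact e
    · rw [hy.1 b hb, hx.1 b hb]; exact hh' _ (hA ⟨b, hb, rfl⟩)
  · refine hy.2 (h⁻¹ • z) (fun hz' => hz ?_) ?_
    · rw [← smul_inv_smul h z, hh' _ (Or.inr hz')]; exact Or.inr hz'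
    · rw [mul_smul, mul_smul] at e'
      exact eq_inv_smul_iff.2 e'

variable [Finite Ω]

/-- `S` is invariant under `H` -/
def Invt (H : Subgroup G) (S : Set Ω) : Prop := ∀ h ∈ H, ∀ x ∈ S, h • x ∈ S

omit [Finite Ω] in
theorem Invt.compl {H : Subgroup G} {S : Set Ω} (h : Invt H S) : Invt H Sᶜ := fun g hg x hx e =>
  hx (by simpa using h _ (H.inv_mem hg) _ e)

omit [Finite Ω] in
theorem Invt.mono {H K : Subgroup G} {S : Set Ω} (h : Invt K S) (hk : H ≤ K) : Invt H S :=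
  fun g hg => h g (hk hg)

omit [Finite Ω] in
theorem Invt.inter {H : Subgroup G} {S T : Set Ω} (h : Invt H S) (h' : Invt H T) :
    Invt H (S ∩ T) := fun g hg x hx => ⟨h g hg x hx.1, h' g hg x hx.2⟩

omit [Finite Ω] in
theorem invt_orbit (H : Subgroup G) (a : Ω) : Invt H (orbit H a) := by
  intro g hg x hx
  obtain ⟨h, hh, rfl⟩ := mem_orb.1 hx
  exact mem_orb.2 ⟨g * h, H.mul_mem hg hh, mul_smul _ _ _⟩

omit [Finite Ω] in
theorem Invt.orbit_subset {H : Subgroup G} {S : Set Ω} (h : Invt H S) {a : Ω} (ha : a ∈ S) :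
    orbit H a ⊆ S := by
  intro x hx
  obtain ⟨g, hg, rfl⟩ := mem_orb.1 hx
  exact h g hg a ha

omit [Finite Ω] in
theorem invt_fix {A S : Set Ω} (h : S ⊆ A) : Invt (fixingSubgroup G A) S := fun g hg x hx => by
  rwa [(mem_fixingSubgroup_iff G).1 hg x (h hx)]

/-- the orbits of `H` inside `S` -/
noncomputable def ob (H : Subgroup G) (S : Set Ω) : Finset (Set Ω) :=
  (Set.toFinite {O ∈ orbs Ω H | O ⊆ S}).toFinset

theorem mem_ob {H : Subgroup G} {S O : Set Ω} : O ∈ ob H S ↔ (∃ x, orbit H x = O) ∧ O ⊆ S := by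
  simp [ob, orbs]

theorem orbit_mem_ob {H : Subgroup G} {S : Set Ω} (h : Invt H S) {a : Ω} (ha : a ∈ S) :
    orbit H a ∈ ob H S := mem_ob.2 ⟨⟨a, rfl⟩, h.orbit_subset ha⟩

theorem sum_ob_le (H : Subgroup G) (S : Set Ω) : ∑ O ∈ ob H S, O.ncard ≤ S.ncard := by
  classical
  have hd : (ob H S : Set (Set Ω)).PairwiseDisjoint id := by
    intro O hO O' hO' ne
    obtain ⟨⟨x, rfl⟩, -⟩ := mem_ob.1 hO
    obtain ⟨⟨y, rfl⟩, -⟩ := mem_ob.1 hO'
    exact Set.disjoint_left.2 fun z hx hy =>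
      ne ((orbit_eq_iff.2 hx).symm.trans (orbit_eq_iff.2 hy))
  have := Set.Finite.ncard_biUnion (t := (ob H S : Set (Set Ω))) (s := id) (Finset.finite_toSet _)
    (fun _ _ => Set.toFinite _) hd
  rw [finsum_mem_coe_finset] at this
  refine this.symm.le.trans (Set.ncard_le_ncard ?_)
  exact Set.iUnion₂_subset fun O hO => (mem_ob.1 hO).2

/-- product of the weights of the orbits inside `S` -/
noncomputable def PP (H : Subgroup G) (S : Set Ω) : ℚ := ∏ O ∈ ob H S, wv O.ncard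

theorem one_le_PP (H : Subgroup G) (S : Set Ω) : 1 ≤ PP H S :=
  Finset.one_le_prod fun _ _ => one_le_wv _

theorem PP_nonneg (H : Subgroup G) (S : Set Ω) : 0 ≤ PP H S := zero_le_one.trans (one_le_PP H S)

theorem PP_le (H : Subgroup G) (S : Set Ω) : PP H S ≤ wv S.ncard := by
  classical
  exact (prod_wv_le Set.ncard _).trans (wv_mono (sum_ob_le H S))

open Classical in
theorem ob_split {H : Subgroup G} {S : Set Ω} (hS : Invt H S) (T : Set Ω) :
    ob H T = ob H (T ∩ S) ∪ ob H (T ∩ Sᶜ) := by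
  ext O
  simp only [Finset.mem_union, mem_ob, Set.subset_inter_iff]
  constructor
  · rintro ⟨⟨x, rfl⟩, h⟩
    by_cases hx : x ∈ S
    · exact Or.inl ⟨⟨x, rfl⟩, h, hS.orbit_subset hx⟩
    · exact Or.inr ⟨⟨x, rfl⟩, h, hS.compl.orbit_subset hx⟩
  · rintro (h | h) <;> exact ⟨h.1, h.2.1⟩

theorem ob_disj (H : Subgroup G) (S T : Set Ω) : Disjoint (ob H (T ∩ S)) (ob H (T ∩ Sᶜ)) := by
  refine Finset.disjoint_left.2 fun O h h' => ?_
  obtain ⟨⟨x, rfl⟩, h⟩ := mem_ob.1 h
  exact ((mem_ob.1 h').2 (mem_orbit_self x)).2 (h (mem_orbit_self x)).2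

theorem PP_split {H : Subgroup G} {S : Set Ω} (hS : Invt H S) (T : Set Ω) :
    PP H T = PP H (T ∩ S) * PP H (T ∩ Sᶜ) := by
  classical
  rw [PP, PP, PP, ob_split hS, Finset.prod_union (ob_disj _ _ _)]

theorem ob_orbit (H : Subgroup G) (a : Ω) : ob H (orbit H a) = {orbit H a} := by
  ext O
  rw [mem_ob, Finset.mem_singleton]
  constructor
  · rintro ⟨⟨x, rfl⟩, h⟩
    exact orbit_eq_iff.2 (h (mem_orbit_self x))
  · rintro rfl; exact ⟨⟨a, rfl⟩, subset_rfl⟩

theorem PP_orbit (H : Subgroup G) (a : Ω) : PP H (orbit H a) = wv (orbit H a).ncard := by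
  rw [PP, ob_orbit, Finset.prod_singleton]

theorem PP_fix {A S : Set Ω} (h : S ⊆ A) : PP (fixingSubgroup G A) S = 1 := by
  refine Finset.prod_eq_one fun O hO => ?_
  obtain ⟨⟨x, rfl⟩, hx⟩ := mem_ob.1 hO
  have : orbit (fixingSubgroup G A) x = {x} :=
    (invt_fix (Set.singleton_subset_iff.2 (h (hx (mem_orbit_self x))))).orbit_subset rfl
      |>.antisymm (Set.singleton_subset_iff.2 (mem_orbit_self x))
  rw [this, Set.ncard_singleton, wv_one]

theorem PP_refine {H K : Subgroup G} (hk : H ≤ K) (n : ℕ) :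
    ∀ S : Set Ω, S.ncard = n → Invt K S → PP H S ≤ PP K S := by
  induction n using Nat.strong_induction_on with
  | _ n ih =>
  intro S hn hS
  rcases S.eq_empty_or_nonempty with rfl | ⟨a, ha⟩
  · exact ((PP_le H _).trans_eq (by simp [wv_zero])).trans (one_le_PP _ _)
  rw [PP_split ((invt_orbit K a).mono hk), PP_split (invt_orbit K a) S,
    Set.inter_eq_right.2 (hS.orbit_subset ha), PP_orbit]
  refine mul_le_mul (PP_le _ _) (ih _ ?_ _ rfl (hS.inter (invt_orbit K a).compl)) (PP_nonneg _ _)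
    (wv_nonneg _)
  rw [← hn]
  exact Set.ncard_lt_ncard ⟨Set.inter_subset_left, fun h => (h ha).2 (mem_orbit_self a)⟩

omit [Finite Ω] in
theorem orbit_conj (A : Set Ω) (g : G) (x : Ω) :
    orbit (fixingSubgroup G (g • A)) (g • x) = g • orbit (fixingSubgroup G A) x := by
  ext z
  simp only [Set.mem_smul_set, mem_orb, mem_fixingSubgroup_iff]
  constructor
  · rintro ⟨h, hh, rfl⟩
    refine ⟨_, ⟨g⁻¹ * h * g, fun a ha => ?_, rfl⟩, by simp [mul_smul]⟩
    rw [mul_smul, mul_smul, hh _ ⟨a, ha, rfl⟩, inv_smul_smul]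
  · rintro ⟨_, ⟨h, hh, rfl⟩, rfl⟩
    refine ⟨g * h * g⁻¹, ?_, by simp [mul_smul]⟩
    rintro _ ⟨a, ha, rfl⟩
    simp [mul_smul, hh a ha]

theorem PP_conj (A : Set Ω) (g : G) (S : Set Ω) :
    PP (fixingSubgroup G (g • A)) (g • S) = PP (fixingSubgroup G A) S := by
  symm
  refine Finset.prod_bij (fun O _ => g • O) ?_ (fun _ _ _ _ h => smul_left_cancel g h) ?_ ?_
  · intro O hO
    obtain ⟨⟨x, rfl⟩, h⟩ := mem_ob.1 hO
    exact mem_ob.2 ⟨⟨g • x, orbit_conj A g x⟩, Set.smul_set_mono h⟩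
  · intro O hO
    obtain ⟨⟨x, rfl⟩, h⟩ := mem_ob.1 hO
    obtain ⟨y, rfl⟩ := MulAction.surjective g x
    rw [orbit_conj] at h ⊢
    exact ⟨_, mem_ob.2 ⟨⟨y, rfl⟩, Set.smul_set_subset_smul_set_iff.1 h⟩, rfl⟩
  · intro O _
    rw [Set.ncard_smul_set]

/-- the weight of a state whose current orbit is `O` -/
noncomputable def WW (H : Subgroup G) (O : Set Ω) : ℚ := wq O.ncard * PP H Oᶜ

theorem WW_nonneg (H : Subgroup G) (O : Set Ω) : 0 ≤ WW H O :=
  mul_nonneg (wq_nonneg _) (PP_nonneg _ _)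

theorem sum_WW_le {H : Subgroup G} {S : Set Ω} (hS : Invt H S) :
    ∑ O ∈ ob H S, WW H O ≤ wq S.ncard * PP H Sᶜ := by
  classical
  refine le_trans (le_of_eq ?_) (mul_le_mul_of_nonneg_right
    ((sum_wq_le Set.ncard (ob H S)).trans (wq_mono (sum_ob_le H S))) (PP_nonneg _ _))
  rw [Finset.sum_mul]
  refine Finset.sum_congr rfl fun O hO => ?_
  obtain ⟨⟨x, rfl⟩, hx⟩ := mem_ob.1 hO
  rw [WW, PP_split hS, mul_assoc, Set.inter_eq_right.2 (Set.compl_subset_compl.2 hx)]
  congr 2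
  rw [PP]
  congr 1
  ext O
  simp only [Finset.mem_erase, mem_ob, Set.subset_inter_iff]
  constructor
  · rintro ⟨⟨y, rfl⟩, h, h'⟩
    exact ⟨fun e => h (mem_orbit_self y) (e ▸ mem_orbit_self y), ⟨y, rfl⟩, h'⟩
  · rintro ⟨ne, ⟨y, rfl⟩, h⟩
    exact ⟨⟨y, rfl⟩, fun z hy hx => ne ((orbit_eq_iff.2 hy).symm.trans (orbit_eq_iff.2 hx)), h⟩

theorem WW_fix {A : Set Ω} {a : Ω} (ha : a ∈ A) :
    WW (fixingSubgroup G A) (orbit (fixingSubgroup G A) a) = PP (fixingSubgroup G A) (Set.univ : Set Ω) := by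
  have h : ({a} : Set Ω) ⊆ A := Set.singleton_subset_iff.2 ha
  have : orbit (fixingSubgroup G A) a = {a} :=
    (invt_fix h).orbit_subset rfl |>.antisymm (Set.singleton_subset_iff.2 (mem_orbit_self a))
  rw [this, WW, Set.ncard_singleton, wq_one, PP_split (invt_fix h) Set.univ, Set.univ_inter,
    Set.univ_inter, PP_fix h]

omit [Finite Ω] in
theorem XS_orbit {A : Set Ω} {g x : G} (hx : x ∈ XS A g) (a : Ω) :
    x • a ∈ orbit (fixingSubgroup G (g • A)) (g • a) := by
  refine mem_orb.2 ⟨x * g⁻¹, (mem_fixingSubgroup_iff G).2 ?_, by simp [mul_smul]⟩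
  rintro _ ⟨b, hb, rfl⟩
  simp [mul_smul, hx.1 b hb]

theorem ncard_compl_insert {A : Set Ω} {a : Ω} (ha : a ∉ A) {n : ℕ} (hA : Aᶜ.ncard = n + 1) :
    (insert a A)ᶜ.ncard = n := by
  have e : (insert a A)ᶜ = Aᶜ \ {a} := by ext; simp [and_comm]
  rw [e, Set.ncard_sdiff_singleton_of_mem (by exact ha), hA]; rfl

theorem potential [Finite G] [FaithfulSMul G Ω] (n : ℕ) : ∀ A : Set Ω, Aᶜ.ncard = n →
    Fr G A (PP (fixingSubgroup G A) (Set.univ : Set Ω)) ∧
      ∀ a, Co G A a (WW (fixingSubgroup G A) (orbit (fixingSubgroup G A) a)) := by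
  have triv : ∀ A : Set Ω, (∀ a : Ω, orbit (fixingSubgroup G A) a ⊆ {a}) →
      Fr G A (PP (fixingSubgroup G A) (Set.univ : Set Ω)) := by
    intro A hA g _
    refine (cov_card _ A g).mono le_rfl subset_rfl (le_trans (le_of_eq ?_) (one_le_PP _ _))
    have : fixingSubgroup G A = ⊥ := by
      refine (Subgroup.eq_bot_iff_forall _).2 fun h hh => eq_of_smul_eq_smul fun b : Ω => ?_
      rw [one_smul]; exact hA b (mem_orb.2 ⟨h, hh, rfl⟩)
    simp [this]
  induction n with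
  | zero =>
    intro A hA
    have hA : A = Set.univ := Set.compl_empty_iff.1 ((Set.ncard_eq_zero (Set.toFinite _)).1 hA)
    have h := triv A fun a => (invt_fix (by simp [hA])).orbit_subset rfl
    exact ⟨h, fun a => by rw [WW_fix (by simp [hA])]; exact h.co (by simp [hA])⟩
  | succ n ih =>
    intro A hA
    have fr : Fr G A (PP (fixingSubgroup G A) (Set.univ : Set Ω)) := by
      by_cases h : ∀ a : Ω, orbit (fixingSubgroup G A) a ⊆ {a}
      · exact triv A h
      push Not at h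
      obtain ⟨a, h⟩ := h
      have ha : a ∉ A := fun ha => h ((invt_fix (Set.singleton_subset_iff.2 ha)).orbit_subset rfl)
      intro g hg
      have hgA : g • A = A := Set.eq_of_subset_of_ncard_le hg (Set.ncard_smul_set g A).ge
      set L := fixingSubgroup G A with hL
      set H := fixingSubgroup G (insert a A) with hH
      have hk : H ≤ L := fixingSubgroup_antitone G Ω (Set.subset_insert _ _)
      have ia : Invt H {a} := invt_fix (by simp)
      have iS : Invt H (orbit L (g • a) ∩ {a}ᶜ) := ((invt_orbit L _).mono hk).inter ia.compl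
      have h1 := step2 (hg.trans (Set.subset_insert a A)) subset_rfl (ob H (orbit L (g • a) ∩ {a}ᶜ)) (WW H)
        (fun O _ => WW_nonneg _ _)
        (fun x hx => orbit_mem_ob iS ⟨by have := XS_orbit hx a; rwa [hgA] at this, hx.2 a ha⟩)
        fun x _ => (ih _ (ncard_compl_insert ha hA)).2 _
      refine h1.mono hk subset_rfl ((sum_WW_le iS).trans ?_)
      obtain ⟨m, hm⟩ : ∃ m, (orbit L a).ncard = m + 1 := Nat.exists_eq_succ_of_ne_zero
        (Set.ncard_ne_zero_of_mem (mem_orbit_self a))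
      have hm' : (orbit L (g • a)).ncard = m + 1 := by
        have := orbit_conj A g a
        rw [hgA] at this
        rw [this, Set.ncard_smul_set, hm]
      have hm1 : (orbit L a ∩ {a}ᶜ).ncard = m := by
        rw [← Set.sdiff_eq, Set.ncard_sdiff_singleton_of_mem (mem_orbit_self a), hm]; rfl
      have pa : PP H {a} = 1 := PP_fix (by simp)
      by_cases c : a ∈ orbit L (g • a)
      · have e : orbit L (g • a) = orbit L a := (orbit_eq_iff.2 c).symm
        rw [e, hm1, PP_split (invt_orbit L a) Set.univ, Set.univ_inter, Set.univ_inter, PP_orbit,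
          hm, PP_split ia]
        have e1 : (orbit L a ∩ {a}ᶜ)ᶜ ∩ {a} = {a} := by ext; simp +contextual
        have e2 : (orbit L a ∩ {a}ᶜ)ᶜ ∩ {a}ᶜ = (orbit L a)ᶜ := by
          ext y
          have : y = a → y ∈ orbit L a := fun h => by rw [h]; exact mem_orbit_self a
          simp only [Set.mem_inter_iff, Set.mem_compl_iff, Set.mem_singleton_iff]; tauto
        rw [e1, e2, pa, one_mul]
        exact mul_le_mul (wq_le_wv m) (PP_refine hk _ _ rfl (invt_orbit L a).compl) (PP_nonneg _ _)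
          (wv_nonneg _)
      · have e : orbit L (g • a) ∩ {a}ᶜ = orbit L (g • a) :=
          Set.inter_eq_left.2 fun y hy e => c (e ▸ hy)
        have sub : orbit L a ⊆ (orbit L (g • a))ᶜ := (invt_orbit L _).compl.orbit_subset c
        rw [e, hm', PP_split (invt_orbit L (g • a)) Set.univ, Set.univ_inter, Set.univ_inter,
          PP_orbit, hm', PP_split (invt_orbit L a) (orbit L (g • a))ᶜ,
          PP_split ((invt_orbit L a).mono hk) (orbit L (g • a))ᶜ, Set.inter_eq_right.2 sub,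
          PP_orbit, hm, PP_split ia (orbit L a),
          Set.inter_eq_right.2 (Set.singleton_subset_iff.2 (mem_orbit_self a)), pa, one_mul,
          ← mul_assoc, ← mul_assoc]
        refine mul_le_mul ?_ (PP_refine hk _ _ rfl
          ((invt_orbit L _).compl.inter (invt_orbit L a).compl)) (PP_nonneg _ _)
          (mul_nonneg (wv_nonneg _) (wv_nonneg _))
        exact (mul_le_mul_of_nonneg_left ((PP_le _ _).trans_eq (by rw [hm1])) (wq_nonneg _)).trans
          (wq_mul_wv m)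
    refine ⟨fr, fun a => ?_⟩
    by_cases ha : a ∈ A
    · rw [WW_fix ha]; exact fr.co ha
    intro g hg
    set K := fixingSubgroup G (g • A)
    set H := fixingSubgroup G (insert a A)
    have hk : H ≤ K := fixingSubgroup_antitone G Ω hg
    have iS : Invt H (orbit K (g • a)) := (invt_orbit K _).mono hk
    have h1 := step2 hg subset_rfl (ob H (orbit K (g • a))) (WW H) (fun O _ => WW_nonneg _ _)
      (fun x hx => orbit_mem_ob iS (XS_orbit hx a))
      fun x _ => (ih _ (ncard_compl_insert ha hA)).2 _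
    refine h1.mono le_rfl subset_rfl ((sum_WW_le iS).trans ?_)
    refine (mul_le_mul_of_nonneg_left (PP_refine hk _ _ rfl (invt_orbit K _).compl)
      (wq_nonneg _)).trans_eq ?_
    rw [orbit_conj, ← Set.smul_set_compl, PP_conj, Set.ncard_smul_set, WW]

end Cfsg.Agent.H9Tree
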