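/-
Levels of a multiply transitive action and the bounds they give.
-/
import Cfsg.Agent.H9.Tree2

set_option autoImplicit false
set_option linter.unusedSectionVars false

namespace Cfsg.Agent.H9Tree

open MulAction
open scoped Pointwise

variable (G Ω : Type*) [Group G] [MulAction G Ω] [Finite Ω]

def BU (s : ℕ) (U : ℚ) : Prop :=
  ∀ A : Set Ω, A.ncard = s → Cov (fixingSubgroup G A) (fixingSubgroup G A) U

def BV (s : ℕ) (V : ℚ) : Prop := ∀ A : Set Ω, A.ncard = s → Fr G A V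

def BS (s : ℕ) (S : ℚ) : Prop :=
  ∀ A : Set Ω, A.ncard = s → ∃ w : Set Ω → ℚ, (∀ O, 0 ≤ w O) ∧
    ∑ O ∈ ob (fixingSubgroup G A) Aᶜ, w O ≤ S ∧
      ∀ a ∉ A, Co G A a (w (orbit (fixingSubgroup G A) a))

/-- stabilisers of `s` points are transitive on the remaining points -/
def TR (s : ℕ) : Prop :=
  ∀ A : Set Ω, A.ncard = s → ∀ x ∉ A, ∀ y ∉ A, ∃ h ∈ fixingSubgroup G A, h • x = y

variable {G Ω}

theorem Cov.nonneg {M : Subgroup G} {X : Set G} {w : ℚ} (h : Cov M X w) : 0 ≤ w := by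
  obtain ⟨T, hT, -⟩ := h
  exact (Nat.cast_nonneg _).trans hT

theorem exists_not_mem {A : Set Ω} (h : A.ncard < Nat.card Ω) : ∃ a, a ∉ A := by
  by_contra! h'
  rw [Set.eq_univ_of_forall h', Set.ncard_univ] at h
  exact lt_irrefl _ h

theorem cov_out {s : ℕ} {S : ℚ} (hS : BS G Ω (s + 1) S) {A : Set Ω} (hA : A.ncard = s) {a : Ω}
    (ha : a ∉ A) {g : G} (hg : g • A ⊆ insert a A) :
    Cov (fixingSubgroup G (insert a A)) {x ∈ XS A g | x • a ∉ insert a A} S := by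
  obtain ⟨w, w0, hw, h⟩ := hS (insert a A) (by rw [Set.ncard_insert_of_notMem ha, hA])
  exact (step2 hg (fun _ h => h.1) _ w (fun O _ => w0 O)
    (fun x hx => orbit_mem_ob (invt_fix subset_rfl).compl hx.2) fun x hx => h _ hx.2).mono
      le_rfl subset_rfl hw

theorem chain_V {s : ℕ} (hs : s < Nat.card Ω) {S : ℚ} (hS : BS G Ω (s + 1) S) : BV G Ω s S := by
  intro A hA g hg
  obtain ⟨a, ha⟩ := exists_not_mem (hA ▸ hs)
  refine (cov_out hS hA ha (hg.trans (Set.subset_insert a A))).mono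
    (fixingSubgroup_antitone G Ω (Set.subset_insert _ _)) (fun x hx => ⟨hx, ?_⟩) le_rfl
  rintro (e | e)
  · exact hx.2 a ha e
  · have hgA : g • A = A := Set.eq_of_subset_of_ncard_le hg (Set.ncard_smul_set g A).ge
    rw [← hgA] at e
    obtain ⟨b, hb, e⟩ := e
    exact ha (smul_left_cancel x ((hx.1 b hb).trans e) ▸ hb)

theorem chain_Co {s : ℕ} {V S : ℚ} (hV : BV G Ω (s + 1) V) (hS : BS G Ω (s + 1) S) {A : Set Ω}
    (hA : A.ncard = s) {a : Ω} (ha : a ∉ A) : Co G A a (V + S) := by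
  intro g hg
  have hV := hV (insert a A) (by rw [Set.ncard_insert_of_notMem ha, hA])
  refine Cov.add (Y := {x ∈ XS A g | x • a ∈ insert a A}) ?_ (cov_out hS hA ha hg)
    fun x hx => (em (x • a ∈ insert a A)).imp (fun h => ⟨hx, h⟩) fun h => ⟨hx, h⟩
  rcases Set.eq_empty_or_nonempty {x ∈ XS A g | x • a ∈ insert a A} with e | ⟨x, hx, hx'⟩
  · rw [e]; exact cov_empty _ (hV 1 (by simp)).nonneg
  have sub : x • insert a A ⊆ insert a A := by
    rintro _ ⟨b, rfl | hb, rfl⟩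
    · exact hx'
    · exact hg ⟨b, hb, (hx.1 b hb).symm⟩
  refine (hV x sub).mono le_rfl ?_ le_rfl
  rintro y ⟨hy, hy'⟩
  refine ⟨?_, fun z hz => hy.2 z fun h => hz (Or.inr h)⟩
  rintro b (rfl | hb)
  · rw [← Set.eq_of_subset_of_ncard_le sub (Set.ncard_smul_set x _).ge] at hy'
    obtain ⟨c, rfl | hc, e⟩ := hy'
    · exact e.symm
    · exact (ha (smul_left_cancel y ((hy.1 c hc).trans ((hx.1 c hc).symm.trans e)) ▸ hc)).elim
  · rw [hy.1 b hb, hx.1 b hb]

theorem chain_S {s : ℕ} (hs : s < Nat.card Ω) (tr : TR G Ω s) {V S : ℚ} (hV : BV G Ω (s + 1) V)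
    (hS : BS G Ω (s + 1) S) : BS G Ω s (V + S) := by
  intro A hA
  obtain ⟨a, ha⟩ := exists_not_mem (hA ▸ hs)
  have h0 := (chain_Co hV hS hA ha 1 (by simp)).nonneg
  refine ⟨fun _ => V + S, fun _ => h0, ?_, fun a ha => chain_Co hV hS hA ha⟩
  rw [Finset.sum_const, nsmul_eq_mul]
  refine mul_le_of_le_one_left h0 ?_
  have : (ob (fixingSubgroup G A) Aᶜ).card ≤ 1 := by
    refine Finset.card_le_one.2 fun O hO O' hO' => ?_
    obtain ⟨⟨x, rfl⟩, hx⟩ := mem_ob.1 hO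
    obtain ⟨⟨y, rfl⟩, hy⟩ := mem_ob.1 hO'
    exact orbit_eq_iff.2 (mem_orb.2 (tr A hA y (hy (mem_orbit_self y)) x (hx (mem_orbit_self x))))
  exact_mod_cast this

theorem chain_U {s : ℕ} (hs : s < Nat.card Ω) (tr : TR G Ω s) {U S : ℚ} (hU : BU G Ω (s + 1) U)
    (hS : BS G Ω (s + 1) S) : BU G Ω s (U + S) := by
  intro A hA
  obtain ⟨a, ha⟩ := exists_not_mem (hA ▸ hs)
  refine Cov.add (Y := {x ∈ fixingSubgroup G A | ∃ y ∉ A, x • y = y}) ?_
    (chain_V hs hS A hA 1 (by simp)) fun x hx => ?_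
  · refine ((hU (insert a A) (by rw [Set.ncard_insert_of_notMem ha, hA])).mono
      (fixingSubgroup_antitone G Ω (Set.subset_insert _ _)) subset_rfl le_rfl).sat ?_
    rintro x ⟨hx, y, hy, e⟩
    obtain ⟨h, hh, rfl⟩ := tr A hA y hy a ha
    refine ⟨h, hh, (mem_fixingSubgroup_iff G).2 ?_⟩
    rintro b (rfl | hb)
    · simp [mul_smul, e]
    · exact (mem_fixingSubgroup_iff G).1 (mul_mem (mul_mem hh hx) (inv_mem hh)) b hb
  · by_cases h : ∃ y ∉ A, x • y = y
    · exact Or.inl ⟨hx, h⟩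
    · exact Or.inr ⟨fun b hb => by rw [one_smul]; exact (mem_fixingSubgroup_iff G).1 hx b hb,
        fun y hy e => h ⟨y, hy, e⟩⟩

/-- the bound obtained from bounds at level `t` -/
def chU : ℕ → ℚ → ℚ → ℚ → ℚ
  | 0, U, _, _ => U
  | t + 1, U, V, S => chU t (U + S) S (V + S)

theorem chain (t : ℕ) (ht : t ≤ Nat.card Ω) (tr : ∀ s < t, TR G Ω s) {U V S : ℚ}
    (hU : BU G Ω t U) (hV : BV G Ω t V) (hS : BS G Ω t S) : Cov ⊤ (Set.univ : Set G) (chU t U V S) := by
  induction t generalizing U V S with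
  | zero => simpa [chU, fixingSubgroup_empty] using hU ∅ (by simp)
  | succ t ih =>
    exact ih (by omega) (fun s hs => tr s (by omega)) (chain_U ht (tr t (by omega)) hU hS)
      (chain_V ht hS) (chain_S ht (tr t (by omega)) hV hS)

theorem exists_smul_set {t : ℕ} (tr : ∀ s < t, TR G Ω s) (A B : Set Ω) (hA : A.ncard = t)
    (hB : B.ncard = t) : ∃ g : G, g • A = B := by
  induction t generalizing A B with
  | zero =>
    rw [Set.ncard_eq_zero] at hA hB
    exact ⟨1, by rw [hA, hB, one_smul]⟩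
  | succ t ih =>
    obtain ⟨a, A, ha, rfl, hA'⟩ := Set.eq_insert_of_ncard_eq_succ hA
    obtain ⟨b, B, hb, rfl, hB'⟩ := Set.eq_insert_of_ncard_eq_succ hB
    obtain ⟨g, rfl⟩ := ih (fun s hs => tr s (by omega)) A B hA' hB'
    obtain ⟨h, hh, rfl⟩ := tr t (by omega) _ hB' (g • a) (by rwa [Set.smul_mem_smul_set_iff]) b hb
    refine ⟨h * g, ?_⟩
    rw [Set.smul_set_insert, mul_smul, mul_smul]
    congr 1
    exact Set.eq_of_subset_of_ncard_le
      (by rintro _ ⟨c, hc, rfl⟩; exact invt_fix subset_rfl h hh c hc) (Set.ncard_smul_set _ _).ge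

theorem orbit_lt {t : ℕ} (tr : ∀ s < t, TR G Ω s) (nt : ¬ TR G Ω t) {A : Set Ω} (hA : A.ncard = t)
    {x : Ω} (hx : x ∉ A) : (orbit (fixingSubgroup G A) x).ncard + t < Nat.card Ω := by
  have sub : orbit (fixingSubgroup G A) x ⊆ Aᶜ := (invt_fix subset_rfl).compl.orbit_subset hx
  rw [← Set.ncard_add_ncard_compl A, hA, add_comm]
  refine Nat.add_lt_add_left (Set.ncard_lt_ncard ⟨sub, fun h => nt fun B hB y hy z hz => ?_⟩) _
  obtain ⟨g, rfl⟩ := exists_smul_set tr A B hA hB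
  have e : orbit (fixingSubgroup G (g • A)) (g • x) = (g • A)ᶜ := by
    rw [orbit_conj, sub.antisymm h, Set.smul_set_compl]
  have hy' : y ∈ orbit (fixingSubgroup G (g • A)) (g • x) := e ▸ hy
  have hz' : z ∈ orbit (fixingSubgroup G (g • A)) (g • x) := e ▸ hz
  rw [← orbit_eq_iff.2 hy'] at hz'
  exact mem_orb.1 hz'

variable (G Ω) in
/-- the stabiliser of any `t` points leaves a set of `a` further points invariant -/
def Sp (t a : ℕ) : Prop :=
  ∀ A : Set Ω, A.ncard = t → ∃ D ⊆ Aᶜ, Invt (fixingSubgroup G A) D ∧ D.ncard = a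

theorem ncard_rest {A D : Set Ω} (h : D ⊆ Aᶜ) : (Aᶜ ∩ Dᶜ).ncard = Nat.card Ω - A.ncard - D.ncard := by
  rw [← Set.sdiff_eq, Set.ncard_sdiff h, Set.ncard_compl]

variable [Finite G] [FaithfulSMul G Ω]

theorem Sp.bv {t a : ℕ} (h : Sp G Ω t a) : BV G Ω t (wv a * wv (Nat.card Ω - t - a)) := by
  intro A hA g hg
  obtain ⟨D, hD, iD, rfl⟩ := h A hA
  refine ((potential _ A rfl).1 g hg).mono le_rfl subset_rfl ?_
  rw [PP_split (invt_fix subset_rfl), Set.univ_inter, Set.univ_inter, PP_fix subset_rfl, one_mul,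
    PP_split iD, Set.inter_eq_right.2 hD, ← hA, ← ncard_rest hD]
  exact mul_le_mul (PP_le _ _) (PP_le _ _) (PP_nonneg _ _) (wv_nonneg _)

theorem Sp.bs {t a : ℕ} (h : Sp G Ω t a) :
    BS G Ω t (wq a * wv (Nat.card Ω - t - a) + wv a * wq (Nat.card Ω - t - a)) := by
  classical
  intro A hA
  obtain ⟨D, hD, iD, rfl⟩ := h A hA
  refine ⟨WW (fixingSubgroup G A), WW_nonneg _, ?_, fun a _ => (potential _ A rfl).2 a⟩
  have iA : Invt (fixingSubgroup G A) A := invt_fix subset_rfl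
  rw [ob_split iD, Finset.sum_union (ob_disj _ _ _), Set.inter_eq_right.2 hD, ← hA, ← ncard_rest hD,
    mul_comm (wv D.ncard)]
  refine add_le_add ((sum_WW_le iD).trans ?_) ((sum_WW_le (iA.compl.inter iD.compl)).trans ?_) <;>
    refine mul_le_mul_of_nonneg_left ?_ (wq_nonneg _) <;>
    rw [PP_split iA, PP_fix Set.inter_subset_right, one_mul]
  · rw [Set.inter_comm]; exact PP_le _ _
  · have : (Aᶜ ∩ Dᶜ)ᶜ ∩ Aᶜ = D := by
      ext y
      have := @hD y
      simp only [Set.mem_inter_iff, Set.mem_compl_iff] at this ⊢; tauto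
    rw [this]; exact PP_le _ _

theorem small_U {t s : ℕ} (h : ∀ A : Set Ω, A.ncard = t → Nat.card (fixingSubgroup G A) ≤ s) :
    BU G Ω t s := fun A hA => (cov_classNum _).mono le_rfl subset_rfl (Nat.cast_le.2
      ((Nat.card_le_card_of_surjective _ ConjClasses.mk_surjective).trans (h A hA)))

theorem small_V {t s : ℕ} (h : ∀ A : Set Ω, A.ncard = t → Nat.card (fixingSubgroup G A) ≤ s) :
    BV G Ω t s := fun A hA g _ => (cov_card _ A g).mono le_rfl subset_rfl (Nat.cast_le.2 (h A hA))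

theorem small_S {t s a : ℕ} (h : ∀ A : Set Ω, A.ncard = t → Nat.card (fixingSubgroup G A) ≤ s ∧
    ∃ x ∉ A, (orbit (fixingSubgroup G A) x).ncard = a) :
    BS G Ω t ((Nat.card Ω - t - a + 1 : ℕ) * s) := by
  classical
  intro A hA
  obtain ⟨h', x, hx, rfl⟩ := h A hA
  refine ⟨fun _ => s, fun _ => Nat.cast_nonneg _, ?_, fun a _ g _ =>
    (cov_card _ A g).mono le_rfl subset_rfl (Nat.cast_le.2 h')⟩
  rw [Finset.sum_const, nsmul_eq_mul]
  refine mul_le_mul_of_nonneg_right (Nat.cast_le.2 ?_) (Nat.cast_nonneg _)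
  have sub : orbit (fixingSubgroup G A) x ⊆ Aᶜ := (invt_fix subset_rfl).compl.orbit_subset hx
  rw [ob_split (invt_orbit _ x), Finset.card_union_of_disjoint (ob_disj _ _ _),
    Set.inter_eq_right.2 sub, ob_orbit, Finset.card_singleton, add_comm, ← hA, ← ncard_rest sub]
  refine Nat.add_le_add_right (le_trans ?_ (sum_ob_le (fixingSubgroup G A) _)) _
  rw [Finset.card_eq_sum_ones]
  refine Finset.sum_le_sum fun O hO => ?_
  obtain ⟨⟨y, rfl⟩, -⟩ := mem_ob.1 hO
  exact Nat.pos_of_ne_zero (Set.ncard_ne_zero_of_mem (mem_orbit_self y))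

variable (G) in
/-- `A` is a base -/
def Bs (A : Set Ω) : Prop := ∀ g : G, (∀ x ∈ A, g • x = x) → g = 1

theorem Bs.smul {A : Set Ω} (h : Bs G A) (g : G) : Bs G (g • A) := fun y hy => by
  have := h (g⁻¹ * y * g) fun x hx => by rw [mul_smul, mul_smul, hy _ ⟨x, hx, rfl⟩, inv_smul_smul]
  simpa [mul_assoc, inv_mul_eq_one] using this

theorem Bs.card_le {A : Set Ω} {x : Ω} (h : Bs G (insert x A)) :
    Nat.card (fixingSubgroup G A) ≤ (orbit (fixingSubgroup G A) x).ncard := by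
  rw [← Nat.card_coe_set_eq]
  refine Nat.card_le_card_of_injective (fun g => ⟨g • x, g, rfl⟩) fun g g' e => ?_
  have e : (g : G) • x = (g' : G) • x := congrArg Subtype.val e
  have := h (g⁻¹ * g' : fixingSubgroup G A) (by
    rintro b (rfl | hb)
    · simp [mul_smul, ← e]
    · exact (mem_fixingSubgroup_iff G).1 (g⁻¹ * g').2 b hb)
  exact inv_mul_eq_one.1 (Subtype.ext this)

end Cfsg.Agent.H9Tree
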