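/-
Class numbers of the alternating and symmetric groups of degree `3, …, 6`.
-/
import Cfsg.Agent.H9.Tree2
import Cfsg.Agent.S4198

set_option autoImplicit false

namespace Cfsg.Agent.H9Tree

open Equiv

def types6 : Finset (Multiset ℕ) :=
  {0, {2}, {3}, {4}, {5}, {6}, {2, 2}, {2, 3}, {2, 4}, {3, 3}, {2, 2, 2}}

theorem mem_types6 (m : Multiset ℕ) (h : ∀ a ∈ m, 2 ≤ a) (hs : m.sum ≤ 6) : m ∈ types6 := by
  have hc : m.card * 2 ≤ m.sum := by simpa using Multiset.card_nsmul_le_sum h
  have : m.card = 0 ∨ m.card = 1 ∨ m.card = 2 ∨ m.card = 3 := by omega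
  rcases this with e | e | e | e
  · rw [Multiset.card_eq_zero.1 e]; decide
  · obtain ⟨a, rfl⟩ := Multiset.card_eq_one.1 e
    simp only [Multiset.mem_singleton, forall_eq, Multiset.sum_singleton] at h hs
    interval_cases a <;> decide
  · obtain ⟨a, b, rfl⟩ := Multiset.card_eq_two.1 e
    have ha := h a (by simp)
    have hb := h b (by simp)
    have hs : a + b ≤ 6 := by simpa using hs
    have : a ≤ 4 := by omega
    have : b ≤ 4 := by omega
    interval_cases a <;> interval_cases b <;> first | omega | decide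
  · obtain ⟨a, b, c, rfl⟩ := Multiset.card_eq_three.1 e
    have ha := h a (by simp)
    have hb := h b (by simp)
    have hc := h c (by simp)
    have hs : a + (b + c) ≤ 6 := by simpa using hs
    obtain rfl : a = 2 := by omega
    obtain rfl : b = 2 := by omega
    obtain rfl : c = 2 := by omega
    decide

theorem classNum_perm_small (n : ℕ) (hn : n ≤ 6) :
    Nat.card (ConjClasses (Perm (Fin n))) ≤ (types6.filter fun m => m.sum ≤ n).card := by
  let T : ConjClasses (Perm (Fin n)) → Multiset ℕ := Quotient.lift Perm.cycleType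
    fun _ _ h => Perm.isConj_iff_cycleType_eq.1 h
  have hT : Function.Injective T := by
    intro c d
    obtain ⟨x, rfl⟩ := ConjClasses.exists_rep c
    obtain ⟨y, rfl⟩ := ConjClasses.exists_rep d
    exact fun h => ConjClasses.mk_eq_mk_iff_isConj.2 (Perm.isConj_iff_cycleType_eq.2 h)
  rw [← Nat.card_eq_finsetCard]
  refine Nat.card_le_card_of_injective (fun c => ⟨T c, ?_⟩) fun c d h => hT (congrArg Subtype.val h)
  obtain ⟨x, rfl⟩ := ConjClasses.exists_rep c
  have hs : x.cycleType.sum ≤ n := by simpa using x.sum_cycleType_le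
  exact Finset.mem_filter.2 ⟨mem_types6 _ (fun a => Perm.two_le_of_mem_cycleType) (hs.trans hn), hs⟩

theorem classNum_alt_four : (Nat.card (ConjClasses (alternatingGroup (Fin 4))) : ℚ) ≤ 4 := by
  refine Cov.classNum_le ⟨{1, swap 0 1 * swap 2 3, swap 0 1 * swap 1 2, swap 1 2 * swap 0 1},
    by exact_mod_cast Finset.card_le_four, ?_⟩
  simp only [SetLike.mem_coe, Perm.mem_alternatingGroup]
  decide +kernel

theorem classNum_le_card (G : Type*) [Group G] [Finite G] :
    Nat.card (ConjClasses G) ≤ Nat.card G :=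
  Nat.card_le_card_of_surjective _ ConjClasses.mk_surjective

theorem classNum_congr {G H : Type*} [Group G] [Group H] [Finite G] (e : G ≃* H) :
    Nat.card (ConjClasses H) ≤ Nat.card (ConjClasses G) :=
  Nat.card_le_card_of_surjective _ (ConjClasses.map_surjective (f := e.toMonoidHom) e.surjective)

theorem small_alt {n : ℕ} (h3 : 3 ≤ n) (h6 : n ≤ 6) (G : Subgroup (Perm (Fin n)))
    (hG : alternatingGroup (Fin n) ≤ G) : (Nat.card (ConjClasses G) : ℚ) ≤ wf n := by
  haveI : Nontrivial (Fin n) := Fin.nontrivial_iff_two_le.2 (by omega)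
  have hS : (Nat.card (ConjClasses (Perm (Fin n))) : ℚ) ≤ wf n := by
    refine le_trans (Nat.cast_le.2 (classNum_perm_small n h6)) ?_
    interval_cases n <;> decide +kernel
  have hi : G.index ∣ 2 := alternatingGroup.index_eq_two (α := Fin n) ▸ Subgroup.index_dvd_of_le hG
  rcases (Nat.dvd_prime Nat.prime_two).1 hi with h | h
  · rw [Subgroup.index_eq_one.1 h]
    exact le_trans (Nat.cast_le.2 (classNum_congr Subgroup.topEquiv.symm)) hS
  rw [Perm.eq_alternatingGroup_of_index_eq_two h]
  by_cases h5 : 5 ≤ n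
  · exact le_trans (Nat.cast_le.2 (S4198.result n h5).1.le) hS
  interval_cases n
  · refine le_trans (Nat.cast_le.2 (classNum_le_card _)) ?_
    rw [Nat.card_eq_fintype_card, card_alternatingGroup]; decide +kernel
  · exact classNum_alt_four.trans (by decide +kernel)

end Cfsg.Agent.H9Tree
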