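/-
A permutation group of degree `n ≥ 3` that is solvable or of order not divisible by `105` has at
most `3 ^ ((n - 1) / 2)` conjugacy classes.
-/
import Cfsg.Agent.H9.Tree3
import Cfsg.Agent.H9.TreeSmall
import Cfsg.Agent.Cj.PermK

set_option autoImplicit false
set_option linter.unusedSectionVars false

namespace Cfsg.Agent.H9Tree

open MulAction Equiv
open scoped Pointwise

local notation "𝐤(" G ")" => Nat.card (ConjClasses G)

/-- the class of groups considered -/
def CC (G : Type*) [Group G] : Prop := ¬ 105 ∣ Nat.card G ∨ Group.IsSolvable G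

theorem CC.subgroup {G : Type*} [Group G] (h : CC G) (H : Subgroup G) : CC H :=
  h.imp (fun h h' => h (h'.trans H.card_subgroup_dvd_card)) fun (_ : Group.IsSolvable G) =>
    inferInstance

theorem CC.range {G H : Type*} [Group G] [Group H] (h : CC G) (f : G →* H) : CC f.range :=
  h.imp (fun h h' => h (h'.trans (Subgroup.card_range_dvd f))) 
    fun (_ : Group.IsSolvable G) => Group.isSolvable_of_surjective f.rangeRestrict_surjective

theorem CC.of_injective {G H : Type*} [Group G] [Group H] (h : CC G) {f : H →* G}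
    (hf : Function.Injective f) : CC H :=
  h.imp (fun h h' => h (h'.trans (Subgroup.card_dvd_of_injective f hf))) 
    fun (_ : Group.IsSolvable G) => Group.isSolvable_of_isSolvable_injective hf

def PN (n : ℕ) : Prop := ∀ G : Subgroup (Perm (Fin n)), CC G → (𝐤(G) : ℚ) ≤ wf n

theorem exists_res {G Ω : Type*} [Group G] [MulAction G Ω] [Finite Ω] {D : Set Ω}
    (hD : ∀ g : G, ∀ x ∈ D, g • x ∈ D) :
    ∃ f : G →* Perm (Fin D.ncard), ∀ g, f g = 1 ↔ ∀ x ∈ D, g • x = x := by
  let A : SubMulAction G Ω := ⟨D, fun g x hx => hD g x hx⟩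
  have e : A ≃ Fin D.ncard := Finite.equivFinOfCardEq (Nat.card_coe_set_eq D)
  refine ⟨e.permCongrHom.toMonoidHom.comp (toPermHom G A), fun g => ?_⟩
  rw [MonoidHom.comp_apply, MulEquiv.coe_toMonoidHom, map_eq_one_iff _ e.permCongrHom.injective,
    Perm.ext_iff]
  exact ⟨fun h x hx => congrArg Subtype.val (h ⟨x, hx⟩), fun h x => Subtype.ext (h x x.2)⟩

theorem two_sets {G Ω : Type*} [Group G] [Finite G] [MulAction G Ω] [Finite Ω] (hG : CC G)
    {D E : Set Ω} (hD : ∀ g : G, ∀ x ∈ D, g • x ∈ D) (hE : ∀ g : G, ∀ x ∈ E, g • x ∈ E)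
    (hf : ∀ g : G, (∀ x ∈ D, g • x = x) → (∀ x ∈ E, g • x = x) → g = 1)
    (pD : PN D.ncard) (pE : PN E.ncard) : (𝐤(G) : ℚ) ≤ wf D.ncard * wf E.ncard := by
  obtain ⟨f, hf1⟩ := exists_res hD
  obtain ⟨f', hf2⟩ := exists_res (G := f.ker) (D := E) fun g => hE g
  have inj : Function.Injective f' := (injective_iff_map_eq_one f').2 fun g hg =>
    Subtype.ext (hf g ((hf1 g).1 g.2) ((hf2 g).1 hg))
  have h1 := pD _ (hG.range f)
  have h2 := pE _ ((hG.subgroup _).range f')
  have h3 := classNum_congr (MonoidHom.ofInjective inj).symm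
  have h4 := Cj.classNum_le_ker_mul f
  calc (𝐤(G) : ℚ) ≤ 𝐤(f'.range) * 𝐤(f.range) := by
        exact_mod_cast h4.trans (Nat.mul_le_mul_right _ h3)
    _ ≤ _ := by rw [mul_comm]; exact mul_le_mul h1 h2 (Nat.cast_nonneg _) (wf_nonneg _)

theorem Sp.bu {G Ω : Type*} [Group G] [Finite G] [MulAction G Ω] [Finite Ω] [FaithfulSMul G Ω]
    (hG : CC G) {t a : ℕ} (h : Sp G Ω t a) (p1 : PN a) (p2 : PN (Nat.card Ω - t - a)) :
    BU G Ω t (wf a * wf (Nat.card Ω - t - a)) := by
  intro A hA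
  obtain ⟨D, hD, iD, rfl⟩ := h A hA
  refine (cov_classNum _).mono le_rfl subset_rfl ?_
  rw [← hA, ← ncard_rest hD] at p2 ⊢
  refine two_sets (hG.subgroup _) (fun g => iD g g.2)
    (fun g => ((invt_fix subset_rfl).compl.inter iD.compl) g g.2) (fun g h1 h2 => ?_) p1 p2
  refine eq_of_smul_eq_smul fun x : Ω => ?_
  rw [one_smul]
  by_cases hx : x ∈ A
  · exact (mem_fixingSubgroup_iff G).1 g.2 x hx
  by_cases hx' : x ∈ D
  exacts [h1 x hx', h2 x ⟨hx, hx'⟩]

theorem cov_top {G : Type*} [Group G] [Finite G] {w : ℚ} (h : Cov ⊤ (Set.univ : Set G) w) :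
    (𝐤(G) : ℚ) ≤ w :=
  le_trans (Nat.cast_le.2 (classNum_congr Subgroup.topEquiv)) (Cov.classNum_le (L := ⊤) h)

theorem le_wf_of_lt {n k : ℕ} (hn : n ≤ 11) (h : (k : ℚ) < wf n + 1) : (k : ℚ) ≤ wf n := by
  have : ∀ n ≤ 11, wf n = ((wf n).num : ℚ) := by decide +kernel
  rw [this n hn] at h ⊢
  exact_mod_cast Int.lt_add_one_iff.1 (by exact_mod_cast h : (k : ℤ) < (wf n).num + 1)

theorem sp_orbit {G Ω : Type*} [Group G] [MulAction G Ω] [Finite Ω] {t : ℕ}
    (tr : ∀ s < t, TR G Ω s) {A : Set Ω} (hA : A.ncard = t) {x : Ω} (hx : x ∉ A) :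
    Sp G Ω t (orbit (fixingSubgroup G A) x).ncard := by
  intro B hB
  obtain ⟨g, rfl⟩ := exists_smul_set tr A B hA hB
  refine ⟨_, (invt_fix subset_rfl).compl.orbit_subset (a := g • x)
    (by simpa [Set.smul_mem_smul_set_iff] using hx), invt_orbit _ _, ?_⟩
  rw [orbit_conj, Set.ncard_smul_set]

theorem jordan_base {n : ℕ} {G : Subgroup (Perm (Fin n))} (hG : IsPreprimitive G (Fin n))
    (hA : ¬ alternatingGroup (Fin n) ≤ G) {C : Set (Fin n)} (hC : n ≤ C.ncard + 3) : Bs G C := by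
  classical
  intro g hg
  by_contra ne
  have ne' : (g : Perm (Fin n)) ≠ 1 := fun h => ne (Subtype.ext h)
  have h2 := Perm.two_le_card_support_of_ne_one ne'
  have h3 : (g : Perm (Fin n)).support.card ≤ Cᶜ.ncard := by
    rw [← Set.ncard_coe_finset]
    exact Set.ncard_le_ncard fun x hx hc => Perm.mem_support.1 hx (hg x hc)
  rw [Set.ncard_compl, Nat.card_fin] at h3
  rcases (show (g : Perm (Fin n)).support.card = 2 ∨ (g : Perm (Fin n)).support.card = 3 by omega)
    with h | h
  · exact hA (by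
      rw [Perm.subgroup_eq_top_of_isPreprimitive_of_isSwap_mem hG g
        (Perm.card_support_eq_two.1 h) g.2]; exact le_top)
  · exact hA (Perm.alternatingGroup_le_of_isPreprimitive_of_isThreeCycle_mem hG
      (card_support_eq_three_iff.1 h) g.2)

theorem alt_not_CC {n : ℕ} (hn : 7 ≤ n) : ¬ CC (alternatingGroup (Fin n)) := by
  haveI : Nontrivial (Fin n) := Fin.nontrivial_iff_two_le.2 (by omega)
  rintro (h | h)
  · refine h (Nat.Coprime.dvd_of_dvd_mul_left (k := 105) (m := 2) (by norm_num) ?_)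
    rw [two_mul_nat_card_alternatingGroup, Nat.card_perm, Nat.card_fin]
    exact Dvd.dvd.trans (by decide) (Nat.factorial_dvd_factorial hn)
  · refine Perm.not_isSolvable (Fin n) (by simpa using (show 5 ≤ n by omega)) ?_
    exact Group.isSolvable_of_ker_le_range (alternatingGroup (Fin n)).subtype Perm.sign
      (by rw [Subgroup.range_subtype]; exact le_rfl)

theorem key1 : ∀ n ≤ 11, 5 ≤ n →
    chU (n / 2) (1 : ℕ) (1 : ℕ) ((n - n / 2 - 1 + 1 : ℕ) * (1 : ℕ)) < wf n + 1 := by decide +kernel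

set_option synthInstance.maxSize 2000 in
set_option synthInstance.maxHeartbeats 200000 in
theorem key2 : ∀ n ≤ 11, ∀ t < n / 2, ∀ a < n - t, (2 ≤ t ∧ 0 < a ∧ n ≠ 6 ∧ ¬ (n = 8 ∧ t = 3)) →
    chU t (wf a * wf (n - t - a)) (wv a * wv (n - t - a))
      (wq a * wv (n - t - a) + wv a * wq (n - t - a)) < wf n + 1 := by decide +kernel

theorem two_trans {n : ℕ} (h3 : 3 ≤ n) (h11 : n ≤ 11) (ih : ∀ m < n, PN m)
    (G : Subgroup (Perm (Fin n))) (hG : CC G) (t0 : TR G (Fin n) 0) (t1 : TR G (Fin n) 1)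
    (hA : ¬ alternatingGroup (Fin n) ≤ G) : (𝐤(G) : ℚ) < wf n + 1 := by
  classical
  have cn : Nat.card (Fin n) = n := Nat.card_fin n
  have prim : IsPreprimitive G (Fin n) := by
    refine isPreprimitive_of_is_two_pretransitive (is_two_pretransitive_iff.2 ?_)
    intro a b c d hab hcd
    obtain ⟨g, -, rfl⟩ := t0 ∅ (by simp) a (by simp) c (by simp)
    obtain ⟨h, hh, rfl⟩ := t1 {g • a} (by simp) (g • b)
      (by simpa using fun h => hab (smul_left_cancel g h).symm) d (by simpa using hcd.symm)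
    exact ⟨h * g, by rw [mul_smul]; exact (mem_fixingSubgroup_iff G).1 hh _ rfl, mul_smul _ _ _⟩
  obtain ⟨B0, hB0, b0⟩ := Cj.bochert prim hA
  obtain ⟨B, hB, -, hc⟩ := Set.exists_subsuperset_card_eq (s := (B0 : Set (Fin n))) (n := n / 2)
    (Set.subset_univ _) (by simp at hB0 ⊢; omega) (by simp; omega)
  have bs : Bs G B := fun g hg => Subtype.ext (b0 g g.2 fun x hx => hg x (hB hx))
  have nb : ∀ C : Set (Fin n), Bs G C → C.ncard + 2 ≤ n → ¬ TR G (Fin n) C.ncard := by
    intro C hC h2 tr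
    obtain ⟨x, y, hx, hy, ne⟩ := (Set.one_lt_ncard_iff (s := Cᶜ)).1 (by rw [Set.ncard_compl, cn]; omega)
    obtain ⟨h, hh, e⟩ := tr C rfl x hx y hy
    rw [hC h ((mem_fixingSubgroup_iff G).1 hh), one_smul] at e
    exact ne e
  have h5 : 5 ≤ n := by
    by_contra h
    exact nb {⟨0, by omega⟩} (jordan_base prim hA (by simp; omega)) (by simp; omega) (by simpa using t1)
  have ex : ∃ t, ¬ TR G (Fin n) t := ⟨_, nb B bs (by omega)⟩
  obtain ⟨t, nt, tr, tle⟩ : ∃ t, ¬ TR G (Fin n) t ∧ (∀ s < t, TR G (Fin n) s) ∧ t ≤ n / 2 :=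
    ⟨Nat.find ex, Nat.find_spec ex, fun s hs => not_not.1 (Nat.find_min ex hs),
      Nat.find_min' ex (hc ▸ nb B bs (by omega))⟩
  have t2 : 2 ≤ t := by
    by_contra h
    rcases (show t = 0 ∨ t = 1 by omega) with rfl | rfl
    exacts [nt t0, nt t1]
  have ch := fun {U V S : ℚ} (hU : BU G (Fin n) t U) (hV : BV G (Fin n) t V)
    (hS : BS G (Fin n) t S) => cov_top (chain t (by omega) tr hU hV hS)
  rcases tle.eq_or_lt with e | lt
  · have h1 : ∀ A : Set (Fin n), A.ncard = t → Nat.card (fixingSubgroup G A) ≤ 1 ∧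
        ∃ x ∉ A, (orbit (fixingSubgroup G A) x).ncard = 1 := by
      intro A hA
      obtain ⟨g, rfl⟩ := exists_smul_set tr B A (by omega) hA
      have : fixingSubgroup G (g • B) = ⊥ := (Subgroup.eq_bot_iff_forall _).2 fun h hh =>
        bs.smul g h ((mem_fixingSubgroup_iff G).1 hh)
      obtain ⟨x, hx⟩ := exists_not_mem (A := g • B) (by omega)
      refine ⟨by simp [this], x, hx, Set.ncard_eq_one.2 ⟨x, ?_⟩⟩
      ext y
      simp [this, mem_orb, eq_comm]
    refine (ch (small_U fun A h => (h1 A h).1) (small_V fun A h => (h1 A h).1)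
      (small_S h1)).trans_lt ?_
    rw [cn, e]
    exact key1 n h11 h5
  obtain ⟨A0, hA0, cA⟩ := Set.exists_subset_card_eq (s := B) (n := t) (by omega)
  obtain ⟨x, xB, xA⟩ : ∃ x ∈ B, x ∉ A0 := by
    by_contra! h
    have := Set.ncard_le_ncard h
    omega
  have sp := sp_orbit tr cA xA
  have al := orbit_lt tr nt cA xA
  have a0 : 0 < (orbit (fixingSubgroup G A0) x).ncard :=
    Nat.pos_of_ne_zero (Set.ncard_ne_zero_of_mem (mem_orbit_self x))
  have reg : t + 1 = n / 2 → ∀ A : Set (Fin n), A.ncard = t →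
      Nat.card (fixingSubgroup G A) ≤ (orbit (fixingSubgroup G A0) x).ncard ∧
        ∃ y ∉ A, (orbit (fixingSubgroup G A) y).ncard = (orbit (fixingSubgroup G A0) x).ncard := by
    intro e A hA
    obtain ⟨g, rfl⟩ := exists_smul_set tr A0 A cA hA
    have eB : insert x A0 = B := Set.eq_of_subset_of_ncard_le (Set.insert_subset xB hA0)
      (by rw [Set.ncard_insert_of_notMem xA]; omega)
    have e' : (orbit (fixingSubgroup G (g • A0)) (g • x)).ncard =
        (orbit (fixingSubgroup G A0) x).ncard := by rw [orbit_conj, Set.ncard_smul_set]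
    refine ⟨e' ▸ Bs.card_le ?_, g • x, by rwa [Set.smul_mem_smul_set_iff], e'⟩
    rw [← Set.smul_set_insert, eB]; exact bs.smul g
  have j3 : n = 6 → (orbit (fixingSubgroup G A0) x).ncard ≠ 3 := by
    intro h6 e3
    have hb := jordan_base prim hA (C := (orbit (fixingSubgroup G A0) x)ᶜ)
      (by rw [Set.ncard_compl, cn]; omega)
    have sub : orbit (fixingSubgroup G A0) x ⊆ A0ᶜ := (invt_fix subset_rfl).compl.orbit_subset xA
    obtain ⟨z, hz⟩ := Set.ncard_eq_one.1 (show (A0ᶜ ∩ (orbit (fixingSubgroup G A0) x)ᶜ).ncard = 1 by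
      rw [ncard_rest sub, cn]; omega)
    have iz : Invt (fixingSubgroup G A0) {z} :=
      hz ▸ (invt_fix subset_rfl).compl.inter (invt_orbit _ x).compl
    have : orbit (fixingSubgroup G A0) x ⊆ {x} := by
      intro y hy
      obtain ⟨h, hh, rfl⟩ := mem_orb.1 hy
      rw [hb h fun w hw => ?_, one_smul]; · rfl
      by_cases hw' : w ∈ A0
      · exact (mem_fixingSubgroup_iff G).1 hh w hw'
      · obtain rfl : w = z := by rw [← Set.mem_singleton_iff, ← hz]; exact ⟨hw', hw⟩
        exact iz h hh w rfl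
    have := Set.ncard_le_ncard this
    rw [Set.ncard_singleton] at this
    omega
  rw [cn] at al
  generalize (orbit (fixingSubgroup G A0) x).ncard = a at *
  have hU := sp.bu hG (ih _ (by omega)) (ih _ (by omega))
  by_cases c8 : n = 8 ∧ t = 3 ∨ n = 6 ∧ a = 1
  · have reg := reg (by omega)
    refine (ch (small_U fun A h => (reg A h).1) (small_V fun A h => (reg A h).1)
      (small_S reg)).trans_lt ?_
    rw [cn]
    rcases c8 with ⟨rfl, rfl⟩ | ⟨rfl, rfl⟩
    · have : a ≤ 4 := by omega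
      interval_cases a <;> decide +kernel
    · obtain rfl : t = 2 := by omega
      decide +kernel
  by_cases c6 : n = 6
  · have reg := reg (by omega)
    refine (ch (small_U fun A h => (reg A h).1) sp.bv sp.bs).trans_lt ?_
    have := j3 c6
    obtain rfl : a = 2 := by omega
    obtain rfl : t = 2 := by omega
    rw [cn, c6]
    decide +kernel
  refine (ch hU sp.bv sp.bs).trans_lt ?_
  rw [cn]
  exact key2 n h11 t lt a (by omega) ⟨t2, a0, c6, fun h => c8 (Or.inl h)⟩

theorem pn (n : ℕ) : PN n := by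
  induction n using Nat.strong_induction_on with
  | _ n ih =>
  intro G hG
  have cn : Nat.card (Fin n) = n := Nat.card_fin n
  by_cases h2 : n ≤ 2
  · refine le_trans (Nat.cast_le.2 ((classNum_le_card G).trans G.card_le_card_group)) ?_
    rw [Nat.card_perm, cn]
    interval_cases n <;> decide +kernel
  let p : Fin n := ⟨0, by omega⟩
  by_cases t0 : TR G (Fin n) 0
  swap
  · have sp := sp_orbit (G := G) (t := 0) (by simp) (Set.ncard_empty _) (Set.notMem_empty p)
    have al := orbit_lt (G := G) (t := 0) (by simp) t0 (Set.ncard_empty _) (Set.notMem_empty p)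
    have a0 : 0 < (orbit (fixingSubgroup G (∅ : Set (Fin n))) p).ncard :=
      Nat.pos_of_ne_zero (Set.ncard_ne_zero_of_mem (mem_orbit_self p))
    refine (cov_top (chain 0 (by omega) (by simp) (sp.bu hG (ih _ (by omega)) (ih _ (by omega)))
      sp.bv sp.bs)).trans ((wf_mul _ _).trans_eq ?_)
    congr 1; omega
  have tr : ∀ s < 1, TR G (Fin n) s := by simpa using t0
  by_cases h12 : 12 ≤ n
  · have sp : Sp G (Fin n) 1 0 := fun A _ => ⟨∅, by simp, fun _ _ _ h => h.elim, by simp⟩
    refine (cov_top (chain 1 (by omega) tr (sp.bu hG (ih _ (by omega)) (ih _ (by omega)))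
      sp.bv sp.bs)).trans ?_
    have := wf_step (m := n - 1) (by omega)
    rw [Nat.sub_add_cancel (by omega)] at this
    simpa [chU, wq_zero, wv_zero, show wf 0 = 1 by decide +kernel] using this
  by_cases t1 : TR G (Fin n) 1
  · by_cases hA : alternatingGroup (Fin n) ≤ G
    · refine small_alt (by omega) ?_ G hA
      by_contra h7
      exact alt_not_CC (n := n) (by omega) (hG.of_injective (Subgroup.inclusion_injective hA))
    · exact le_wf_of_lt (by omega) (two_trans (by omega) (by omega) ih G hG t0 t1 hA)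
  obtain ⟨x, hx⟩ := exists_not_mem (A := ({p} : Set (Fin n))) (by simp; omega)
  have sp := sp_orbit tr (Set.ncard_singleton p) hx
  have al := orbit_lt tr t1 (Set.ncard_singleton p) hx
  have a0 : 0 < (orbit (fixingSubgroup G ({p} : Set (Fin n))) x).ncard :=
    Nat.pos_of_ne_zero (Set.ncard_ne_zero_of_mem (mem_orbit_self x))
  refine le_wf_of_lt (by omega) ((cov_top (chain 1 (by omega) tr
    (sp.bu hG (ih _ (by omega)) (ih _ (by omega))) sp.bv sp.bs)).trans_lt ?_)
  rw [cn] at al ⊢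
  have key : ∀ n ≤ 11, ∀ a < n - 1, 0 < a → chU 1 (wf a * wf (n - 1 - a)) (wv a * wv (n - 1 - a))
      (wq a * wv (n - 1 - a) + wv a * wq (n - 1 - a)) < wf n + 1 := by decide +kernel
  exact key n (by omega) _ (by omega) a0

theorem classNum_le_wf {G Ω : Type*} [Group G] [Finite G] [MulAction G Ω] [Finite Ω]
    [FaithfulSMul G Ω] (hG : CC G) : (𝐤(G) : ℚ) ≤ wf (Nat.card Ω) := by
  have := two_sets (Ω := Ω) hG (D := Set.univ) (E := ∅) (by simp) (by simp)
    (fun g h _ => eq_of_smul_eq_smul fun x : Ω => by rw [h x trivial, one_smul]) (pn _) (pn _)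
  simpa [show wf 0 = 1 by decide +kernel] using this

theorem classNum_sq_le {G Ω : Type*} [Group G] [Finite G] [MulAction G Ω] [Finite Ω]
    [FaithfulSMul G Ω] (hG : CC G) (hn : 3 ≤ Nat.card Ω) : 𝐤(G) ^ 2 ≤ 3 ^ (Nat.card Ω - 1) := by
  have := (pow_le_pow_left₀ (Nat.cast_nonneg _) (classNum_le_wf (Ω := Ω) hG) 2).trans (wf_sq hn)
  exact_mod_cast this

end Cfsg.Agent.H9Tree
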