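import Cfsg.Agent.H9.Weights

/-!
Eigenvalue multiplicities in the coprime critical case.
-/

set_option autoImplicit false

namespace Cfsg.Agent.H9

open Subgroup Module
open scoped commutatorElement

variable {k V : Type*} [Field k] [AddCommGroup V] [Module k V] [IsAlgClosed k]
  [FiniteDimensional k V]

theorem exists_commutant_le {Q : Type*} [Group Q] {σ : Q →* End k V} {α : MulAut Q} {Y : End k V}
    [Finite Q] [Nontrivial V] (hirr : H1.IrrBy (Set.range σ))
    (hcomm : _root_.commutator Q ≤ H1.scalarSub σ) (hcov : ∀ x, Y * σ x = σ (α x) * Y) {h : ℕ}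
    (hh : (h : k) ≠ 0) (hY : Y ^ h = 1) (hα : α ^ h = 1)
    (hfree : ∀ i, 0 < i → i < h → ∀ x, (α ^ i) x * x⁻¹ ∈ H1.scalarSub σ → x ∈ H1.scalarSub σ) :
    ∃ C : Submodule k (End k V), (∀ T : End k V, Y * T = T * Y → T ∈ C) ∧
      h * finrank k C + 1 ≤ finrank k V ^ 2 + h := by
  classical
  have h0 : 0 < h := Nat.pos_of_ne_zero (by rintro rfl; simp at hh)
  let _ := Fintype.ofFinite (Q ⧸ H1.scalarSub σ)
  have hmap : (H1.scalarSub σ).map (α : Q →* Q) = H1.scalarSub σ := by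
    ext x
    constructor
    · rintro ⟨y, hy, rfl⟩; exact H1.cov_mem_scalarSub hcov h0 hY hy
    · intro hx
      exact ⟨α.symm x, (H1.cov_mem_scalarSub_iff hcov h0 hY).mp (by simpa using hx), by simp⟩
  let f : Equiv.Perm (Q ⧸ H1.scalarSub σ) := (QuotientGroup.congr _ _ α hmap).toEquiv
  have hf : ∀ i (x : Q), (f ^ i) (x : Q ⧸ H1.scalarSub σ) = ((α ^ i) x : Q) := by
    intro i x
    induction i with
    | zero => simp
    | succ i ih => rw [pow_succ', Equiv.Perm.mul_apply, ih, pow_succ']; rfl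
  obtain ⟨R, -, hR⟩ := H1.exists_orbit_reps f h0 (by
      ext q
      induction q using QuotientGroup.induction_on with
      | H x => rw [hf, hα]; rfl)
    (Finset.univ.erase 1)
    (fun q hq => by
      simp only [Finset.mem_erase, Finset.mem_univ, and_true] at hq ⊢
      exact fun h' => hq ((QuotientGroup.congr _ _ α hmap).map_eq_one_iff.mp h'))
    (fun q hq i hi0 hi he => by
      simp only [Finset.mem_erase, Finset.mem_univ, and_true] at hq
      induction q using QuotientGroup.induction_on with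
      | H x =>
        rw [hf, QuotientGroup.eq_iff_div_mem, div_eq_mul_inv] at he
        exact hq ((QuotientGroup.eq_one_iff x).mpr (hfree i hi0 hi x he)))
  have hcard := H1.card_eq_of_orbit_reps hR
  have hd := H1.finrank_sq_eq_index hirr hcomm
  rw [Finset.card_erase_of_mem (Finset.mem_univ _), Finset.card_univ, ← Nat.card_eq_fintype_card,
    ← Subgroup.index_eq_card, ← hd] at hcard
  have hdpos : 0 < finrank k V := finrank_pos
  let Nm : End k V →ₗ[k] End k V :=
    ∑ i ∈ Finset.range h, LinearMap.mulLeft k (Y ^ i) * LinearMap.mulRight k (Y ^ (h - i))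
  have hNm : ∀ T, Nm T = ∑ i ∈ Finset.range h, Y ^ i * T * Y ^ (h - i) := by
    intro T; simp [Nm, LinearMap.sum_apply, mul_assoc]
  have hNm1 : ∀ T, Y * T = T * Y → Nm T = (h : k) • T := by
    intro T hT
    rw [hNm, Finset.sum_congr rfl (g := fun _ => T) fun i hi => by
      rw [(Commute.pow_left hT i).eq, mul_assoc, ← pow_add,
        Nat.add_sub_cancel' (Finset.mem_range.mp hi).le, hY, mul_one]]
    simp [Nat.cast_smul_eq_nsmul]
  have hNm2 : ∀ x, Nm (σ (α x)) = Nm (σ x) := by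
    intro x
    obtain ⟨g, rfl⟩ : ∃ g, h = g + 1 := ⟨h - 1, by omega⟩
    rw [hNm, hNm, Finset.sum_range_succ, Finset.sum_range_succ', pow_zero, one_mul, Nat.sub_zero,
      hY, mul_one]
    congr 1
    · refine Finset.sum_congr rfl fun i hi => ?_
      have hi' := Finset.mem_range.mp hi
      rw [show g + 1 - i = g + 1 - (i + 1) + 1 by omega, pow_succ' Y (g + 1 - (i + 1)),
        ← mul_assoc, mul_assoc (Y ^ i), ← hcov, ← mul_assoc, ← pow_succ]
    · rw [show g + 1 - g = 1 by omega, pow_one, mul_assoc, ← hcov, ← mul_assoc, ← pow_succ, hY,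
        one_mul]
  have hNm3 : ∀ i x, Nm (σ ((α ^ i) x)) = Nm (σ x) := by
    intro i x
    induction i with
    | zero => simp
    | succ i ih => rw [pow_succ', MulAut.mul_apply, hNm2, ih]
  let C : Submodule k (End k V) :=
    Submodule.span k (insert 1 (R.image fun r => Nm (σ r.out)) : Finset (End k V))
  have hC1 : (1 : End k V) ∈ C := Submodule.subset_span (by simp)
  have hC : ∀ T, Nm T ∈ C := by
    intro T
    have hT : T ∈ Submodule.span k (Set.range σ) := by
      rw [hirr.span_range_eq_top σ]; trivial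
    refine (Submodule.span_le (p := C.comap Nm)).mpr ?_ hT
    rintro _ ⟨x, rfl⟩
    change Nm (σ x) ∈ C
    by_cases hx : x ∈ H1.scalarSub σ
    · obtain ⟨c, hc⟩ := hx
      rw [hc, map_smul, hNm1 1 (by simp)]
      exact C.smul_mem _ (C.smul_mem _ hC1)
    · obtain ⟨⟨r, i⟩, hri, he⟩ := hR.surjOn (show (x : Q ⧸ H1.scalarSub σ) ∈ _ by
        simpa using hx)
      simp only [Finset.coe_product, Set.mem_prod, Finset.mem_coe] at hri he
      rw [← r.out_eq', hf, QuotientGroup.eq] at he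
      obtain ⟨c, this⟩ := H1.exists_eq_smul_of_inv_mul_mem he
      rw [this, map_smul, hNm3]
      refine C.smul_mem _ (Submodule.subset_span ?_)
      simp only [Finset.coe_insert, Finset.coe_image, Set.mem_insert_iff, Set.mem_image]
      exact Or.inr ⟨r, hri.1, rfl⟩
  have hCle : finrank k C ≤ R.card + 1 :=
    (finrank_span_finset_le_card _).trans ((Finset.card_insert_le _ _).trans
      (Nat.succ_le_succ Finset.card_image_le))
  have hsq : 1 ≤ finrank k V ^ 2 := Nat.one_le_pow _ _ hdpos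
  refine ⟨C, fun T hT => ?_, ?_⟩
  · have := C.smul_mem (h : k)⁻¹ (hC T)
    rwa [hNm1 T hT, smul_smul, inv_mul_cancel₀ hh, one_smul] at this
  · have : h * finrank k C ≤ h * (R.card + 1) := Nat.mul_le_mul_left _ hCle
    rw [mul_add, mul_comm h R.card, ← hcard] at this
    omega

theorem exists_mult {h : ℕ} (hh : (h : k) ≠ 0) {Y : End k V} (hY : Y ^ h = 1)
    (C : Submodule k (End k V)) (hC : ∀ T : End k V, Y * T = T * Y → T ∈ C) :
    ∃ (s : Finset k) (m : k → ℕ), s.card = h ∧ (∀ c, c ∈ s ↔ c ^ h = 1) ∧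
      ∑ c ∈ s, m c = finrank k V ∧ ∑ c ∈ s, m c ^ 2 ≤ finrank k C ∧
      (∀ c, m c ≠ 0 → ∃ v, v ≠ 0 ∧ Y v = c • v) ∧ finrank k (LinearMap.ker (Y - 1)) ≤ m 1 := by
  classical
  have h0 : 0 < h := Nat.pos_of_ne_zero (by rintro rfl; simp at hh)
  have : NeZero (h : k) := ⟨hh⟩
  obtain ⟨ζ, hζ⟩ := HasEnoughRootsOfUnity.exists_primitiveRoot k h
  obtain ⟨b, l, hb, hl⟩ := H1.exists_eigenbasis_of_pow_eq_one Y hh hY
  let s := Polynomial.nthRootsFinset h (1 : k)
  let m : k → ℕ := fun μ => (Finset.univ.filter fun i => l i = μ).card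
  have hmem : ∀ i, l i ∈ s := fun i => (Polynomial.mem_nthRootsFinset h0 1).mpr (hl i)
  have hd : ∑ μ ∈ s, m μ = finrank k V := by
    rw [← Finset.card_eq_sum_card_fiberwise (f := l) (fun i _ => hmem i)]
    simp
  let P : Finset (Fin (finrank k V) × Fin (finrank k V)) := Finset.univ.filter fun a => l a.1 = l a.2
  have hP : P.card = ∑ μ ∈ s, m μ ^ 2 := by
    rw [Finset.card_eq_sum_card_fiberwise (f := fun a => l a.1) (fun a _ => hmem a.1)]
    refine Finset.sum_congr rfl fun μ _ => ?_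
    rw [pow_two, ← Finset.card_product]
    congr 1
    ext a
    simp only [P, Finset.mem_filter, Finset.mem_univ, true_and, Finset.mem_product]
    constructor
    · rintro ⟨h1, h2⟩; exact ⟨h2, h1 ▸ h2⟩
    · rintro ⟨h1, h2⟩; exact ⟨h1.trans h2.symm, h1⟩
  have hPC : P.card ≤ finrank k C := by
    have hmemC : ∀ a : P, b.end a.1 ∈ C := by
      intro a
      refine hC _ (b.ext fun i => ?_)
      have ha : l a.1.1 = l a.1.2 := (Finset.mem_filter.mp a.2).2
      rw [End.mul_apply, End.mul_apply, hb, map_smul, Basis.end_apply_apply]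
      split_ifs with hi
      · rw [hb, ha, hi]
      · simp
    have hli : LinearIndependent k fun a : P => (⟨b.end a.1, hmemC a⟩ : C) :=
      LinearIndependent.of_comp C.subtype (b.end.linearIndependent.comp _ Subtype.val_injective)
    simpa using hli.fintype_card_le_finrank
  refine ⟨s, m, hζ.card_nthRootsFinset, fun c => Polynomial.mem_nthRootsFinset h0 1, hd,
    hP ▸ hPC, fun c hc => ?_, ?_⟩
  · obtain ⟨i, hi⟩ := Finset.card_ne_zero.mp hc
    exact ⟨b i, b.ne_zero i, by rw [hb, (Finset.mem_filter.mp hi).2]⟩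
  · let F : Finset V := (Finset.univ.filter fun i => l i = 1).image b
    have hF : finrank k (Submodule.span k (F : Set V)) ≤ m 1 :=
      (finrank_span_finset_le_card F).trans Finset.card_image_le
    refine le_trans (Submodule.finrank_mono (fun v hv => ?_)) hF
    rw [LinearMap.mem_ker, LinearMap.sub_apply, sub_eq_zero, End.one_apply] at hv
    rw [Finset.coe_image, Basis.mem_span_image]
    intro i hi
    have h1 : b.repr (Y v) i = l i * b.repr v i := by
      conv_lhs => rw [← b.sum_repr v]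
      simp only [map_sum, map_smul, hb, Basis.repr_self, Finsupp.coe_finsetSum, Finset.sum_apply,
        Finsupp.smul_apply, Finsupp.single_apply, smul_eq_mul]
      rw [Finset.sum_eq_single i (fun j _ hj => by simp [hj]) (by simp)]
      simp [mul_comm]
    rw [hv] at h1
    have h2 : b.repr v i ≠ 0 := Finsupp.mem_support_iff.mp hi
    simp only [Finset.coe_filter, Finset.mem_univ, true_and, Set.mem_ofPred_eq]
    exact (mul_right_cancel₀ h2 (by rw [← h1, one_mul])).symm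

theorem exists_eigenvector_of_crit {h : ℕ} (hh : (h : k) ≠ 0) {Y : End k V} (hY : Y ^ h = 1)
    (C : Submodule k (End k V)) (hC : ∀ T : End k V, Y * T = T * Y → T ∈ C)
    (hle : h * finrank k C + 1 ≤ finrank k V ^ 2 + h) (hd : finrank k V + 1 = h)
    (hfix : ∀ v, Y v = v → v = 0) {c : k} (hc : c ^ h = 1) (hc1 : c ≠ 1) :
    ∃ v, v ≠ 0 ∧ Y v = c • v := by
  classical
  obtain ⟨s, m, h1, h2, h3, h4, h5, -⟩ := exists_mult hh hY C hC
  refine h5 c fun h6 => ?_
  have h7 : m 1 = 0 := by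
    by_contra h7
    obtain ⟨v, hv, hv'⟩ := h5 1 h7
    exact hv (hfix v (by rw [hv', one_smul]))
  have h8 : c ∈ s.erase 1 := Finset.mem_erase.mpr ⟨hc1, (h2 c).mpr hc⟩
  have h9 := sq_sum_le_card_mul_sum_sq (s := (s.erase 1).erase c) (f := m)
  have h10 := Finset.card_erase_add_one h8
  have h11 := Finset.card_erase_add_one ((h2 1).mpr (one_pow h))
  rw [Finset.sum_erase _ h6, Finset.sum_erase _ h7, Finset.sum_erase _ (by simp [h6]),
    Finset.sum_erase _ (by simp [h7]), h3] at h9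
  simp only [Nat.cast_id] at h9
  generalize ((s.erase 1).erase c).card = g at h9 h10
  have h12 : finrank k V = g + 1 := by omega
  have h13 : h = g + 2 := by omega
  rw [h12] at h9 hle
  rw [h13] at hle
  have h14 : finrank k C ≤ g + 1 := by nlinarith
  nlinarith

theorem fix_bound_of_crit {h : ℕ} (hh : (h : k) ≠ 0) {Y : End k V} (hY : Y ^ h = 1)
    (C : Submodule k (End k V)) (hC : ∀ T : End k V, Y * T = T * Y → T ∈ C)
    (hle : h * finrank k C + 1 ≤ finrank k V ^ 2 + h) :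
    h * (finrank k (LinearMap.ker (Y - 1)) ^ 2 + finrank k V) + 1 ≤
      finrank k V ^ 2 + h + h * finrank k (LinearMap.ker (Y - 1)) := by
  classical
  obtain ⟨s, m, -, h2, h3, h4, -, h6⟩ := exists_mult hh hY C hC
  have h1 := (h2 1).mpr (one_pow h)
  rw [← Finset.add_sum_erase _ _ h1] at h3 h4
  have h7 : ∑ c ∈ s.erase 1, m c ≤ ∑ c ∈ s.erase 1, m c ^ 2 :=
    Finset.sum_le_sum fun c _ => Nat.le_self_pow two_ne_zero _
  generalize finrank k (LinearMap.ker (Y - 1)) = c at h6 ⊢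
  have h8 : c ^ 2 + m 1 ≤ m 1 ^ 2 + c := by
    obtain ⟨a, ha⟩ := Nat.exists_eq_add_of_le h6
    rw [ha]
    rcases a with _ | a
    · simp
    · nlinarith
  have h9 : c ^ 2 + finrank k V ≤ finrank k C + c := by omega
  have := Nat.mul_le_mul_left h h9
  rw [mul_add h (finrank k C)] at this
  omega

/-- The critical configuration inside an ambient group. -/
theorem exists_crit {X : Type*} [Group X] [Finite X] (ρ : X →* End k V) {p s n : ℕ}
    (hp : p.Prime) (hs : s.Prime) (hsp : s ≠ p) (hpk : (p : k) ≠ 0) (hsk : (s : k) ≠ 0)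
    {E D : Subgroup X} (hE : IsPGroup s E) (hc : ⁅E, E⁆ ≤ centralizer (E : Set X)) {g : X}
    (hg : g ∈ normalizer (E : Set X)) (hg1 : g ^ p ^ (n + 1) = 1)
    (hz : ⁅E, zpowers (g ^ p ^ n)⁆ = E) (hDE : D ≤ centralizer (E : Set X))
    (hDg : g ∈ centralizer (D : Set X)) {W : Submodule k V} (hW0 : W ≠ ⊥)
    (hWE : ∀ x ∈ E, ∀ u ∈ W, ρ x u ∈ W) (hWg : ∀ u ∈ W, ρ g u ∈ W)
    (hnofix : ∀ v ∈ W, (∀ x ∈ E, ρ x v = v) → v = 0)
    (hD : ∀ U ≤ W, U ≠ ⊥ → (∀ x ∈ E, ∀ u ∈ U, ρ x u ∈ U) → (∀ u ∈ U, ρ g u ∈ U) →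
      ∀ x ∈ E, (∀ y ∈ E, ⁅x, y⁆ ∈ fixer ρ U) → x ∈ D) :
    ∃ U ≤ W, U ≠ ⊥ ∧ (∀ x ∈ E, ∀ u ∈ U, ρ x u ∈ U) ∧ (∀ u ∈ U, ρ g u ∈ U) ∧
      (∀ U' ≤ U, (∀ x ∈ E, ∀ u ∈ U', ρ x u ∈ U') → U' = ⊥ ∨ U' = U) ∧
      ∃ e, 1 ≤ e ∧ finrank k U = s ^ e ∧ D.relIndex E = s ^ (2 * e) ∧
        (p ^ (n + 1) ∣ s ^ e - 1 ∨ p ^ (n + 1) ∣ s ^ e + 1) ∧
        ((∀ u ∈ U, ρ g u = u → u = 0) → s ^ e + 1 = p ^ (n + 1) ∧
          ∀ c : k, c ^ p ^ (n + 1) = 1 → c ≠ 1 → ∃ u ∈ U, u ≠ 0 ∧ ρ g u = c • u) ∧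
        p ^ (n + 1) * (finrank k (U ⊓ LinearMap.ker (ρ g - 1) : Submodule k V) ^ 2 + s ^ e) + 1 ≤
          (s ^ e) ^ 2 + p ^ (n + 1) +
            p ^ (n + 1) * finrank k (U ⊓ LinearMap.ker (ρ g - 1) : Submodule k V) := by
  have := Fact.mk hs
  let σ := ρ.comp E.subtype
  have hcov := H1.cov_conjAutOf ρ hg
  obtain ⟨U, hUW, hU0, hU, hmin⟩ := H1.exists_minimal_invBy (S := insert (ρ g) (Set.range σ))
    (W := W) (by
      rintro T (hT | ⟨x, rfl⟩)
      · rw [hT]; exact hWg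
      · exact hWE x x.2) hW0
  have hσ : ∀ x, ∀ u ∈ U, σ x u ∈ U := fun x => hU _ (Or.inr ⟨x, rfl⟩)
  have hσ' : ∀ x ∈ E, ∀ u ∈ U, ρ x u ∈ U := fun x hx => hσ ⟨x, hx⟩
  have hY : ∀ u ∈ U, ρ g u ∈ U := hU _ (Or.inl rfl)
  have : Nontrivial U := Submodule.nontrivial_iff_ne_bot.mpr hU0
  have hirr := H1.irrBy_restrict hσ hY (fun U' a b c => hmin U' a (by
    rintro T (hT | ⟨x, rfl⟩)
    · rw [hT]; exact c
    · exact b x))
  have hle : D.subgroupOf E ≤ H1.scalarSub (H1.restrictRep σ U hσ) := by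
    intro z hz
    refine hirr.exists_eq_smul ?_
    rintro T (hT | ⟨x, rfl⟩)
    · rw [hT]
      ext1 u
      refine Subtype.ext ?_
      change ρ z (ρ g u) = ρ g (ρ z u)
      rw [← rep_mul_apply, ← rep_mul_apply, mem_centralizer_iff.mp hDg z hz]
    · rw [← map_mul, ← map_mul]
      congr 1
      exact Subtype.ext (mem_centralizer_iff.mp (hDE hz) x x.2).symm
  have hcen : ∀ x, (∀ y, H1.restrictRep σ U hσ x * H1.restrictRep σ U hσ y =
      H1.restrictRep σ U hσ y * H1.restrictRep σ U hσ x) → x ∈ D.subgroupOf E := by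
    intro x hx
    refine hD U hUW hU0 hσ' hY x x.2 fun y hy u hu => ?_
    have h1 := congrArg Subtype.val (LinearMap.congr_fun (hx ⟨y, hy⟩)
      ⟨ρ (x : X)⁻¹ (ρ y⁻¹ u), hσ' _ (inv_mem x.2) _ (hσ' _ (inv_mem hy) u hu)⟩)
    change ρ x (ρ y (ρ (x : X)⁻¹ (ρ y⁻¹ u))) = ρ y (ρ x (ρ (x : X)⁻¹ (ρ y⁻¹ u))) at h1
    rw [commutatorElement_def, rep_mul_apply, rep_mul_apply, rep_mul_apply, h1, rep_apply_inv,
      rep_apply_inv]
  have hZ : H1.scalarSub (H1.restrictRep σ U hσ) = D.subgroupOf E := by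
    refine le_antisymm (fun x hx => hcen x fun y => ?_) hle
    obtain ⟨c, hc⟩ := hx
    rw [hc]; simp
  have hcov' : ∀ x, (ρ g).restrict hY * H1.restrictRep σ U hσ x =
      H1.restrictRep σ U hσ (H1.conjAutOf hg x) * (ρ g).restrict hY :=
    fun x => by ext1 u; exact Subtype.ext (LinearMap.congr_fun (hcov x) u)
  have hY' : (ρ g).restrict hY ^ p ^ (n + 1) = 1 := by
    ext1 u
    refine Subtype.ext ?_
    rw [H1.coe_restrict_pow, ← map_pow, hg1, map_one]; rfl
  have hα : H1.conjAutOf hg ^ p ^ (n + 1) = 1 := H1.conjAutOf_pow_eq_one hg (hg1 ▸ one_mem _)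
  obtain ⟨hirr', hcomm, hfree, -, -, e, he, hd, hind⟩ := H1.crit_facts hp hs hE hsk
    (H1.commute_commutator_of_le_centralizer hc) hcov' hY' hα
    (H1.fpf_of_commutator_eq hg (H1.coprime_card_of_isPGroup hE (H1.orderOf_coprime_of_pow_eq_one
      (p := p) (m := 1) (by rw [← pow_mul, ← pow_add, hg1])
      ((Nat.coprime_primes hs hp).mpr hsp))) hz) hirr (fun x hx => hle (hcen x hx))
    (fun v hv => Subtype.ext (hnofix v (hUW v.2) fun x hx => congrArg Subtype.val (hv ⟨x, hx⟩)))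
  have hpk' : ((p ^ (n + 1) : ℕ) : k) ≠ 0 := by rw [Nat.cast_pow]; exact pow_ne_zero _ hpk
  obtain ⟨-, b1, b2⟩ := H1.crit_coprime hirr' hcomm hcov' hpk' hY' hα hfree
  obtain ⟨C, hC, hCle⟩ := exists_commutant_le hirr' hcomm hcov' hpk' hY' hα hfree
  have h2 : 1 < s ^ e := Nat.one_lt_pow (by omega) hs.one_lt
  refine ⟨U, hUW, hU0, hσ', hY, fun U' hU' h => ?_, e, he, hd, by rw [relIndex, ← hZ, hind],
    hd ▸ b1, fun hfix => ?_, ?_⟩
  · rcases hirr' (U'.comap U.subtype) (by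
      rintro _ ⟨x, rfl⟩ v hv
      exact h x x.2 v hv) with h1 | h1
    · left
      rw [eq_bot_iff]
      intro v hv
      have : (⟨v, hU' hv⟩ : U) ∈ U'.comap U.subtype := hv
      rw [h1, Submodule.mem_bot] at this
      exact congrArg Subtype.val this
    · right
      refine le_antisymm hU' fun v hv => ?_
      have : (⟨v, hv⟩ : U) ∈ U'.comap U.subtype := h1 ▸ Submodule.mem_top
      exact this
  · have hfix' : ∀ v, (ρ g).restrict hY v = v → v = 0 := fun v hv =>
      Subtype.ext (hfix v v.2 (congrArg Subtype.val hv))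
    have b3 := (b2 hfix').resolve_right (hd ▸ h2.ne')
    refine ⟨hd ▸ b3, fun c hc hc1 => ?_⟩
    obtain ⟨v, hv, hv'⟩ := exists_eigenvector_of_crit hpk' hY' C hC hCle b3 hfix' hc hc1
    exact ⟨v, v.2, fun h => hv (Subtype.ext h), congrArg Subtype.val hv'⟩
  · have b4 := fix_bound_of_crit hpk' hY' C hC hCle
    have b5 : finrank k (LinearMap.ker ((ρ g).restrict hY - 1)) =
        finrank k (U ⊓ LinearMap.ker (ρ g - 1) : Submodule k V) := by
      have : LinearMap.ker ((ρ g).restrict hY - 1) =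
          (LinearMap.ker (ρ g - 1)).comap U.subtype := by
        ext v
        simp only [LinearMap.mem_ker, LinearMap.sub_apply, sub_eq_zero, Submodule.mem_comap,
          Subtype.ext_iff]
        rfl
      rw [← Submodule.map_comap_subtype, Submodule.finrank_map_subtype_eq, this]
    rwa [b5, hd] at b4

end Cfsg.Agent.H9
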