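import Cfsg.Agent.H9.FpfCyc

/-!
Fixed-point-free automorphisms of prime power order.
-/

set_option autoImplicit false

namespace Cfsg.Agent.H9

open Subgroup SemidirectProduct
open scoped commutatorElement

universe u

variable {G : Type u} [Group G] [Finite G]

theorem coprime_of_fpf_isPGroup {A : Type*} [Group A] {p : ℕ} (hp : p.Prime) (hA : IsPGroup p A)
    (φ : A →* MulAut G) (h : ∀ g, (∀ a, φ a g = g) → g = 1) : (Nat.card G).Coprime p := by
  have := Fact.mk hp
  let _ : MulAction A G := MulAction.compHom G φ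
  have h1 := hA.card_modEq_card_fixedPoints G
  have h2 : MulAction.fixedPoints A G = {1} := by
    ext g
    exact ⟨fun hg => h g hg, fun hg a => by rw [hg]; exact map_one (φ a)⟩
  rw [h2, Nat.card_unique (α := ({1} : Set G))] at h1
  exact Nat.coprime_of_mul_modEq_one 1 (by simpa using h1)

omit [Finite G] in
theorem fixed_of_mem_zpowers {σ a : MulAut G} (ha : a ∈ zpowers σ) {x : G} (hx : σ x = x) :
    a x = x :=
  (zpowers_le.mpr (show σ ∈ MulAction.stabilizer (MulAut G) x from hx) :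
    zpowers σ ≤ _) ha

theorem coprime_of_fpf_pow {σ : MulAut G} {p n : ℕ} (hp : p.Prime) (hσ : σ ^ p ^ n = 1)
    (h : ∀ g, σ g = g → g = 1) : (Nat.card G).Coprime p := by
  have := Fact.mk hp
  obtain ⟨j, -, hj⟩ := (Nat.dvd_prime_pow hp).mp (orderOf_dvd_of_pow_eq_one hσ)
  exact coprime_of_fpf_isPGroup hp (IsPGroup.of_card (n := j) (by rw [Nat.card_zpowers, hj]))
    (zpowers σ).subtype fun g hg => h g (hg ⟨σ, mem_zpowers σ⟩)

/-- The semidirect product with the cyclic group generated by an automorphism. -/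
theorem exists_ambient (σ : MulAut G) :
    ∃ (X : Type u) (_ : Group X) (_ : Finite X) (f : G →* X) (g : X), Function.Injective f ∧
      f.range.Normal ∧ (∀ n, σ ^ n = 1 → g ^ n = 1) ∧
      ∀ x i, g ^ i * f x * (g ^ i)⁻¹ = f ((σ ^ i) x) := by
  refine ⟨G ⋊[(zpowers σ).subtype] zpowers σ, inferInstance, inferInstance, inl,
    inr ⟨σ, mem_zpowers σ⟩, inl_injective, ?_, fun n hn => ?_, fun x i => ?_⟩
  · rw [range_inl_eq_ker_rightHom]; infer_instance
  · rw [← map_pow, show (⟨σ, mem_zpowers σ⟩ : zpowers σ) ^ n = 1 from Subtype.ext hn, map_one]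
  · rw [← map_pow, H1.inr_mul_inl_mul_inv]; rfl

omit [Finite G] in
theorem range_inf_centralizer_eq_bot {X : Type*} [Group X] {σ : MulAut G} {f : G →* X} {g : X}
    (hf : Function.Injective f) (h : ∀ x (i : ℕ), g ^ i * f x * (g ^ i)⁻¹ = f ((σ ^ i) x))
    (hfpf : ∀ g, σ g = g → g = 1) : f.range ⊓ centralizer {g} = ⊥ := by
  rw [eq_bot_iff]
  rintro _ ⟨⟨x, rfl⟩, hx⟩
  have h1 := h x 1
  rw [pow_one, pow_one, ← mem_centralizer_singleton_iff.mp hx, mul_inv_cancel_right] at h1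
  rw [hfpf x (hf h1).symm, map_one]
  exact one_mem _

omit [Finite G] in
theorem aut_mem_fitTerm {σ : MulAut G} {X : Type*} [Group X] [Finite X] {f : G →* X} {g : X}
    (hf : Function.Injective f) (h : ∀ x (i : ℕ), g ^ i * f x * (g ^ i)⁻¹ = f ((σ ^ i) x))
    {i n : ℕ} (hle : ⁅f.range, zpowers (g ^ i)⁆ ≤ L.fitTerm X n) (x : G) :
    (σ ^ i) x * x⁻¹ ∈ L.fitTerm G n := by
  refine L.comap_fitTerm_le n hf ?_
  rw [mem_comap, map_mul, ← h, map_inv, ← commutatorElement_def, ← commutatorElement_inv]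
  exact inv_mem (hle (commutator_mem_commutator ⟨x, rfl⟩ (mem_zpowers _)))

theorem aut_mem_fitting (hG : Group.IsSolvable G) {p : ℕ} (hp : p.Prime) {σ : MulAut G} {m : ℕ}
    (hm : p ≠ 2 ∨ m ≤ 1) (hσ : σ ^ p ^ (m + 1) = 1) (hfpf : ∀ g, σ g = g → g = 1) (x : G) :
    (σ ^ p ^ m) x * x⁻¹ ∈ fittingSubgroup G := by
  obtain ⟨X, _, _, f, g, hf, hn, h1, h2⟩ := exists_ambient σ
  rw [← L.fitTerm_one]
  refine aut_mem_fitTerm hf h2 ?_ x
  rw [L.fitTerm_one]
  refine gross_le_fitting (L.isSolvable_of_mulEquiv (MonoidHom.ofInjective hf)) hp hm (h1 _ hσ) ?_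
    (range_inf_centralizer_eq_bot hf h2 hfpf)
  rw [← Nat.card_congr (MonoidHom.ofInjective hf).toEquiv]
  exact coprime_of_fpf_pow hp hσ hfpf

/-- The induced automorphism of a quotient by a characteristic subgroup. -/
theorem exists_quotient_aut (σ : MulAut G) (hfpf : ∀ g, σ g = g → g = 1) (N : Subgroup G)
    [N.Characteristic] : ∃ τ : MulAut (G ⧸ N), (∀ g, τ g = g → g = 1) ∧
      ∀ n, (∀ x, (σ ^ n) x * x⁻¹ ∈ N) → τ ^ n = 1 := by
  have hmap : N.map (σ : G →* G) = N := characteristic_iff_map_eq.mp inferInstance σ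
  let τ : MulAut (G ⧸ N) := QuotientGroup.congr _ _ σ hmap
  have hf : ∀ i (x : G), (τ ^ i) (x : G ⧸ N) = ((σ ^ i) x : G) := by
    intro i x
    induction i with
    | zero => simp
    | succ i ih => rw [pow_succ', MulAut.mul_apply, ih, pow_succ']; rfl
  refine ⟨τ, fun g hg => ?_, fun n hn => ?_⟩
  · obtain ⟨g, rfl⟩ := QuotientGroup.mk_surjective g
    have h1 : g / σ g ∈ N := QuotientGroup.eq_iff_div_mem.mp hg.symm
    have h2 : MonoidHom.FixedPointFree (MulAut.characteristic N σ) := fun x hx =>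
      Subtype.ext (hfpf x (congrArg Subtype.val hx))
    obtain ⟨n, hn⟩ := h2.commutatorMap_surjective ⟨_, h1⟩
    have h3 : (n : G) / σ n = g / σ g := congrArg Subtype.val hn
    have h4 : (n : G) = g := MonoidHom.FixedPointFree.commutatorMap_injective (φ := σ) hfpf h3
    exact (QuotientGroup.eq_one_iff g).mpr (h4 ▸ n.2)
  · ext x
    obtain ⟨x, rfl⟩ := QuotientGroup.mk_surjective x
    rw [hf, MulAut.one_apply, QuotientGroup.eq_iff_div_mem, div_eq_mul_inv]
    exact hn x

theorem fitLE_of_fpf_odd {p : ℕ} (hp : p.Prime) (hp2 : p ≠ 2) (n : ℕ) :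
    ∀ (G : Type u) [Group G] [Finite G], Group.IsSolvable G → ∀ σ : MulAut G, σ ^ p ^ n = 1 →
      (∀ g, σ g = g → g = 1) → L.FitLE n G := by
  induction n with
  | zero =>
    intro G _ _ _ σ hσ hfpf
    rw [pow_zero, pow_one] at hσ
    exact L.fitLE_zero_iff.mpr (subsingleton_of_forall_eq 1 fun g => hfpf g (by rw [hσ]; rfl))
  | succ n ih =>
    intro G _ _ hG σ hσ hfpf
    obtain ⟨τ, h1, h2⟩ := exists_quotient_aut σ hfpf (fittingSubgroup G)
    exact L.fitLE_succ_iff.mpr (ih _ inferInstance τ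
      (h2 _ (aut_mem_fitting hG hp (Or.inl hp2) hσ hfpf)) h1)

theorem commutator_le_fitting_of_fpf_four (hG : Group.IsSolvable G) {σ : MulAut G}
    (hσ : σ ^ 4 = 1) (hfpf : ∀ g, σ g = g → g = 1) : _root_.commutator G ≤ fittingSubgroup G := by
  obtain ⟨τ, h1, h2⟩ := exists_quotient_aut σ hfpf (fittingSubgroup G)
  have h3 := h2 _ (aut_mem_fitting hG Nat.prime_two (m := 1) (Or.inr le_rfl) hσ hfpf)
  have h4 : Function.Involutive τ := fun x => by
    rw [← MulAut.mul_apply, ← pow_two, ← pow_one 2, h3]; rfl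
  refine commutator_le.mpr fun a _ b _ => ?_
  rw [← QuotientGroup.eq_one_iff, ← QuotientGroup.mk'_apply, map_commutatorElement,
    commutatorElement_eq_one_iff_commute]
  exact MonoidHom.FixedPointFree.commute_all_of_involutive (φ := τ) h1 h4 _ _

end Cfsg.Agent.H9
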