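import Cfsg.Agent.H9.CopRep

/-!
Fixed-point-free cyclic `p`-groups of operators: the theorem of Shult and Gross at module level.
-/

set_option autoImplicit false

namespace Cfsg.Agent.H9

open Subgroup Module
open scoped commutatorElement IsMulCommutative

universe u

theorem two_mul_dvd_of_dvd_pow_sub_one {q e d : ℕ} (hq : 2 ≤ q) (he : 1 ≤ e)
    (h : q ^ e + 1 ∣ q ^ d - 1) : 2 * e ∣ d := by
  have h1 : ∀ i, 1 ≤ q ^ i := fun i => Nat.one_le_pow _ _ (by omega)
  have h0 : (q : ZMod (q ^ e + 1)) ^ e = -1 := by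
    rw [eq_neg_iff_add_eq_zero]
    exact_mod_cast ZMod.natCast_self (q ^ e + 1)
  have h2 : (q : ZMod (q ^ e + 1)) ^ d = 1 := by
    have := (ZMod.natCast_eq_zero_iff _ _).mpr h
    rw [Nat.cast_sub (h1 d), sub_eq_zero] at this
    exact_mod_cast this
  have h3 : (q : ZMod (q ^ e + 1)) ^ (d % (2 * e)) = 1 := by
    rw [← Nat.div_add_mod d (2 * e), pow_add, pow_mul, pow_mul', h0] at h2
    simpa using h2
  by_contra hne
  have h4 : 0 < d % (2 * e) := Nat.pos_of_ne_zero fun h => hne (Nat.dvd_of_mod_eq_zero h)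
  have h5 : d % (2 * e) < 2 * e := Nat.mod_lt _ (by omega)
  generalize d % (2 * e) = r at h3 h4 h5
  by_cases hr : r ≤ e
  · have h6 : q ^ e + 1 ∣ q ^ r - 1 := by
      rw [← ZMod.natCast_eq_zero_iff, Nat.cast_sub (h1 r), sub_eq_zero]
      exact_mod_cast h3
    have h7 : q ^ r ≤ q ^ e := Nat.pow_le_pow_right (by omega) hr
    have h8 : 1 < q ^ r := Nat.one_lt_pow h4.ne' hq
    have := Nat.le_of_dvd (by omega) h6
    omega
  · obtain ⟨s, rfl⟩ : ∃ s, r = e + s := ⟨r - e, by omega⟩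
    have h6 : q ^ e + 1 ∣ q ^ s + 1 := by
      rw [← ZMod.natCast_eq_zero_iff]
      rw [pow_add, h0] at h3
      push_cast
      linear_combination -h3
    have h7 : q ^ s < q ^ e := Nat.pow_lt_pow_right hq (by omega)
    have := Nat.le_of_dvd (by omega) h6
    omega

theorem lte_bound {p q n e j d : ℕ} (hp : p.Prime) (hp2 : p ≠ 2) (hq : 2 ≤ q) (hn : 1 ≤ n)
    (he : 1 ≤ e) (h : p ^ n = q ^ e + 1) (hd : 0 < d) (hdvd : p ^ (n + j) ∣ q ^ d - 1) :
    2 * e * p ^ j ≤ d := by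
  have := Fact.mk hp
  obtain ⟨c, rfl⟩ := two_mul_dvd_of_dvd_pow_sub_one hq he
    (h ▸ (pow_dvd_pow p (Nat.le_add_right n j)).trans hdvd)
  have hc : c ≠ 0 := by rintro rfl; simp at hd
  have hy : 2 ≤ q ^ e := le_trans hq (Nat.le_self_pow (by omega) q)
  have hx : q ^ (2 * e) - 1 = p ^ n * (p ^ n - 2) := by
    rw [mul_comm 2, pow_mul, h]
    obtain ⟨y, hy'⟩ : ∃ y, q ^ e = y + 1 := ⟨q ^ e - 1, by omega⟩
    rw [hy', show y + 1 + 1 - 2 = y by omega]
    exact Nat.sub_eq_of_eq_add (by ring)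
  have hpn : p ∣ p ^ n := dvd_pow_self p (by omega)
  have h1 : ¬ p ∣ p ^ n - 2 := fun h1 => hp2 ((Nat.prime_dvd_prime_iff_eq hp Nat.prime_two).mp (by
    have := Nat.dvd_sub hpn h1
    rwa [Nat.sub_sub_self (by omega)] at this))
  have hx1 : 1 < q ^ (2 * e) := Nat.one_lt_pow (by omega) hq
  have h2 : ¬ p ∣ q ^ (2 * e) := fun h2 => hp.one_lt.ne' (Nat.dvd_one.mp (by
    have := Nat.dvd_sub h2 (hx ▸ hpn.mul_right (p ^ n - 2))
    rwa [Nat.sub_sub_self hx1.le] at this))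
  have h3 := padicValNat.pow_sub_pow (hp.odd_of_ne_two hp2) hx1 (hx ▸ hpn.mul_right _) h2 hc
  rw [one_pow, ← pow_mul, hx, padicValNat.mul (pow_pos hp.pos n).ne' (by omega),
    padicValNat.prime_pow, padicValNat.eq_zero_of_not_dvd h1] at h3
  have h4 := (padicValNat_dvd_iff_le (Nat.sub_ne_zero_of_lt
    (Nat.one_lt_pow hd.ne' hq))).mp hdvd
  have h5 : p ^ j ∣ c := (padicValNat_dvd_iff_le hc).mpr (by omega)
  exact Nat.mul_le_mul_left _ (Nat.le_of_dvd (Nat.pos_of_ne_zero hc) h5)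

/-- A cyclic `p`-group acting semiregularly on the nontrivial cosets of a normal subgroup. -/
theorem pow_dvd_index_sub_one {Q : Type*} [Group Q] [Finite Q] {α : MulAut Q} {p m : ℕ}
    (hp : p.Prime) (hα : α ^ p ^ (m + 1) = 1) (D : Subgroup Q) [D.Normal]
    (hD : ∀ x, α x ∈ D ↔ x ∈ D) (hfpf : ∀ x, (α ^ p ^ m) x * x⁻¹ ∈ D → x ∈ D) :
    p ^ (m + 1) ∣ D.index - 1 := by
  classical
  let _ := Fintype.ofFinite (Q ⧸ D)
  have hmap : D.map (α : Q →* Q) = D := by
    ext x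
    constructor
    · rintro ⟨y, hy, rfl⟩; exact (hD y).mpr hy
    · intro hx
      exact ⟨α.symm x, (hD _).mp (by simpa using hx), by simp⟩
  let f : Equiv.Perm (Q ⧸ D) := (QuotientGroup.congr _ _ α hmap).toEquiv
  have hf : ∀ i (x : Q), (f ^ i) (x : Q ⧸ D) = ((α ^ i) x : Q) := by
    intro i x
    induction i with
    | zero => simp
    | succ i ih => rw [pow_succ', Equiv.Perm.mul_apply, ih, pow_succ']; rfl
  have hf1 : f ^ p ^ (m + 1) = 1 := by
    ext q
    induction q using QuotientGroup.induction_on with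
    | H x => rw [hf, hα]; rfl
  obtain ⟨R, -, hR⟩ := H1.exists_orbit_reps f (pow_pos hp.pos _) hf1 (Finset.univ.erase 1)
    (fun q hq => by
      simp only [Finset.mem_erase, Finset.mem_univ, and_true] at hq ⊢
      exact fun h' => hq ((QuotientGroup.congr _ _ α hmap).map_eq_one_iff.mp h'))
    (fun q hq i hi0 hi he => by
      simp only [Finset.mem_erase, Finset.mem_univ, and_true] at hq
      have h1 := H1.pow_mem_of_pow_mem (MulAction.stabilizer (Equiv.Perm (Q ⧸ D)) q) hp hf1 hi0 hi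
        he
      induction q using QuotientGroup.induction_on with
      | H x =>
        rw [MulAction.mem_stabilizer_iff, Equiv.Perm.smul_def, hf,
          QuotientGroup.eq_iff_div_mem, div_eq_mul_inv] at h1
        exact hq ((QuotientGroup.eq_one_iff x).mpr (hfpf x h1)))
  have hcard := H1.card_eq_of_orbit_reps hR
  rw [Finset.card_erase_of_mem (Finset.mem_univ _), Finset.card_univ, ← Nat.card_eq_fintype_card,
    ← Subgroup.index_eq_card] at hcard
  exact ⟨R.card, by rw [hcard, mul_comm]⟩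

theorem prod_range_mul_of_periodic {M : Type*} [CommMonoid M] (f : ℕ → M) (P : ℕ)
    (hf : ∀ i, f (P + i) = f i) (a : ℕ) :
    ∏ i ∈ Finset.range (P * a), f i = (∏ i ∈ Finset.range P, f i) ^ a := by
  induction a with
  | zero => simp
  | succ a ih =>
    rw [mul_add, mul_one, add_comm, Finset.prod_range_add, pow_succ', ← ih]
    simp [hf]

section Core

variable {k V : Type*} [Field k] [AddCommGroup V] [Module k V] {Q : Type*} [Group Q]

/-- The character by which the centre acts on an irreducible module. -/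
theorem exists_center_char [IsAlgClosed k] [FiniteDimensional k V] [Nontrivial V]
    {σ : Q →* End k V} (hirr : H1.IrrBy (Set.range σ)) :
    ∃ μ : center Q →* k, ∀ z : center Q, σ z = μ z • 1 := by
  have h : ∀ z : center Q, ∃ c : k, σ z = c • 1 := fun z =>
    H1.mem_scalarSub_of_commute hirr fun y => by
      rw [← map_mul, ← map_mul, mem_center_iff.mp z.2]
  choose μ hμ using h
  have hinj : ∀ a b : k, a • (1 : End k V) = b • 1 → a = b := fun a b h =>
    smul_left_injective k one_ne_zero h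
  refine ⟨⟨⟨μ, hinj _ _ ?_⟩, fun a b => hinj _ _ ?_⟩, hμ⟩
  · rw [← hμ]; simp
  · rw [← hμ, coe_mul, map_mul, hμ, hμ, smul_mul_smul_comm, one_mul]

theorem gross_core [IsAlgClosed k] [FiniteDimensional k V]
    [Finite Q] {σ : Q →* End k V} {α : MulAut Q} {Y : End k V} {p q : ℕ} (hp : p.Prime)
    (hq : q.Prime) (hqp : q ≠ p) (hQ : IsPGroup q Q) (hqk : (q : k) ≠ 0)
    (hc2 : ∀ a b c : Q, Commute ⁅a, b⁆ c)
    (hcov : ∀ x, Y * σ x = σ (α x) * Y) {m : ℕ} (hα : α ^ p ^ (m + 1) = 1)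
    (hfpf : ∀ Z : Subgroup Q, _root_.commutator Q ≤ Z → (∀ x ∈ Z, (α ^ p ^ m) x ∈ Z) →
      ∀ x, (α ^ p ^ m) x * x⁻¹ ∈ Z → x ∈ Z)
    {W : Submodule k V} (hW0 : W ≠ ⊥) (hWσ : ∀ x, ∀ u ∈ W, σ x u ∈ W) (hWY : ∀ u ∈ W, Y u ∈ W)
    (hnofix : ∀ v ∈ W, (∀ x, σ x v = v) → v = 0) (hpk : (p : k) ≠ 0) (hY : Y ^ p ^ (m + 1) = 1)
    (hfix : ∀ v ∈ W, Y v = v → v = 0) (hαfix : ∀ x, α x = x → x = 1) :
    ∃ n e j d, n + j = m + 1 ∧ 1 ≤ n ∧ 1 ≤ e ∧ 1 ≤ j ∧ p ^ n = q ^ e + 1 ∧ 0 < d ∧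
      d ≤ 2 * e * (p ^ j - 1) ∧ p ^ (m + 1) ∣ q ^ d - 1 := by
  classical
  have := Fact.mk hq
  obtain ⟨j, hj, U, hUW, hU0, hσ, hU, hinj, hcrit⟩ :=
    H1.exists_reduction_crit hp hq hQ hqk hc2 hcov hα hfpf hW0 hWσ hWY hnofix hY
  have : Nontrivial U := Submodule.nontrivial_iff_ne_bot.mpr hU0
  have key : ∀ u : U, (Y ^ p ^ j).restrict hU u = u → u = 0 := by
    intro u hu
    refine Subtype.ext (hinj _ u.2 (hfix _ ?_ ?_))
    · rw [LinearMap.sum_apply]
      exact W.sum_mem fun t _ => H1.pow_apply_mem hWY t (hUW u.2)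
    · rw [← sub_eq_zero, ← End.mul_apply, ← LinearMap.sub_apply, ← sub_one_mul, mul_geom_sum,
        LinearMap.sub_apply, sub_eq_zero]
      exact congrArg Subtype.val hu
  have hjm : j ≤ m := by
    by_contra hc
    obtain ⟨u, hu⟩ := exists_ne (0 : U)
    refine hu (key u (Subtype.ext ?_))
    rw [LinearMap.coe_restrict_apply, show j = m + 1 by omega, hY]; rfl
  obtain ⟨hirr, hcomm, hfree, -, hnc, e, he, hd, hind⟩ := hcrit hjm
  have e1 : p ^ j * p ^ (m - j + 1) = p ^ (m + 1) := by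
    rw [← pow_add]; congr 1; omega
  set τ := H1.restrictRep σ U hσ with hτ
  have hcov' : ∀ x, (Y ^ p ^ j).restrict hU * τ x = τ ((α ^ p ^ j) x) * (Y ^ p ^ j).restrict hU :=
    fun x => by ext u; exact LinearMap.congr_fun (H1.cov_pow hcov (p ^ j) x) u
  have hY' : (Y ^ p ^ j).restrict hU ^ p ^ (m - j + 1) = 1 := by
    ext u; rw [H1.coe_restrict_pow, ← pow_mul, e1, hY]; rfl
  have h1 := (H1.crit_coprime hirr hcomm hcov'
    (h := p ^ (m - j + 1)) (by rw [Nat.cast_pow]; exact pow_ne_zero _ hpk) hY'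
    (by rw [← pow_mul, e1, hα]) hfree).2.2 key
  have h2 : 1 < q ^ e := Nat.one_lt_pow (by omega) hq.one_lt
  set Z := H1.scalarSub τ with hZ
  obtain ⟨μ, hμ⟩ := exists_center_char hirr
  let β : MulAut (center Q) := MulAut.characteristic (center Q) α
  have hβ : ∀ i (z : center Q), ((β ^ i) z : Q) = (α ^ i) z := fun i z => by
    rw [← map_pow]; rfl
  have hinj1 : ∀ a b : k, a • (1 : End k U) = b • 1 → a = b := fun a b h =>
    smul_left_injective k (one_ne_zero (α := End k U)) h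
  -- the main point
  have main : ∀ x, (∀ i, 0 < i → i < p ^ j → (α ^ i) x ∈ Z) → x ∈ Z := by
    intro x hx
    refine H1.mem_scalarSub_of_commute hirr fun y => ?_
    let z : center Q := ⟨⁅x, y⁆, mem_center_iff.mpr fun c => (hc2 x y c).eq.symm⟩
    have a1 : ∀ i, μ ((β ^ (p ^ j + i)) z) = μ ((β ^ i) z) := by
      intro i
      refine hinj1 _ _ ?_
      rw [← hμ, hβ, pow_add, MulAut.mul_apply, ← hβ]
      exact H1.cov_scalar hcov' (pow_pos hp.pos _) hY' (hμ _)
    have a2 : ∏ i ∈ Finset.range (p ^ j), μ ((β ^ i) z) = μ z := by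
      rw [Finset.prod_eq_single 0, pow_zero, MulAut.one_apply]
      · intro i hi hi0
        refine hinj1 _ _ ?_
        obtain ⟨c, hc⟩ := hx i (Nat.pos_of_ne_zero hi0) (Finset.mem_range.mp hi)
        rw [← hμ, hβ, one_smul]
        change τ ((α ^ i) ⁅x, y⁆) = 1
        rw [map_commutatorElement, commutatorElement_def, map_mul, map_mul, map_mul, mul_assoc,
          mul_assoc, ← mul_assoc (τ ((α ^ i) y)), ← H1.rep_mul_inv τ ((α ^ i) x), hc]
        congr 1
        have hc' : τ ((α ^ i) x)⁻¹ * τ ((α ^ i) y) = τ ((α ^ i) y) * τ ((α ^ i) x)⁻¹ := by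
          obtain ⟨c', hc'⟩ := inv_mem (hx i (Nat.pos_of_ne_zero hi0) (Finset.mem_range.mp hi))
          rw [hc']; simp
        rw [← hc', mul_assoc, H1.rep_mul_inv, mul_one]
      · intro h; exact absurd (Finset.mem_range.mpr (pow_pos hp.pos j)) h
    have a3 : ∏ i ∈ Finset.range (p ^ (m + 1)), (β ^ i) z = 1 := by
      refine Subtype.ext (hαfix _ ?_)
      have : β (∏ i ∈ Finset.range (p ^ (m + 1)), (β ^ i) z) =
          ∏ i ∈ Finset.range (p ^ (m + 1)), (β ^ i) z := by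
        rw [map_prod]
        have b1 := Finset.prod_range_succ' (fun i => (β ^ i) z) (p ^ (m + 1))
        rw [Finset.prod_range_succ, ← map_pow, hα, map_one, pow_zero] at b1
        rw [mul_right_cancel b1]
        exact Finset.prod_congr rfl fun i _ => by rw [pow_succ', MulAut.mul_apply]
      exact congrArg Subtype.val this
    have a4 : μ z ^ p ^ (m - j + 1) = 1 := by
      rw [← a2, ← prod_range_mul_of_periodic _ _ a1, e1, ← map_prod, a3, map_one]
    obtain ⟨a, ha⟩ := hQ (z : Q)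
    have a5 : μ z ^ q ^ a = 1 := by
      rw [← map_pow, show z ^ q ^ a = 1 from Subtype.ext ha, map_one]
    have a6 : μ z = 1 := by
      have := pow_gcd_eq_one.mpr ⟨a4, a5⟩
      rwa [(Nat.coprime_pow_primes _ _ hp hq hqp.symm).gcd_eq_one, pow_one] at this
    have a7 : τ ⁅x, y⁆ = 1 := by
      have := hμ z
      rwa [a6, one_smul] at this
    rw [← map_mul, ← map_mul, show x * y = ⁅x, y⁆ * (y * x) by
      rw [commutatorElement_def]; group, map_mul, a7, one_mul]
  let D : Subgroup Q := ⨅ i : Fin (p ^ j - 1), Z.comap (α ^ (i.1 + 1) : MulAut Q)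
  have hD1 : ∀ x, x ∈ D ↔ ∀ i, (α ^ i) x ∈ Z := by
    intro x
    refine ⟨fun hx => ?_, fun hx => mem_iInf.mpr fun i => hx _⟩
    have b1 : ∀ i, 0 < i → i < p ^ j → (α ^ i) x ∈ Z := fun i hi0 hi => by
      have := mem_iInf.mp hx ⟨i - 1, by omega⟩
      rwa [mem_comap, show i - 1 + 1 = i by omega] at this
    intro i
    induction i using Nat.strong_induction_on with
    | _ i ih =>
      rcases Nat.eq_zero_or_pos i with rfl | hi0
      · exact main x b1
      by_cases hi : i < p ^ j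
      · exact b1 i hi0 hi
      obtain ⟨i', rfl⟩ : ∃ i', i = p ^ j + i' := ⟨i - p ^ j, by omega⟩
      rw [pow_add, MulAut.mul_apply]
      exact H1.cov_mem_scalarSub hcov' (pow_pos hp.pos _) hY'
        (ih i' (by have := pow_pos hp.pos j; omega))
  have hD2 : ∀ x ∈ D, α x ∈ D := fun x hx => (hD1 _).mpr fun i => by
    rw [← MulAut.mul_apply, ← pow_succ]; exact (hD1 x).mp hx _
  have hD3 : ∀ i, ∀ x ∈ D, (α ^ i) x ∈ D := fun i x hx => (hD1 _).mpr fun l => by
    rw [← MulAut.mul_apply, ← pow_add]; exact (hD1 x).mp hx _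
  have hD4 : ∀ x, α x ∈ D ↔ x ∈ D := fun x => ⟨fun hx => by
    have := hD3 (p ^ (m + 1) - 1) _ hx
    rwa [← MulAut.mul_apply, ← pow_succ, Nat.sub_add_cancel (pow_pos hp.pos _), hα] at this,
    hD2 x⟩
  have hcD : _root_.commutator Q ≤ D := fun x hx => (hD1 x).mpr fun i => hcomm
    (((characteristic_iff_comap_eq.mp inferInstance (α ^ i)).ge hx :))
  have hDn : D.Normal := ⟨fun x hx g => by
    rw [show g * x * g⁻¹ = ⁅g, x⁆ * x by rw [commutatorElement_def]; group]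
    exact mul_mem (hcD (commutator_mem_commutator (mem_top _) (mem_top _))) hx⟩
  have hDZ : D ≤ Z := fun x hx => by simpa using (hD1 x).mp hx 0
  obtain ⟨d, hd'⟩ := hQ.index D
  have hDi : D.index ≤ q ^ (2 * e * (p ^ j - 1)) := by
    refine (index_iInf_le _).trans (le_of_eq ?_)
    rw [Finset.prod_congr rfl fun i _ => (index_comap_of_surjective Z
      (MulEquiv.surjective (α ^ (i.1 + 1) : MulAut Q))).trans hind]
    simp [pow_mul]
  have hd0 : 0 < d := by
    refine Nat.pos_of_ne_zero ?_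
    rintro rfl
    have := index_dvd_of_le hDZ
    rw [hd', hind, pow_zero, Nat.dvd_one] at this
    exact (Nat.one_lt_pow (by omega) hq.one_lt).ne' this
  have hdle : d ≤ 2 * e * (p ^ j - 1) := by
    rwa [hd', Nat.pow_le_pow_iff_right hq.one_lt] at hDi
  have h3 : p ^ (m - j + 1) = q ^ e + 1 := by
    rw [hd] at h1
    exact (h1.resolve_right h2.ne').symm
  refine ⟨m - j + 1, e, j, d, by omega, by omega, he, ?_, h3, hd0, hdle, ?_⟩
  · refine Nat.pos_of_ne_zero ?_
    rintro rfl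
    simp at hdle
    omega
  · rw [← hd']
    exact pow_dvd_index_sub_one hp hα D hD4 (hfpf D hcD (hD3 _))

end Core

section Amb

variable {k V : Type*} [Field k] [AddCommGroup V] [Module k V] [IsAlgClosed k]
  [FiniteDimensional k V] {X : Type*} [Group X] [Finite X]

theorem gross_rep_aux {p : ℕ} (hp : p.Prime) (hpk : (p : k) ≠ 0) (ρ : X →* End k V)
    {Q : Subgroup X} (hQ : (Nat.card Q).Coprime p) (hQk : (Nat.card Q : k) ≠ 0) {g : X}
    (hg : g ∈ normalizer (Q : Set X)) {m : ℕ} (hg1 : g ^ p ^ (m + 1) = 1)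
    (hC : Q ⊓ centralizer {g} = ⊥) (hfix : ∀ v, ρ g v = v → v = 0)
    (hnt : ∃ x ∈ Q, ρ ⁅x, g ^ p ^ m⁆ ≠ 1) :
    ∃ q n e j d, q.Prime ∧ n + j = m + 1 ∧ 1 ≤ n ∧ 1 ≤ e ∧ 1 ≤ j ∧ p ^ n = q ^ e + 1 ∧ 0 < d ∧
      d ≤ 2 * e * (p ^ j - 1) ∧ p ^ (m + 1) ∣ q ^ d - 1 := by
  obtain ⟨h1, q, hq, ⟨c, hc⟩, hqp, R, a1, a2, hnt', a4, a5, a6⟩ :=
    H1.exists_class_two_kerRep hp ρ hQ hg (by rw [← map_pow, hg1, map_one]) hnt
  have hqk : (q : k) ≠ 0 := fun h => hQk (by rw [hc, Nat.cast_mul, h, zero_mul])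
  have := Fact.mk hq
  obtain ⟨W, b1, b2, b3, b4⟩ :=
    H1.exists_nofix_subspace' (H1.kerRep ρ) (H1.cast_card_ne_zero_of_isPGroup hq a2 hqk) a4 hnt'
  have hC' := H1.map_inf_centralizer_map (QuotientGroup.mk' ρ.ker) (zpowers_le.mpr hg)
    (by rw [Nat.card_zpowers]; exact H1.orderOf_coprime_of_pow_eq_one hg1 hQ)
    (Or.inl (H1.isSolvable_of_isMulCommutative inferInstance))
  rw [H1.centralizer_zpowers', hC, Subgroup.map_bot, MonoidHom.map_zpowers,
    H1.centralizer_zpowers'] at hC'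
  obtain ⟨n, e, j, d, h⟩ := gross_core hp hq hqp a2 hqk
    (H1.commute_commutator_of_le_centralizer a5) (H1.cov_conjAutOf (H1.kerRep ρ) a4)
    (H1.conjAutOf_pow_eq_one a4 (h1 ▸ one_mem _))
    (H1.fpf_of_commutator_eq a4 (H1.coprime_card_of_isPGroup a2 (H1.orderOf_coprime_of_pow_eq_one
      (p := p) (m := 1) (by rw [← pow_mul, ← pow_add, h1])
      ((Nat.coprime_primes hq hp).mpr hqp))) a6) b1 b2 b3 b4 hpk
    (by rw [← map_pow, h1, map_one]) (fun v _ => hfix v) (fun x hx => by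
      have h2 : (x : X ⧸ ρ.ker) ∈ Q.map (QuotientGroup.mk' ρ.ker) ⊓
          centralizer {QuotientGroup.mk' ρ.ker g} := by
        refine mem_inf.mpr ⟨a1 x.2, mem_centralizer_singleton_iff.mpr ?_⟩
        have := congrArg Subtype.val hx
        rw [H1.coe_conjAutOf] at this
        exact (mul_inv_eq_iff_eq_mul.mp this).symm
      rw [hC'] at h2
      exact Subtype.ext h2)
  exact ⟨q, n, e, j, d, hq, h⟩

/-- The theorem of Shult and Gross at module level. -/
theorem gross_rep {p : ℕ} (hp : p.Prime) (hpk : (p : k) ≠ 0) (ρ : X →* End k V)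
    {Q : Subgroup X} (hQ : (Nat.card Q).Coprime p) (hQk : (Nat.card Q : k) ≠ 0) {g : X}
    (hg : g ∈ normalizer (Q : Set X)) {m : ℕ} (hm : p ≠ 2 ∨ m ≤ 1) (hg1 : g ^ p ^ (m + 1) = 1)
    (hC : Q ⊓ centralizer {g} = ⊥) (hfix : ∀ v, ρ g v = v → v = 0) :
    ⁅Q, zpowers (g ^ p ^ m)⁆ ≤ ρ.ker := by
  refine H1.commutator_zpowers_le (le_normalizer_of_normal ⊤ _ (mem_top _)) fun x hx => ?_
  by_contra hne
  obtain ⟨q, n, e, j, d, hq, h1, h2, h3, h4, h5, h6, h7, h8⟩ :=
    gross_rep_aux hp hpk ρ hQ hQk hg hg1 hC hfix ⟨x, hx, hne⟩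
  by_cases hp2 : p = 2
  · have hn : n = 1 := by have := hm.resolve_left (not_not.mpr hp2); omega
    have : 1 < q ^ e := Nat.one_lt_pow (by omega) hq.one_lt
    rw [hn, hp2] at h5
    omega
  · have h9 := lte_bound hp hp2 hq.two_le h2 h3 h5 h6 (h1 ▸ h8)
    have h10 : 1 ≤ p ^ j := Nat.one_le_pow _ _ hp.pos
    obtain ⟨P, hP⟩ : ∃ P, p ^ j = P + 1 := ⟨p ^ j - 1, by omega⟩
    rw [hP] at h7 h9
    simp only [add_tsub_cancel_right] at h7
    nlinarith

/-- Thompson's lemma at module level. -/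
theorem thompson_rep {p : ℕ} (hp : p.Prime) (hpk : (p : k) ≠ 0) (ρ : X →* End k V)
    {Q : Subgroup X} (hQ : (Nat.card Q).Coprime p) (hQk : (Nat.card Q : k) ≠ 0) {g : X}
    (hg : g ∈ normalizer (Q : Set X)) (hg1 : g ^ p = 1)
    (hC : Q ⊓ centralizer {g} = ⊥) (hfix : ∀ v, ρ g v = v → v = 0) : Q ≤ ρ.ker := by
  have h := gross_rep hp hpk ρ hQ hQk hg (m := 0) (Or.inr zero_le_one) (by simpa using hg1) hC hfix
  have h1 := H1.commutator_sup_centralizer (zpowers_le.mpr hg)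
    (by rw [Nat.card_zpowers]
        exact H1.orderOf_coprime_of_pow_eq_one (m := 1) (by simpa using hg1) hQ)
    (Or.inl (H1.isSolvable_of_isMulCommutative inferInstance))
  rw [H1.centralizer_zpowers', hC, sup_bot_eq] at h1
  rw [← h1]
  simpa using h

end Amb

section Group

variable {X : Type u} [Group X] [Finite X] {G : Subgroup X} [G.Normal]

/-- Transfer of a module statement to the centralizer of `O_t`. -/
theorem le_centralizer_pCore_of_rep {A B : Subgroup X} (hcop : (Nat.card A).Coprime (Nat.card G))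
    (hC : G ⊓ centralizer (A : Set X) = ⊥) {t : ℕ} (ht : t.Prime)
    (hB : (Nat.card B).Coprime t)
    (h : ∀ (k : Type) (V : Type u) [Field k] [IsAlgClosed k] [CharP k t] [AddCommGroup V]
      [Module k V] [FiniteDimensional k V] (ρ : X →* End k V), (Nat.card A).Coprime t →
      (∀ v, (∀ a ∈ A, ρ a v = v) → v = 0) → B ≤ ρ.ker) :
    B ≤ centralizer ((pCore t X ⊓ G : Subgroup X) : Set X) := by
  have := Fact.mk ht
  by_cases h0 : pCore t X ⊓ G = ⊥
  · rw [h0, le_centralizer_iff]; simp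
  have hP : IsPGroup t (pCore t X ⊓ G : Subgroup X) := (L.isPGroup_pCore t).to_le inf_le_left
  have hAt : (Nat.card A).Coprime t := by
    refine hcop.coprime_dvd_right (Dvd.dvd.trans ?_ (card_dvd_of_le (inf_le_right :
      pCore t X ⊓ G ≤ G)))
    obtain ⟨n, hn⟩ := hP.exists_card_eq
    rw [hn]
    refine dvd_pow_self t ?_
    rintro rfl
    exact h0 (card_eq_one.mp (by simpa using hn))
  obtain ⟨V, i1, i2, i3, ρ, a1, a2⟩ := exists_rep_pgroup (pCore t X ⊓ G) hP
  refine a1 B hB (h _ V ρ hAt (a2 A hAt ?_))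
  rw [eq_bot_iff, ← hC]
  exact inf_le_inf_right _ inf_le_right

theorem gross_le_fitting (hG : Group.IsSolvable G) {p : ℕ} (hp : p.Prime) {g : X} {m : ℕ}
    (hm : p ≠ 2 ∨ m ≤ 1) (hg1 : g ^ p ^ (m + 1) = 1) (hGp : (Nat.card G).Coprime p)
    (hC : G ⊓ centralizer {g} = ⊥) : ⁅G, zpowers (g ^ p ^ m)⁆ ≤ fittingSubgroup X := by
  have hcop : (Nat.card (zpowers g)).Coprime (Nat.card G) := by
    rw [Nat.card_zpowers]; exact H1.orderOf_coprime_of_pow_eq_one hg1 hGp
  refine commutator_le_fitting hG (zpowers_le.mpr (npow_mem_zpowers g _)) hcop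
    fun s t hs ht hst Q hQG hQ hAQ => ?_
  have := Fact.mk hs
  have hQt : (Nat.card Q).Coprime t :=
    (H1.coprime_card_of_isPGroup hQ ((Nat.coprime_primes ht hs).mpr hst.symm)).symm
  by_cases hpt : p = t
  · have : pCore t X ⊓ G = ⊥ := H1.inf_eq_bot_of_coprime' (by
      have := Fact.mk ht
      exact (H1.coprime_card_of_isPGroup (L.isPGroup_pCore t) (hpt ▸ hGp)).symm)
    rw [this, le_centralizer_iff]; simp
  refine le_centralizer_pCore_of_rep hcop (by rwa [H1.centralizer_zpowers']) ht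
    (hQt.coprime_dvd_left (card_dvd_of_le (H1.commutator_le_of_le_normalizer
      ((zpowers_le.mpr (npow_mem_zpowers g _)).trans hAQ)))) fun k V _ _ _ _ _ _ ρ _ hfix => ?_
  refine gross_rep hp (H1.cast_ne_zero_of_prime_ne ht hp hpt) ρ
    (hGp.coprime_dvd_left (card_dvd_of_le hQG)) (H1.cast_ne_zero_of_coprime ht hQt)
    (hAQ (mem_zpowers g)) hm hg1 ?_ fun v hv => hfix v ?_
  · rw [eq_bot_iff, ← hC]; exact inf_le_inf_right _ hQG
  · intro a ha
    obtain ⟨n, rfl⟩ := mem_powers_iff_mem_zpowers.mpr ha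
    simp only [map_pow]
    clear ha
    induction n with
    | zero => simp
    | succ n ih => rw [pow_succ', End.mul_apply, ih, hv]

end Group

end Cfsg.Agent.H9
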