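import Cfsg.Agent.H9.CritMult

/-!
Lower bounds for the commutator space of an element of prime order acting on a coprime group and
a module.
-/

set_option autoImplicit false

namespace Cfsg.Agent.H9

open Subgroup Module
open scoped commutatorElement IsMulCommutative

universe u v

variable {k : Type*} [Field k] [IsAlgClosed k]

omit [IsAlgClosed k] in
theorem finrank_le_inf_add {V W : Type*} [AddCommGroup V] [Module k V] [FiniteDimensional k V]
    [AddCommGroup W] [Module k W] [FiniteDimensional k W] (f : V →ₗ[k] W) (A : Submodule k V)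
    (B : Submodule k W) (h : ∀ a ∈ A, f a ∈ B) :
    finrank k A ≤ finrank k (A ⊓ LinearMap.ker f : Submodule k V) + finrank k B := by
  have h1 := (f.domRestrict A).finrank_range_add_finrank_ker
  have h2 : finrank k (LinearMap.range (f.domRestrict A)) ≤ finrank k B :=
    Submodule.finrank_mono (by rintro _ ⟨a, rfl⟩; exact h a a.2)
  rw [LinearMap.ker_domRestrict, ← Submodule.finrank_map_subtype_eq,
    Submodule.map_comap_subtype] at h1
  omega

theorem zpowers_inf_eq_bot_of_notMem {X : Type*} [Group X] {p : ℕ} (hp : p.Prime) {g : X}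
    (hg : g ^ p = 1) {S : Subgroup X} (h : g ∉ S) {i : ℕ} (hi0 : 0 < i) (hi : i < p) :
    g ^ i ∉ S := fun h1 => h (by
  simpa using H1.pow_mem_of_pow_mem S hp (n := 0) (by simpa using hg) hi0 (by simpa using hi) h1)

theorem frob_free_aux {X : Type u} [Group X] [Finite X] {T : Subgroup X} (hT : IsMulCommutative T)
    (hTk : (Nat.card T : k) ≠ 0) {p : ℕ} (hp : p.Prime) (hpk : (p : k) ≠ 0) {g : X}
    (hg : g ∈ normalizer (T : Set X)) (hg1 : g ^ p = 1) (hz : ⁅T, zpowers g⁆ = T)
    (htop : T ⊔ zpowers g = ⊤) (d : ℕ) :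
    ∀ (V : Type v) [AddCommGroup V] [Module k V] [FiniteDimensional k V] (ρ : X →* End k V),
      finrank k V = d → sumRep ρ T = 0 →
        p * finrank k (LinearMap.ker (ρ g - 1)) ≤ d ∧ (d ≠ 0 → p ≤ d) := by
  classical
  induction d using Nat.strong_induction_on with
  | _ d ih =>
  intro V _ _ _ ρ hd hsum
  by_cases hd0 : d = 0
  · have := Submodule.finrank_le (LinearMap.ker (ρ g - 1))
    refine ⟨?_, fun h => absurd hd0 h⟩
    rw [show finrank k (LinearMap.ker (ρ g - 1)) = 0 by omega]; simp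
  have : Nontrivial V := Module.nontrivial_of_finrank_pos (R := k) (by omega)
  obtain ⟨μ, hμ⟩ := exists_wsp (ρ := ρ) hT le_rfl hTk fun h => by
    obtain ⟨v, hv⟩ := exists_ne (0 : V)
    have h1 := sumRep_apply_of_fix ρ T (v := v) fun a ha => by rw [h ha, End.one_apply]
    rw [hsum, LinearMap.zero_apply] at h1
    exact hv ((smul_eq_zero.mp h1.symm).resolve_left hTk)
  have hgS : g ∉ wstab T μ := fun h =>
    hμ (hz.ge.trans ((commutator_mono le_rfl (zpowers_le.mpr h)).trans (commutator_le_fixer hT)))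
  obtain ⟨v, hv, hv0⟩ := Submodule.exists_mem_ne_zero_of_ne_bot (wsp_ne_bot_of_not_le hμ)
  let b : Fin p → V := fun i => ρ (g ^ (i : ℕ)) v
  have hb : LinearIndependent k b := by
    rw [Fintype.linearIndependent_iff]
    intro a ha i
    have h1 := congrArg (ρ (g ^ (i : ℕ))⁻¹) ha
    rw [map_sum, map_zero, Finset.sum_congr rfl
      (g := fun j : Fin p => ρ ((g ^ (i : ℕ))⁻¹ * g ^ (j : ℕ)) (a j • v)) fun j _ => by
        rw [rep_mul_apply, map_smul, map_smul, map_smul]] at h1
    have h2 := sum_filter_eq_zero Finset.univ (fun j : Fin p => (g ^ (i : ℕ))⁻¹ * g ^ (j : ℕ))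
      (fun j => a j • v) (fun j _ => mul_mem (inv_mem (pow_mem hg _)) (pow_mem hg _))
      (fun j _ => Submodule.smul_mem _ _ hv) h1
    rw [Finset.sum_eq_single i] at h2
    · simpa [hv0] using h2
    · intro j hj hji
      have h3 := (Finset.mem_filter.mp hj).2
      exfalso
      rcases lt_or_gt_of_ne (Fin.val_ne_of_ne hji) with h | h
      · refine zpowers_inf_eq_bot_of_notMem hp hg1 hgS (i := i - j) (by omega) (by omega) ?_
        rw [pow_sub _ h.le, (Commute.pow_pow_self g i j).inv_right.eq]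
        simpa using inv_mem h3
      · refine zpowers_inf_eq_bot_of_notMem hp hg1 hgS (i := j - i) (by omega) (by omega) ?_
        rwa [pow_sub _ h.le, (Commute.pow_pow_self g j i).inv_right.eq]
    · intro h
      exact (h (Finset.mem_filter.mpr ⟨Finset.mem_univ _, by simp⟩)).elim
  let U := Submodule.span k (Set.range b)
  have hU : finrank k U = p := by rw [finrank_span_eq_card hb, Fintype.card_fin]
  have hmem : ∀ a ∈ zpowers g, ρ a v ∈ U := by
    intro a ha
    obtain ⟨n, rfl⟩ := mem_powers_iff_mem_zpowers.mpr ha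
    refine Submodule.subset_span ⟨⟨n % p, Nat.mod_lt _ hp.pos⟩, ?_⟩
    simp only [b]
    rw [← pow_eq_pow_mod n hg1]
  have hinv : ∀ x, U ≤ U.comap (ρ x) := by
    intro x
    refine Submodule.span_le.mpr ?_
    rintro _ ⟨i, rfl⟩
    obtain ⟨a, ha, t, ht, rfl⟩ := (H1.mem_sup_iff_of_le_normalizer (zpowers_le.mpr hg)).mp
      (show x ∈ zpowers g ⊔ T by rw [sup_comm, htop]; trivial)
    change ρ (a * t) (ρ (g ^ (i : ℕ)) v) ∈ U
    rw [rep_mul_apply, apply_mem_wsp_conj (pow_mem hg _) hv t ht, map_smul, ← rep_mul_apply]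
    exact U.smul_mem _ (hmem _ (mul_mem ha (npow_mem_zpowers g _)))
  let ρ' : X →* End k (V ⧸ U) := Representation.quotient ρ U hinv
  have hρ' : ∀ x w, ρ' x (U.mkQ w) = U.mkQ (ρ x w) := fun x w => rfl
  have hq := U.finrank_quotient_add_finrank
  have hlt : finrank k (V ⧸ U) < d := by have := hp.pos; omega
  obtain ⟨h1, -⟩ := ih _ hlt (V ⧸ U) ρ' rfl (by
    let _ := Fintype.ofFinite T
    ext w
    have := congrArg U.mkQ (LinearMap.congr_fun hsum w)
    rw [sumRep_eq, LinearMap.sum_apply, map_sum] at this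
    simp only [LinearMap.comp_apply, sumRep_eq, LinearMap.sum_apply, hρ']
    exact this)
  have h2 := finrank_le_inf_add U.mkQ (LinearMap.ker (ρ g - 1)) (LinearMap.ker (ρ' g - 1))
    fun a ha => by
      rw [LinearMap.mem_ker, LinearMap.sub_apply, sub_eq_zero] at ha ⊢
      rw [hρ', ha]; rfl
  have h3 : finrank k (LinearMap.ker (ρ g - 1) ⊓ LinearMap.ker U.mkQ : Submodule k V) ≤ 1 := by
    refine le_trans (Submodule.finrank_mono (t := Submodule.span k {sumRep ρ (zpowers g) v}) ?_)
      ((finrank_span_le_card _).trans (by simp))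
    rw [Submodule.ker_mkQ]
    rintro u ⟨hu1, hu2⟩
    have h4 : U ≤ (Submodule.span k {sumRep ρ (zpowers g) v}).comap (sumRep ρ (zpowers g)) := by
      refine Submodule.span_le.mpr ?_
      rintro _ ⟨i, rfl⟩
      change (sumRep ρ (zpowers g) * ρ (g ^ (i : ℕ))) v ∈ Submodule.span k _
      rw [sumRep_mul ρ _ (npow_mem_zpowers g _)]
      exact Submodule.mem_span_singleton_self _
    have h5 := h4 hu2
    have h6 : ρ g u = u := by simpa [sub_eq_zero] using hu1
    rw [Submodule.mem_comap, sumRep_apply_of_fix ρ _ fun a ha => fix_of_mem_zpowers h6 ha] at h5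
    refine (Submodule.smul_mem_iff _ ?_).mp h5
    rw [Nat.card_zpowers]
    rcases (Nat.dvd_prime hp).mp (orderOf_dvd_of_pow_eq_one hg1) with h | h <;> simp [h, hpk]
  refine ⟨?_, fun _ => by omega⟩
  have := Nat.mul_le_mul_left p (h2.trans (Nat.add_le_add_right h3 _))
  rw [mul_add] at this
  omega

variable {V : Type v} [AddCommGroup V] [Module k V] [FiniteDimensional k V]
  {X : Type u} [Group X] [Finite X]

theorem frob_free (ρ : X →* End k V) {T : Subgroup X} (hT : IsMulCommutative T)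
    (hTk : (Nat.card T : k) ≠ 0) {p : ℕ} (hp : p.Prime) (hpk : (p : k) ≠ 0) {g : X}
    (hg : g ∈ normalizer (T : Set X)) (hg1 : g ^ p = 1) (hz : ⁅T, zpowers g⁆ = T)
    (hnofix : ∀ v, (∀ t ∈ T, ρ t v = v) → v = 0) :
    p * finrank k (LinearMap.ker (ρ g - 1)) ≤ finrank k V ∧ (finrank k V ≠ 0 → p ≤ finrank k V) := by
  let L := T ⊔ zpowers g
  have hTL : T ≤ L := le_sup_left
  have hgL : zpowers g ≤ L := le_sup_right
  let g' : L := ⟨g, hgL (mem_zpowers g)⟩
  have h1 : (zpowers g).subgroupOf L = zpowers g' := by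
    apply map_injective L.subtype_injective
    rw [subgroupOf_map_subtype, inf_eq_left.mpr hgL, MonoidHom.map_zpowers]; rfl
  have hc : Nat.card (T.subgroupOf L) = Nat.card T :=
    Nat.card_congr (subgroupOfEquivOfLe hTL).toEquiv
  refine frob_free_aux (T := T.subgroupOf L) inferInstance (hc ▸ hTk) hp hpk (g := g')
    (H1.mem_normalizer_subgroupOf hg) (Subtype.ext hg1)
    (by rw [← h1, ← H1.subgroupOf_commutator hTL hgL, hz])
    (by rw [← h1, ← subgroupOf_sup hTL hgL, subgroupOf_self]) _ V (ρ.comp L.subtype) rfl ?_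
  have := (eq_zero_on_fix_iff (ρ.comp L.subtype) (T.subgroupOf L) (hc ▸ hTk) 1).mp
    fun v hv => hnofix v fun t ht => hv ⟨t, hTL ht⟩ ht
  rwa [one_mul] at this

theorem crit_arith {p D c : ℕ} (hp : 3 ≤ p) (hpo : Odd p) (hD : Odd D) (hD1 : 1 < D)
    (hdvd : p ∣ D - 1 ∨ p ∣ D + 1) (hc : D + 1 ≤ c + p)
    (h : p * (c ^ 2 + D) + 1 ≤ D ^ 2 + p + p * c) : False := by
  have h1 : 2 * p ≤ D + 1 := by
    have h2 : Nat.Coprime 2 p := Nat.coprime_two_left.mpr hpo
    obtain ⟨a, rfl⟩ := hD
    rcases hdvd with h3 | h3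
    · have := Nat.le_of_dvd (by omega) (h2.mul_dvd_of_dvd_of_dvd (by omega) h3)
      omega
    · exact Nat.le_of_dvd (by omega) (h2.mul_dvd_of_dvd_of_dvd (by omega) h3)
  have h2 : p ≤ c := by omega
  by_cases h3 : p = 3
  · subst h3
    nlinarith
  · have h4 : 5 ≤ p := by obtain ⟨a, rfl⟩ := hpo; omega
    obtain ⟨c, rfl⟩ : ∃ c', c = c' + 1 := ⟨c - 1, by omega⟩
    have h5 : D ≤ 2 * c + 1 := by omega
    have h6 : D ^ 2 ≤ (2 * c + 1) ^ 2 := Nat.pow_le_pow_left h5 2
    have h7 : 5 * (c ^ 2 + c) ≤ p * (c ^ 2 + c) := Nat.mul_le_mul_right _ h4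
    nlinarith

/-- If the commutator space of `g` is small, a minimal `r`-group is abelian and the module is
free. -/
theorem small_commutator_bound (ρ : X →* End k V) (hρ : ∀ x, ρ x = 1 → x = 1) {p r : ℕ}
    (hp : p.Prime) (hr : r.Prime) (hp2 : p ≠ 2) (hr2 : r ≠ 2) (hrp : r ≠ p) (hpk : (p : k) ≠ 0)
    (hrk : (r : k) ≠ 0) {T : Subgroup X} (hT : IsPGroup r T) {g : X}
    (hg : g ∈ normalizer (T : Set X)) (hg1 : g ^ p = 1) (hnt : ⁅T, zpowers g⁆ ≠ ⊥)
    (hmin : ∀ U : Subgroup X, U < T → zpowers g ≤ normalizer (U : Set X) → ⁅U, zpowers g⁆ = ⊥)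
    (hnofix : ∀ v, (∀ t ∈ T, ρ t v = v) → v = 0)
    (hsmall : finrank k V + 1 ≤ finrank k (LinearMap.ker (ρ g - 1)) + p) :
    p * finrank k (LinearMap.ker (ρ g - 1)) ≤ finrank k V ∧ (finrank k V ≠ 0 → p ≤ finrank k V) := by
  have := Fact.mk hr
  have hB := zpowers_le.mpr hg
  have hcop : (Nat.card (zpowers g)).Coprime r := by
    rw [Nat.card_zpowers]
    exact H1.orderOf_coprime_of_pow_eq_one (m := 1) (by simpa using hg1)
      ((Nat.coprime_primes hr hp).mpr hrp)
  have a1 := H1.minimal_commutator_eq hT hB le_rfl le_normalizer hcop hnt hmin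
  have a2 := H1.minimal_class_two hT hB le_rfl le_normalizer hcop hnt hmin
  have a3 := H1.minimal_frattini_eq hT hB le_rfl le_normalizer hcop hnt hmin
  have a4 := H1.minimal_frattini_commutator hB hnt hmin
  have a5 := H1.minimal_irreducible hT hB le_rfl le_normalizer hcop hnt hmin
  rw [a3] at a4 a5
  by_cases hab : ⁅T, T⁆ = ⊥
  · exact frob_free ρ (le_centralizer_iff_isMulCommutative.mp
      (commutator_eq_bot_iff_le_centralizer.mp hab))
      (H1.cast_card_ne_zero_of_isPGroup hr hT hrk) hp hpk hg hg1 a1 hnofix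
  exfalso
  have hD : ⁅T, T⁆ ≤ T := H1.commutator_le_of_le_normalizer le_normalizer
  have hDk := H1.cast_card_ne_zero_of_isPGroup hr (hT.to_le hD) hrk
  have hDg : g ∈ centralizer ((⁅T, T⁆ : Subgroup X) : Set X) :=
    H1.commutator_eq_bot_iff_le_centralizer'.mp a4 (mem_zpowers g)
  let _ := Fintype.ofFinite (⁅T, T⁆ : Subgroup X)
  have hinv : ∀ x ∈ centralizer ((⁅T, T⁆ : Subgroup X) : Set X),
      ∀ u ∈ LinearMap.ker (sumRep ρ ⁅T, T⁆), ρ x u ∈ LinearMap.ker (sumRep ρ ⁅T, T⁆) := by
    intro x hx u hu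
    rw [LinearMap.mem_ker] at hu ⊢
    rw [← map_zero (ρ x), ← hu, sumRep_eq, LinearMap.sum_apply, LinearMap.sum_apply, map_sum]
    exact Finset.sum_congr rfl fun a _ => by
      rw [← rep_mul_apply, ← rep_mul_apply, mem_centralizer_iff.mp hx _ a.2]
  have hW : ∀ u ∈ LinearMap.ker (sumRep ρ ⁅T, T⁆), (∀ x ∈ ⁅T, T⁆, ρ x u = u) → u = 0 := by
    intro u hu h
    rw [LinearMap.mem_ker, sumRep_apply_of_fix ρ _ h] at hu
    exact (smul_eq_zero.mp hu).resolve_left hDk
  obtain ⟨U, -, -, -, hUg, -, e, he, hd, -, hdvd, -, hb⟩ := exists_crit ρ (n := 0) hp hr hrp hpk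
    hrk hT a2 hg (by simpa using hg1) (by simpa using a1) a2 hDg
    (W := LinearMap.ker (sumRep ρ ⁅T, T⁆)) (fun h0 => hab (eq_bot_iff.mpr fun x hx => hρ x (by
      ext v
      exact LinearMap.ker_eq_bot.mp h0 (LinearMap.congr_fun (sumRep_mul ρ _ hx) v))))
    (fun x hx => hinv x (le_centralizer_iff.mp a2 hx)) (hinv g hDg)
    (fun v hv h => hW v hv fun x hx => h x (hD hx)) (fun U hUW hU0 hUT hUg x hx h => by
      have b1 : T ≤ normalizer (fixer ρ U : Set X) := le_normalizer_fixer hUT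
      have b2 : zpowers g ≤ normalizer (fixer ρ U : Set X) := le_normalizer_fixer fun a ha => by
        obtain ⟨n, rfl⟩ := mem_powers_iff_mem_zpowers.mpr ha
        simp only [map_pow]
        exact fun v hv => H1.pow_apply_mem hUg n hv
      rcases a5 (T ⊓ H1.commStab T (fixer ρ U)) (le_inf hD (H1.le_commStab_iff.mpr
        ⟨hD.trans b1, by
          rw [H1.commutator_eq_bot_iff_le_centralizer'.mpr a2]; exact bot_le⟩)) inf_le_left
        (H1.le_normalizer_inf hB fun a ha => mem_normalizer_fintype fun y hy =>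
          ⟨mul_mem (mul_mem (b2 ha) hy.1) (inv_mem (b2 ha)), fun t ht => by
            have := H1.conj_mem_of_le_normalizer b2 ha
              (hy.2 _ (H1.conj_mem_of_le_normalizer' hB ha ht))
            convert this using 1
            simp only [commutatorElement_def]; group⟩) with h1 | h1
      · rw [← h1]
        refine mem_inf.mpr ⟨hx, b1 hx, fun t ht => ?_⟩
        rw [← commutatorElement_inv]
        exact inv_mem (h t ht)
      · exfalso
        obtain ⟨u, hu, hu0⟩ := Submodule.exists_mem_ne_zero_of_ne_bot hU0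
        have h2 : ⁅T, T⁆ ≤ fixer ρ U := (H1.le_commStab_iff.mp (h1.ge.trans inf_le_right)).2
        exact hu0 (hW u (hUW hu) fun y hy => h2 hy u hu))
  simp only [zero_add, pow_one] at hdvd hb
  have h1 := finrank_le_inf_add (ρ g - 1) U (LinearMap.range (ρ g - 1))
    fun a _ => LinearMap.mem_range_self _ a
  have h2 := (ρ g - 1).finrank_range_add_finrank_ker
  exact crit_arith (by have := hp.two_le; omega) (hp.odd_of_ne_two hp2)
    ((hr.odd_of_ne_two hr2).pow) (Nat.one_lt_pow (by omega) hr.one_lt) hdvd (by omega) hb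

end Cfsg.Agent.H9
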