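import Cfsg.Agent.H9.LL
import Cfsg.Agent.H9.FpfCyc
import Cfsg.Agent.H9.AbFix1

/-!
Local forms (on an invariant subspace) of the fixed point free lemmas, and weights adapted to a
semidirect product.
-/

set_option autoImplicit false

namespace Cfsg.Agent.H9

open Subgroup Module
open scoped commutatorElement IsMulCommutative

universe u v

section Local

variable {k : Type*} {V : Type v} [Field k] [AddCommGroup V] [Module k V] {X : Type u} [Group X]

/-- The restriction of a representation to a subgroup and an invariant subspace. -/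
def locRep (ρ : X →* End k V) (L : Subgroup X) (U : Submodule k V)
    (hU : ∀ x ∈ L, ∀ u ∈ U, ρ x u ∈ U) : L →* End k U :=
  H1.restrictRep (ρ.comp L.subtype) U fun x => hU x x.2

theorem ker_locRep (ρ : X →* End k V) (L : Subgroup X) (U : Submodule k V)
    (hU : ∀ x ∈ L, ∀ u ∈ U, ρ x u ∈ U) : (locRep ρ L U hU).ker = (fixer ρ U).subgroupOf L := by
  ext x
  constructor
  · intro h u hu
    exact congrArg Subtype.val (LinearMap.congr_fun h ⟨u, hu⟩)
  · intro h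
    refine LinearMap.ext fun u => Subtype.ext ?_
    exact h u u.2

theorem locRep_fix {ρ : X →* End k V} {L : Subgroup X} {U : Submodule k V}
    (hU : ∀ x ∈ L, ∀ u ∈ U, ρ x u ∈ U) {g : X} (hg : g ∈ L)
    (hfix : ∀ u ∈ U, ρ g u = u → u = 0) (v : U) (hv : locRep ρ L U hU ⟨g, hg⟩ v = v) : v = 0 :=
  Subtype.ext (hfix v v.2 (congrArg Subtype.val hv))

theorem le_of_subgroupOf_le {L H K : Subgroup X} (hH : H ≤ L)
    (h : H.subgroupOf L ≤ K.subgroupOf L) : H ≤ K := fun x hx => h (x := ⟨x, hH hx⟩) hx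

theorem subgroupOf_le_normalizer {L H K : Subgroup X} (h : H ≤ normalizer (K : Set X)) :
    H.subgroupOf L ≤ normalizer ((K.subgroupOf L : Subgroup L) : Set L) :=
  (comap_mono h).trans (le_normalizer_comap L.subtype)

theorem mem_normalizer_subgroupOf {L K : Subgroup X} {g : X} (hg : g ∈ L)
    (h : g ∈ normalizer (K : Set X)) :
    (⟨g, hg⟩ : L) ∈ normalizer ((K.subgroupOf L : Subgroup L) : Set L) :=
  le_normalizer_comap L.subtype h

theorem zpowers_subgroupOf {L : Subgroup X} (g : L) : (zpowers (g : X)).subgroupOf L = zpowers g := by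
  rw [show zpowers (g : X) = (zpowers g).map L.subtype from
    (MonoidHom.map_zpowers L.subtype g).symm]
  exact comap_map_eq_self_of_injective L.subtype_injective _

theorem card_subgroupOf {L H : Subgroup X} (hH : H ≤ L) : Nat.card (H.subgroupOf L) = Nat.card H :=
  Nat.card_congr (subgroupOfEquivOfLe hH).toEquiv

variable [IsAlgClosed k] [FiniteDimensional k V] [Finite X]

theorem thompson_fixer {p : ℕ} (hp : p.Prime) (hpk : (p : k) ≠ 0) (ρ : X →* End k V)
    {Q : Subgroup X} (hQ : (Nat.card Q).Coprime p) (hQk : (Nat.card Q : k) ≠ 0) {g : X}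
    (hg : g ∈ normalizer (Q : Set X)) (hg1 : g ^ p = 1) (hC : Q ⊓ centralizer {g} = ⊥)
    {L : Subgroup X} (hQL : Q ≤ L) (hgL : g ∈ L) {U : Submodule k V}
    (hU : ∀ x ∈ L, ∀ u ∈ U, ρ x u ∈ U) (hfix : ∀ u ∈ U, ρ g u = u → u = 0) : Q ≤ fixer ρ U := by
  refine le_of_subgroupOf_le hQL ?_
  rw [← ker_locRep ρ L U hU]
  refine thompson_rep hp hpk _ (by rwa [card_subgroupOf hQL]) (by rwa [card_subgroupOf hQL])
    (mem_normalizer_subgroupOf hgL hg) (Subtype.ext hg1) (eq_bot_iff.mpr fun x hx => ?_)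
    (locRep_fix hU hgL hfix)
  have : (x : X) ∈ Q ⊓ centralizer {g} := mem_inf.mpr ⟨(mem_inf.mp hx).1,
    mem_centralizer_singleton_iff.mpr
      (congrArg Subtype.val (mem_centralizer_singleton_iff.mp (mem_inf.mp hx).2))⟩
  rw [hC] at this
  exact Subtype.ext this

theorem ll_fixer {p s r : ℕ} (hp : p.Prime) (hs : s.Prime) (hr : r.Prime) (hsp : s ≠ p)
    (hrp : r ≠ p) (hrs : r ≠ s) (hpk : (p : k) ≠ 0) (hsk : (s : k) ≠ 0) (ρ : X →* End k V)
    {Q T : Subgroup X} {g : X} (hQ : IsPGroup s Q) (hT : IsPGroup r T)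
    (hgQ : g ∈ normalizer (Q : Set X)) (hgT : g ∈ normalizer (T : Set X))
    (hTQ : T ≤ normalizer (Q : Set X)) (hg1 : g ^ p = 1) (hz : ⁅T, zpowers g⁆ = T)
    {L : Subgroup X} (hQL : Q ≤ L) (hTL : T ≤ L) (hgL : g ∈ L) {U : Submodule k V}
    (hU : ∀ x ∈ L, ∀ u ∈ U, ρ x u ∈ U) (hfix : ∀ u ∈ U, ρ g u = u → u = 0) :
    ⁅Q, T⁆ ≤ fixer ρ U := by
  refine le_of_subgroupOf_le ((H1.commutator_le_of_le_normalizer hTQ).trans hQL) ?_
  rw [← ker_locRep ρ L U hU, H1.subgroupOf_commutator hQL hTL]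
  refine ll_rep (n := 0) hp hs hr hsp hrp hrs hpk hsk (Or.inr rfl) _ L U _ _ _ ⟨g, hgL⟩ rfl
    hQ.comap_subtype hT.comap_subtype (mem_normalizer_subgroupOf hgL hgQ)
    (mem_normalizer_subgroupOf hgL hgT) (subgroupOf_le_normalizer hTQ)
    (Subtype.ext (by simpa using hg1)) ?_ (locRep_fix hU hgL hfix)
  rw [pow_zero, pow_one, ← zpowers_subgroupOf, ← H1.subgroupOf_commutator hTL (zpowers_le.mpr hgL),
    hz]

omit [IsAlgClosed k] in
theorem hh_fixer {p s : ℕ} (hp : p.Prime) (hs : s.Prime) (hsp : s ≠ p) (hpk : (p : k) ≠ 0)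
    (hsk : (s : k) ≠ 0) (ρ : X →* End k V) {Q : Subgroup X} {g : X} (hQ : IsPGroup s Q)
    (hgQ : g ∈ normalizer (Q : Set X)) (hg1 : g ^ p = 1)
    {L : Subgroup X} (hQL : Q ≤ L) (hgL : g ∈ L) {U : Submodule k V}
    (hU : ∀ x ∈ L, ∀ u ∈ U, ρ x u ∈ U) (hfix : ∀ u ∈ U, ρ g u = u → u = 0)
    (hne : ∀ e, 1 ≤ e → p ≠ s ^ e + 1) : ⁅Q, zpowers g⁆ ≤ fixer ρ U := by
  have := Fact.mk hs
  refine H1.commutator_zpowers_le (le_normalizer_fixer hU hgL) fun x hx => ?_
  by_contra hne'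
  have hQ' : IsPGroup s (Q.subgroupOf L) := hQ.comap_subtype
  obtain ⟨q, hq, -, ⟨R, hR, hRq, hR'⟩, n, e, h1, h2, h3, h4⟩ := H1.hall_higman_coprime (m := 0) hp hpk
    (locRep ρ L U hU)
    (H1.coprime_card_of_isPGroup hQ' ((Nat.coprime_primes hp hs).mpr hsp.symm)).symm
    (H1.cast_card_ne_zero_of_isPGroup hs hQ' hsk) (mem_normalizer_subgroupOf hgL hgQ)
    (by rw [← map_pow, show (⟨g, hgL⟩ : L) ^ p ^ (0 + 1) = 1 from Subtype.ext (by simpa using hg1),
      map_one])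
    ⟨⟨x, hQL hx⟩, hx, fun h => hne' (by
      rw [pow_zero, pow_one, ← MonoidHom.mem_ker, ker_locRep] at h
      exact h)⟩ (locRep_fix hU hgL hfix)
  obtain rfl : n = 1 := by omega
  rw [pow_one] at h4
  refine hne e h3 ?_
  by_contra hqs
  have := Fact.mk hq
  have hb : R = ⊥ := by
    rw [← inf_idem R]
    exact IsPGroup.disjoint_of_ne q s (fun h => hqs (h ▸ h4)) R R hRq (hQ'.to_le hR) |>.eq_bot
  refine hR' ?_
  rw [hb]
  infer_instance

end Local

section Arith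

theorem prime_of_mul_eq {a b p q : ℕ} (hp : p.Prime) (hq : q.Prime) (h : a * b = p * q)
    (ha : a ≠ 1) (hb : b ≠ 1) : a.Prime ∧ b.Prime := by
  have key : ∀ a b : ℕ, a * b = p * q → b ≠ 1 → p ∣ a → a.Prime ∧ b.Prime := by
    rintro _ b h hb ⟨c, rfl⟩
    rw [mul_assoc] at h
    have h1 := Nat.eq_of_mul_eq_mul_left hp.pos h
    rcases (Nat.dvd_prime hq).mp (Dvd.intro_left c h1) with h2 | h2
    · exact absurd h2 hb
    · subst h2
      obtain rfl : c = 1 := Nat.eq_of_mul_eq_mul_right hq.pos (h1.trans (one_mul _).symm)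
      exact ⟨by rwa [mul_one], hq⟩
  rcases (Nat.Prime.dvd_mul hp).mp (show p ∣ a * b from h ▸ dvd_mul_right p q) with h1 | h1
  · exact key a b h hb h1
  · exact (key b a (by rwa [mul_comm]) ha h1).symm

variable {X : Type*} [Group X] [Finite X]

theorem eq_of_card_prime {A B : Subgroup X} (hA : (Nat.card A).Prime) (h : B ≤ A) (hB : B ≠ ⊥) :
    B = A := by
  rcases (Nat.dvd_prime hA).mp (card_dvd_of_le h) with h1 | h1
  · exact absurd (card_eq_one.mp h1) hB
  · exact H1.eq_of_le_of_card_le h h1.ge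

omit [Finite X] in
theorem eq_of_relIndex_prime {A B U : Subgroup X} (hA : (B.relIndex A).Prime) (h1 : B ≤ U)
    (h2 : U ≤ A) (hU : U ≠ B) : U = A := by
  have h := relIndex_mul_relIndex B U A h1 h2
  rcases (Nat.dvd_prime hA).mp (Dvd.intro _ h) with h3 | h3
  · exact absurd (le_antisymm (relIndex_eq_one.mp h3) h1) hU
  · rw [h3] at h
    exact le_antisymm h2 (relIndex_eq_one.mp
      (Nat.eq_of_mul_eq_mul_left hA.pos (h.trans (mul_one _).symm)))

end Arith

section Split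

variable {k V : Type*} [Field k] [AddCommGroup V] [Module k V] {X : Type*} [Group X] [Finite X]
  {ρ : X →* End k V} {Z A R N : Subgroup X}

/-- A weight whose stabilizer in `A R` is adapted to the complement `A`. -/
theorem exists_wsp_split (hA : A ≤ normalizer (Z : Set X)) (hR : R ≤ normalizer (Z : Set X))
    (hAR : A ≤ normalizer (R : Set X)) (hRN : R ≤ normalizer (N : Set X))
    (hcop : (Nat.card A).Coprime (Nat.card R)) (hsol : Group.IsSolvable R) {μ₀ : X → k}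
    (h : ¬ N ≤ fixer ρ (wsp ρ Z μ₀)) :
    ∃ μ : X → k, ¬ N ≤ fixer ρ (wsp ρ Z μ) ∧
      ∀ a ∈ A, ∀ x ∈ R, x⁻¹ * a * x ∈ wstab Z μ → a ∈ wstab Z μ := by
  let S := wstab Z μ₀ ⊓ (A ⊔ R)
  have hSR : S ≤ normalizer (R : Set X) := inf_le_right.trans (H1.sup_le_normalizer_of_le hAR)
  obtain ⟨n, hn, h1⟩ := H1.glauberman_exists_fixed (Ω := X ⧸ wstab Z μ₀) (A := A ⊓ (S ⊔ R))
    (inf_le_left.trans hAR) (H1.coprime_of_le hcop inf_le_left le_rfl) (Or.inr hsol)
    ((1 : X) : X ⧸ wstab Z μ₀) fun a ha => by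
      obtain ⟨n, hn, s, hs, rfl⟩ := (H1.mem_sup_iff_of_le_normalizer' hSR).mp (mem_inf.mp ha).2
      refine ⟨n, hn, ?_⟩
      rw [MulAction.Quotient.smul_mk, MulAction.Quotient.smul_mk, QuotientGroup.eq]
      simpa using (mem_inf.mp hs).1
  refine ⟨fun z => μ₀ (n⁻¹ * z * n), fun h' => h fun y hy => ?_, fun a ha x hx h' => ?_⟩
  · have := mem_fixer_conj (hR hn) (h' (H1.conj_mem_of_le_normalizer hRN hn hy))
    rwa [show n⁻¹ * (n * y * n⁻¹) * n = y by group] at this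
  · rw [mem_wstab_conj (hR hn)] at h' ⊢
    have h2 := h1 a (mem_inf.mpr ⟨ha, by
      rw [show a = (x * n) * (n⁻¹ * (x⁻¹ * a * x) * n) * (x * n)⁻¹ by group]
      refine mul_mem (mul_mem (mem_sup_right (mul_mem hx hn)) (mem_sup_left (mem_inf.mpr ⟨h', ?_⟩)))
        (mem_sup_right (inv_mem (mul_mem hx hn)))
      exact mul_mem (mul_mem (mem_sup_right (inv_mem hn)) (mul_mem (mul_mem
        (mem_sup_right (inv_mem hx)) (mem_sup_left ha)) (mem_sup_right hx))) (mem_sup_right hn)⟩)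
    rw [MulAction.Quotient.smul_mk, MulAction.Quotient.smul_mk, eq_comm, QuotientGroup.eq] at h2
    simpa [mul_assoc] using h2

theorem commutator_le_wstab (hA : A ≤ normalizer (Z : Set X)) (hR : R ≤ normalizer (Z : Set X))
    (hAk : (Nat.card A : k) ≠ 0) (hfix : ∀ v, (∀ a ∈ A, ρ a v = v) → v = 0) {μ : X → k}
    (h0 : wsp ρ Z μ ≠ ⊥) (hsplit : ∀ a ∈ A, ∀ x ∈ R, x⁻¹ * a * x ∈ wstab Z μ → a ∈ wstab Z μ)
    (hp : (Nat.card (A ⊓ wstab Z μ : Subgroup X)).Prime) : ⁅R, A ⊓ wstab Z μ⁆ ≤ wstab Z μ := by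
  refine commutator_le.mpr fun x hx a ha => ?_
  obtain ⟨b, hb, hb1⟩ := (bot_or_exists_ne_one _).resolve_left (inf_wstab_ne_bot (ρ := ρ)
    (B := A.map (MulAut.conj x).toMonoidHom) (μ := μ)
    (H1.map_conj_le_iff.mpr fun a ha => mul_mem (mul_mem (hR hx) (hA ha)) (inv_mem (hR hx)))
    (by rwa [H1.card_map_conj]) (fun v hv => rep_eq_zero ρ x⁻¹ (hfix _ fun a ha => by
      apply rep_injective ρ x
      rw [rep_apply_inv, ← rep_mul_apply, ← rep_mul_apply]
      exact hv _ ⟨a, ha, rfl⟩)) h0)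
  obtain ⟨⟨c, hc, rfl⟩, hbS⟩ := mem_inf.mp hb
  have h1 : (wstab Z μ).comap (MulAut.conj x).toMonoidHom ⊓ (A ⊓ wstab Z μ) = A ⊓ wstab Z μ :=
    eq_of_card_prime hp inf_le_right fun h => hb1 (by
      have : c ∈ (wstab Z μ).comap (MulAut.conj x).toMonoidHom ⊓ (A ⊓ wstab Z μ) :=
        mem_inf.mpr ⟨hbS, mem_inf.mpr ⟨hc, hsplit c hc x⁻¹ (inv_mem hx) (by rwa [inv_inv])⟩⟩
      rw [h, mem_bot] at this
      rw [this, map_one])
  rw [commutatorElement_def]
  exact mul_mem (mem_inf.mp (h1.ge ha)).1 (inv_mem (mem_inf.mp ha).2)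

end Split

end Cfsg.Agent.H9
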