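import Cfsg.Agent.H9.KP1

/-!
Fixed point free action of a noncyclic group whose order is a product of two primes.
-/

set_option autoImplicit false

namespace Cfsg.Agent.H9

open Subgroup Module
open scoped commutatorElement IsMulCommutative

universe u v

section Aux

variable {X : Type*} [Group X]

theorem mem_centralizer_of_le_sup {A B : Subgroup X} {b x : X} (h : A ≤ B ⊔ zpowers b)
    (h1 : x ∈ centralizer (B : Set X)) (h2 : x ∈ centralizer {b}) : x ∈ centralizer (A : Set X) := by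
  rw [H1.mem_centralizer_iff_le] at h1 ⊢
  exact h.trans (sup_le h1 (zpowers_le.mpr (mem_centralizer_singleton_iff.mpr
    (mem_centralizer_singleton_iff.mp h2).symm)))

theorem isMulCommutative_center_of (Q : Subgroup X) :
    IsMulCommutative (Q ⊓ centralizer (Q : Set X) : Subgroup X) :=
  le_centralizer_iff_isMulCommutative.mp (inf_le_right.trans (centralizer_le inf_le_left))

theorem le_normalizer_center_of {A Q : Subgroup X} (h : A ≤ normalizer (Q : Set X)) :
    A ≤ normalizer ((Q ⊓ centralizer (Q : Set X) : Subgroup X) : Set X) :=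
  H1.le_normalizer_inf h (H1.le_normalizer_centralizer h)

theorem le_centralizer_center_of (Q : Subgroup X) :
    Q ≤ centralizer ((Q ⊓ centralizer (Q : Set X) : Subgroup X) : Set X) :=
  le_centralizer_iff.mp inf_le_right

theorem commutator_eq_of_inf_centralizer_eq_bot [Finite X] {A G : Subgroup X}
    (hAG : A ≤ normalizer (G : Set X)) (hcop : (Nat.card A).Coprime (Nat.card G))
    (hsol : Group.IsSolvable G) (h : G ⊓ centralizer (A : Set X) = ⊥) : ⁅G, A⁆ = G := by
  have := H1.commutator_sup_centralizer hAG hcop (Or.inr hsol)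
  rwa [h, sup_bot_eq] at this

theorem exists_zpowers_of_card_prime [Finite X] {A : Subgroup X} (h : (Nat.card A).Prime) :
    ∃ g, zpowers g = A ∧ g ^ Nat.card A = 1 := by
  obtain ⟨g, hg, hg1⟩ := (bot_or_exists_ne_one A).resolve_left fun h0 => h.ne_one (by simp [h0])
  exact ⟨g, eq_of_card_prime h (zpowers_le.mpr hg) (by simpa using hg1),
    congrArg Subtype.val (pow_card_eq_one' (G := A) (x := ⟨g, hg⟩))⟩

theorem ne_of_coprime_card [Finite X] {A Q : Subgroup X} {s l : ℕ} (hs : s.Prime)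
    (hQ : IsPGroup s Q) (hQ1 : Q ≠ ⊥) (hcop : (Nat.card A).Coprime (Nat.card Q))
    (hl : l ∣ Nat.card A) : s ≠ l := by
  rintro rfl
  have := Fact.mk hs
  obtain ⟨n, hn⟩ := IsPGroup.iff_card.mp hQ
  have hn0 : n ≠ 0 := by
    rintro rfl
    exact hQ1 (card_eq_one.mp hn)
  exact hs.ne_one (Nat.eq_one_of_dvd_coprimes hcop hl (hn ▸ dvd_pow_self s hn0))

end Aux

section Core

variable {k : Type*} {V : Type v} [Field k] [AddCommGroup V] [Module k V] {X : Type u} [Group X]
  [Finite X] {ρ : X →* End k V}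

/-- The case of a stabilizer that is not normal. -/
theorem kp_nonnormal {A Q R Z : Subgroup X} (hQsol : Group.IsSolvable Q)
    (hRsol : Group.IsSolvable R) (hAQ : A ≤ normalizer (Q : Set X))
    (hAR : A ≤ normalizer (R : Set X)) (hRQ : R ≤ normalizer (Q : Set X))
    (hcQ : (Nat.card A).Coprime (Nat.card Q)) (hcR : (Nat.card A).Coprime (Nat.card R))
    (hcRQ : (Nat.card R).Coprime (Nat.card Q)) (hCQ : Q ⊓ centralizer (A : Set X) = ⊥)
    (hCR : R ⊓ centralizer (A : Set X) = ⊥) (hc2 : ⁅Q, Q⁆ ≤ centralizer (Q : Set X))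
    (hQR : ⁅Q, R⁆ = Q) (hZ : Z = Q ⊓ centralizer (Q : Set X)) {μ : X → k}
    (hT : ⁅Q, ⁅R, A ⊓ wstab Z μ⁆⁆ ≤ fixer ρ (wsp ρ Z μ))
    (hmax : ∀ a ∈ A, a ∉ wstab Z μ →
      A ≤ (A ⊓ wstab Z μ) ⊔ (A ⊓ wstab Z μ).map (MulAut.conj a⁻¹).toMonoidHom) :
    Z ≤ fixer ρ (wsp ρ Z μ) := by
  set A₁ := A ⊓ wstab Z μ
  set T := ⁅R, A₁⁆ with hTdef
  set K := fixer ρ (wsp ρ Z μ)
  have hZQ : Z ≤ Q := hZ.le.trans inf_le_left
  have hZc : IsMulCommutative Z := hZ ▸ isMulCommutative_center_of Q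
  have hAZ : A ≤ normalizer (Z : Set X) := hZ ▸ le_normalizer_center_of hAQ
  have hRZ : R ≤ normalizer (Z : Set X) := hZ ▸ le_normalizer_center_of hRQ
  have hQK : Q ≤ normalizer (K : Set X) :=
    ((hZ ▸ le_centralizer_center_of Q : Q ≤ centralizer (Z : Set X)).trans
      centralizer_le_wstab).trans wstab_le_normalizer_fixer
  have hTR : T ≤ R := H1.commutator_le_of_le_normalizer (inf_le_left.trans hAR)
  have hRT : R ≤ normalizer (T : Set X) := normalizer_commutator_ge_left R A₁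
  have hQT : ⁅Q, T⁆ ≤ Q := H1.commutator_le_of_le_normalizer (hTR.trans hRQ)
  have hQQ : ⁅Q, Q⁆ ≤ Q := H1.commutator_le_of_le_normalizer le_normalizer
  have hRN : R ≤ normalizer ((⁅Q, T⁆ ⊔ ⁅Q, Q⁆ : Subgroup X) : Set X) :=
    H1.le_normalizer_sup (H1.le_normalizer_commutator hRQ hRT) (H1.le_normalizer_commutator hRQ hRQ)
  have key : ∀ a ∈ A, a ∉ wstab Z μ → ∀ y ∈ Q ⊓ centralizer (T : Set X),
      a⁻¹ * y * a ∈ ⁅Q, T⁆ ⊔ ⁅Q, Q⁆ := by
    intro a ha haS y hy
    set A₂ := A₁.map (MulAut.conj a⁻¹).toMonoidHom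
    have hA₂ : A₂ ≤ A := H1.map_conj_le_of_mem inf_le_left (inv_mem ha)
    have hT' : ⁅R, A₂⁆ = T.map (MulAut.conj a⁻¹).toMonoidHom := by
      rw [hTdef, map_commutator, H1.map_conj_eq_self_iff.mpr (hAR (inv_mem ha))]
    have hT'R : ⁅R, A₂⁆ ≤ R := H1.commutator_le_of_le_normalizer (hA₂.trans hAR)
    have h1 : R ≤ T ⊔ ⁅R, A₂⁆ := by
      refine (commutator_eq_of_inf_centralizer_eq_bot hAR hcR hRsol hCR).ge.trans
        ((commutator_mono le_rfl (hmax a ha haS)).trans
          (H1.commutator_sup_le ?_ ?_ le_sup_left le_sup_right))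
      · exact le_normalizer_iff_commutator_le_left.mpr
          ((commutator_mono (sup_le hTR hT'R) le_rfl).trans le_sup_left)
      · exact le_normalizer_iff_commutator_le_left.mpr
          ((commutator_mono (sup_le hTR hT'R) le_rfl).trans le_sup_right)
    have hRM : R ≤ normalizer ((⁅Q, ⁅R, A₂⁆⁆ ⊔ (⁅Q, T⁆ ⊔ ⁅Q, Q⁆) : Subgroup X) : Set X) :=
      H1.le_normalizer_sup (H1.le_normalizer_commutator hRQ (normalizer_commutator_ge_left R A₂)) hRN
    have h2 : a⁻¹ * y * a ∈ centralizer ((⁅R, A₂⁆ : Subgroup X) : Set X) := by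
      rw [hT', H1.centralizer_map_conj]
      exact ⟨y, (mem_inf.mp hy).2, by simp⟩
    refine H1.mem_of_commutator_mem_of_abelian_section (sup_le hQT hQQ) le_sup_right
      (hT'R.trans hRQ) (hT'R.trans hRN) (H1.coprime_of_le hcRQ hT'R le_rfl)
      (hQR.ge.trans ((commutator_mono le_rfl h1).trans (H1.commutator_sup_le (hTR.trans hRM)
        (hT'R.trans hRM) (le_sup_left.trans le_sup_right) le_sup_left))
        (H1.conj_mem_of_le_normalizer' hAQ ha (mem_inf.mp hy).1)) fun t ht => ?_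
    rw [commutatorElement_eq_one_iff_mul_comm.mpr (mem_centralizer_iff.mp h2 t ht).symm]
    exact one_mem _
  have hCZ : Z ⊓ centralizer (A : Set X) = ⊥ :=
    eq_bot_iff.mpr ((inf_le_inf_right _ hZQ).trans hCQ.le)
  have hcZ := H1.coprime_of_le hcQ le_rfl hZQ
  have h1 : ⁅Q, ⁅Q, T⁆⁆ ≤ K :=
    (le_normalizer_iff_commutator_le_right.mp (normalizer_commutator_ge_left Q T)).trans hT
  have h2 : ⁅Q, ⁅Q, T⁆ ⊔ ⁅Q, Q⁆⁆ ≤ K := H1.commutator_sup_le (hQT.trans hQK) (hQQ.trans hQK) h1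
    ((H1.commutator_eq_bot_iff_le_centralizer'.mpr hc2).le.trans bot_le)
  have h3 : ⁅Q, Q⁆ ≤ K := by
    refine (commutator_mono le_rfl (H1.commutator_sup_centralizer (hTR.trans hRQ)
      (H1.coprime_of_le hcRQ hTR le_rfl) (Or.inr hQsol)).ge).trans
      (H1.commutator_sup_le (hQT.trans hQK) (inf_le_left.trans hQK) h1
        (commutator_le.mpr fun w hw y hy => ?_))
    have hz := commutator_mem_commutator hw (mem_inf.mp hy).1
    refine mem_fixer_of_norm hZc hAZ hCZ hcZ (hZ.ge (mem_inf.mpr ⟨hQQ hz, hc2 hz⟩))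
      fun a ha haS => ?_
    rw [show a⁻¹ * ⁅w, y⁆ * a = ⁅a⁻¹ * w * a, a⁻¹ * y * a⁆ by group]
    exact h2 (commutator_mem_commutator (H1.conj_mem_of_le_normalizer' hAQ ha hw) (key a ha haS y hy))
  refine (H1.commutator_sup_centralizer (hTR.trans hRZ) (H1.coprime_of_le hcRQ hTR hZQ)
    (Or.inr (H1.isSolvable_of_le hZQ hQsol))).ge.trans
    (sup_le ((commutator_mono hZQ le_rfl).trans hT) fun y hy => ?_)
  exact mem_fixer_of_norm hZc hAZ hCZ hcZ (mem_inf.mp hy).1 fun a ha haS =>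
    sup_le hT h3 (key a ha haS y (inf_le_inf_right _ hZQ hy))

variable [IsAlgClosed k] [FiniteDimensional k V]

/-- The stabilizer of a weight acts trivially on the weight space through `Q`, abelian case. -/
theorem kp_abelian {A Q Z : Subgroup X} (hA : IsMulCommutative A) (hnc : ¬ IsCyclic A)
    (hAQ : A ≤ normalizer (Q : Set X)) (hAZ : A ≤ normalizer (Z : Set X))
    (hQZ : Q ≤ centralizer (Z : Set X))
    (hcQ : (Nat.card A).Coprime (Nat.card Q)) (hQk : (Nat.card Q : k) ≠ 0)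
    (hAk : (Nat.card A : k) ≠ 0) (hCQ : Q ⊓ centralizer (A : Set X) = ⊥)
    (hfix : ∀ v, (∀ a ∈ A, ρ a v = v) → v = 0) {μ : X → k}
    (h1 : (Nat.card (A ⊓ wstab Z μ : Subgroup X)).Prime)
    (h2 : ((A ⊓ wstab Z μ).relIndex A).Prime) :
    ⁅Q, A ⊓ wstab Z μ⁆ ≤ fixer ρ (wsp ρ Z μ) := by
  obtain ⟨g, hg, hg1⟩ := exists_zpowers_of_card_prime h1
  have hgA : g ∈ A := (mem_inf.mp (hg.le (mem_zpowers g))).1
  have hQK : Q ≤ normalizer (fixer ρ (wsp ρ Z μ) : Set X) :=
    (hQZ.trans centralizer_le_wstab).trans wstab_le_normalizer_fixer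
  have hpA : Nat.card (A ⊓ wstab Z μ : Subgroup X) ∣ Nat.card A := card_dvd_of_le inf_le_left
  rw [commutator_comm]
  refine (H1.le_commStab_iff.mp (H1.le_of_forall_centralizer_le hA hnc hAQ hcQ
    fun a ha ha1 => H1.le_commStab_iff.mpr ⟨inf_le_left.trans hQK, ?_⟩)).2
  by_cases haS : a ∈ wstab Z μ
  · rw [← eq_of_card_prime h1 (zpowers_le.mpr (mem_inf.mpr ⟨ha, haS⟩)) (by simpa using ha1),
      H1.commutator_eq_bot_iff_le_centralizer'.mpr
        (inf_le_right.trans (H1.centralizer_zpowers' a).ge)]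
    exact bot_le
  have hsup : A ⊓ wstab Z μ ⊔ zpowers a = A := eq_of_relIndex_prime h2 le_sup_left
    (sup_le inf_le_left (zpowers_le.mpr ha)) fun h =>
      haS (mem_inf.mp (h.le (mem_sup_right (mem_zpowers a)))).2
  have hinf : zpowers a ⊓ wstab Z μ = ⊥ := by
    by_contra h
    have := eq_of_card_prime h1 (inf_le_inf_right (wstab Z μ) (zpowers_le.mpr ha)) h
    exact hnc (H1.isCyclic_of_eq_zpowers (a := a)
      (by rw [← hsup, ← this, sup_eq_right.mpr inf_le_left]))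
  have hAa : A ≤ centralizer {a} := fun b hb => mem_centralizer_singleton_iff.mpr
    (mem_centralizer_iff.mp (A.le_centralizer ha) b hb)
  have hgC : A ≤ normalizer ((Q ⊓ centralizer {a} : Subgroup X) : Set X) :=
    H1.le_normalizer_inf_centralizer_singleton_of_comm hA ha hAQ
  refine (le_normalizer_iff_commutator_le_right.mp (inf_le_left.trans hgC)).trans fun y hy => ?_
  have h3 := thompson_fixer h1 (fun h => hAk (by
      obtain ⟨c, hc⟩ := hpA
      rw [hc, Nat.cast_mul, h, zero_mul])) ρ (Q := Q ⊓ centralizer {a})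
    ((hcQ.coprime_dvd_left hpA).coprime_dvd_right (card_dvd_of_le inf_le_left)).symm
    (fun h => hQk (by
      obtain ⟨c, hc⟩ := card_dvd_of_le (inf_le_left : Q ⊓ centralizer {a} ≤ Q)
      rw [hc, Nat.cast_mul, h, zero_mul])) (hgC hgA) hg1
    (eq_bot_iff.mpr fun x hx => hCQ.le (mem_inf.mpr ⟨(mem_inf.mp (mem_inf.mp hx).1).1,
      mem_centralizer_of_le_sup hsup.ge (by rw [← hg, H1.centralizer_zpowers']; exact (mem_inf.mp hx).2)
        (mem_inf.mp (mem_inf.mp hx).1).2⟩))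
    (L := centralizer {a}) inf_le_right (hAa hgA) (U := LinearMap.ker (ρ a - 1))
    (fun x hx u hu => by
      rw [LinearMap.mem_ker, LinearMap.sub_apply, End.one_apply, sub_eq_zero] at hu ⊢
      rw [← rep_mul_apply, ← mem_centralizer_singleton_iff.mp hx, rep_mul_apply, hu])
    (fun u hu hgu => by
      rw [LinearMap.mem_ker, LinearMap.sub_apply, End.one_apply, sub_eq_zero] at hu
      have : A ≤ fixer ρ (Submodule.span k {u}) := by
        have key : ∀ x, ρ x u = u → zpowers x ≤ fixer ρ (Submodule.span k {u}) := fun x hx =>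
          zpowers_le.mpr fun v hv => by
            obtain ⟨c, rfl⟩ := Submodule.mem_span_singleton.mp hv
            rw [map_smul, hx]
        rw [← hsup, ← hg]
        exact sup_le (key g hgu) (key a hu)
      exact hfix u fun b hb => this hb u (Submodule.mem_span_singleton_self u))
  refine mem_fixer_of_fix (zpowers_le.mpr (hAZ ha)) hinf
    (centralizer_le_wstab (hQZ (mem_inf.mp hy).1))
    (by rw [H1.centralizer_zpowers']; exact (mem_inf.mp hy).2) fun v hv => h3 hy v ?_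
  rw [LinearMap.mem_ker, LinearMap.sub_apply, End.one_apply, sub_eq_zero]
  exact hv a (mem_zpowers a)

omit [IsAlgClosed k] [FiniteDimensional k V] in
theorem dvd_sub_one_of_not_comm {A : Subgroup X} {g b : X} (hA : ¬ IsMulCommutative A)
    (hg : (Nat.card (zpowers g)).Prime) (hb : b ∈ normalizer (zpowers g : Set X)) {l : ℕ}
    (hl : l.Prime) (hb1 : b ^ l = 1) (hsup : A = zpowers g ⊔ zpowers b) :
    l ∣ Nat.card (zpowers g) - 1 := by
  have h := pow_dvd_index_sub_one (α := H1.conjAutOf hb) (m := 0) hl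
    (by rw [zero_add, pow_one]; exact H1.conjAutOf_pow_eq_one hb (by rw [hb1]; exact one_mem _)) ⊥
    (by simp) (fun x hx => by
      by_contra hx1
      rw [pow_zero, pow_one, mem_bot, mul_inv_eq_one] at hx
      have h1 : b * x * b⁻¹ = x := congrArg Subtype.val hx
      have h2 : zpowers g ⊓ centralizer {b} = zpowers g :=
        eq_of_card_prime hg inf_le_left fun h => hx1 (by
          have : (x : X) ∈ zpowers g ⊓ centralizer {b} := mem_inf.mpr ⟨x.2,
            mem_centralizer_singleton_iff.mpr (mul_inv_eq_iff_eq_mul.mp h1).symm⟩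
          rw [h, mem_bot] at this
          exact Subtype.ext this)
      have h3 := (mem_inf.mp (h2.ge (mem_zpowers g))).2
      refine hA (le_centralizer_iff_isMulCommutative.mp ?_)
      conv_lhs => rw [hsup]
      refine sup_le (zpowers_le.mpr (mem_centralizer_of_le_sup hsup.le ?_ h3))
        (zpowers_le.mpr (mem_centralizer_of_le_sup hsup.le ?_ ?_))
      · rw [H1.centralizer_zpowers']; exact mem_centralizer_singleton_iff.mpr rfl
      · rw [H1.centralizer_zpowers']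
        exact mem_centralizer_singleton_iff.mpr (mem_centralizer_singleton_iff.mp h3).symm
      · exact mem_centralizer_singleton_iff.mpr rfl)
  rwa [zero_add, pow_one, index_bot] at h

omit [IsAlgClosed k] [FiniteDimensional k V] [Finite X] in
theorem prime_of_lt {A : Subgroup X} {p q : ℕ} (hp : p.Prime) (hq : q.Prime)
    (hA : Nat.card A = p * q) {U : Subgroup X} (hU : U < A) (hU1 : U ≠ ⊥) :
    (Nat.card U).Prime ∧ (U.relIndex A).Prime :=
  prime_of_mul_eq hp hq ((H1.card_mul_relIndex hU.le).trans hA) (by rwa [Ne, card_eq_one])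
    (by rw [Ne, relIndex_eq_one]; exact hU.not_ge)

omit [IsAlgClosed k] [FiniteDimensional k V] [Finite X] in
theorem exists_compl_gen {A : Subgroup X} {p q : ℕ} (hp : p.Prime) (hq : q.Prime)
    (hA : Nat.card A = p * q) (hnc : ¬ IsCyclic A) {U : Subgroup X} (hU : U < A) (hU1 : U ≠ ⊥) :
    ∃ b ∈ A, ∃ l : ℕ, l.Prime ∧ l ∣ Nat.card A ∧ b ^ l = 1 ∧ A = U ⊔ zpowers b := by
  obtain ⟨b, hb, hbU⟩ := SetLike.exists_of_lt hU
  have h1 : zpowers b < A := lt_of_le_of_ne (zpowers_le.mpr hb)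
    fun h => hnc (H1.isCyclic_of_eq_zpowers h)
  refine ⟨b, hb, _, (prime_of_lt hp hq hA h1 fun h => hbU ?_).1, card_dvd_of_le h1.le, ?_,
    (eq_of_relIndex_prime (prime_of_lt hp hq hA hU hU1).2 le_sup_left (sup_le hU.le h1.le)
      fun h => hbU (h.le (mem_sup_right (mem_zpowers b)))).symm⟩
  · rw [zpowers_eq_bot.mp h]; exact one_mem _
  · rw [Nat.card_zpowers, pow_orderOf_eq_one]

theorem kp_faithful (hρ : ∀ x, ρ x = 1 → x = 1) {A Q R : Subgroup X} {p q s r : ℕ}
    (hp : p.Prime) (hq : q.Prime) (hA : Nat.card A = p * q) (hnc : ¬ IsCyclic A) (hs : s.Prime)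
    (hr : r.Prime) (hrs : r ≠ s) (hsk : (s : k) ≠ 0) (hAk : (Nat.card A : k) ≠ 0)
    (hQ : IsPGroup s Q) (hR : IsPGroup r R) (hAQ : A ≤ normalizer (Q : Set X))
    (hAR : A ≤ normalizer (R : Set X)) (hRQ : R ≤ normalizer (Q : Set X))
    (hcQ : (Nat.card A).Coprime (Nat.card Q)) (hcR : (Nat.card A).Coprime (Nat.card R))
    (hCQ : Q ⊓ centralizer (A : Set X) = ⊥) (hCR : R ⊓ centralizer (A : Set X) = ⊥)
    (hfix : ∀ v, (∀ a ∈ A, ρ a v = v) → v = 0) : ⁅Q, R⁆ = ⊥ := by
  have := Fact.mk hs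
  have := Fact.mk hr
  by_contra hne
  obtain ⟨P, hPQ, hB, hnt, hmin⟩ := H1.exists_minimal_nontrivial (B := A ⊔ R) (sup_le hAQ hRQ) hne
  replace hQ := hQ.to_le hPQ
  replace hcQ := H1.coprime_of_le hcQ le_rfl hPQ
  replace hCQ : P ⊓ centralizer (A : Set X) = ⊥ :=
    eq_bot_iff.mpr ((inf_le_inf_right _ hPQ).trans hCQ.le)
  replace hAQ := le_sup_left.trans hB
  replace hRQ := le_sup_right.trans hB
  clear hne hPQ Q
  have hBR : A ⊔ R ≤ normalizer (R : Set X) := H1.sup_le_normalizer_of_le hAR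
  have hRs : (Nat.card R).Coprime s :=
    (H1.coprime_card_of_isPGroup hR ((Nat.coprime_primes hs hr).mpr hrs.symm)).symm
  have hcRQ := H1.coprime_card_of_isPGroup hQ hRs
  have h1 := H1.minimal_commutator_eq hQ hB le_sup_right hBR hRs hnt hmin
  have h2 := H1.minimal_class_two hQ hB le_sup_right hBR hRs hnt hmin
  have hP1 : P ≠ ⊥ := fun h => hnt (by rw [h, commutator_bot_left])
  have hR1 : R ≠ ⊥ := fun h => hnt (by rw [h, commutator_bot_right])
  have hPsol := H1.isSolvable_of_isPGroup hQ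
  have hRsol := H1.isSolvable_of_isPGroup hR
  have hPk := H1.cast_card_ne_zero_of_isPGroup hs hQ hsk
  obtain ⟨Z, hZ⟩ : ∃ Z, Z = P ⊓ centralizer (P : Set X) := ⟨_, rfl⟩
  have hZP : Z ≤ P := hZ.le.trans inf_le_left
  have hZc : IsMulCommutative Z := hZ ▸ isMulCommutative_center_of P
  have hAZ : A ≤ normalizer (Z : Set X) := hZ ▸ le_normalizer_center_of hAQ
  have hRZ : R ≤ normalizer (Z : Set X) := hZ ▸ le_normalizer_center_of hRQ
  have hPZ : P ≤ centralizer (Z : Set X) := hZ ▸ le_centralizer_center_of P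
  have hZ1 : Z ≠ ⊥ := fun h => by
    have h3 : ⁅P, P⁆ = ⊥ := eq_bot_iff.mpr (le_trans (le_inf
      (H1.commutator_le_of_le_normalizer le_normalizer) h2) (hZ.ge.trans h.le))
    exact hP1 (eq_bot_iff.mpr (le_trans (le_inf le_rfl
      (commutator_eq_bot_iff_le_centralizer.mp h3)) (hZ.ge.trans h.le)))
  obtain ⟨μ₀, hμ₀⟩ := exists_wsp (ρ := ρ) hZc le_rfl
    (H1.cast_card_ne_zero_of_isPGroup hs (hQ.to_le hZP) hsk)
    (by rwa [ker_eq_bot_of_faithful hρ, le_bot_iff])
  obtain ⟨μ, hμ, hsplit⟩ := exists_wsp_split hAZ hRZ hAR hRZ hcR hRsol hμ₀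
  have hW := wsp_ne_bot_of_not_le hμ
  have hlt : A ⊓ wstab Z μ < A := lt_of_le_of_ne inf_le_left fun h => hμ (by
    refine le_trans ?_ ((commutator_mono le_rfl (h.ge.trans inf_le_right)).trans
      (commutator_le_fixer hZc))
    exact (commutator_eq_of_inf_centralizer_eq_bot hAZ (H1.coprime_of_le hcQ le_rfl hZP)
      (H1.isSolvable_of_le hZP hPsol)
      (eq_bot_iff.mpr ((inf_le_inf_right _ hZP).trans hCQ.le))).ge)
  have hA1 := inf_wstab_ne_bot hAZ hAk hfix hW
  obtain ⟨hl, hl'⟩ := prime_of_lt hp hq hA hlt hA1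
  have hTS := commutator_le_wstab hAZ hRZ hAk hfix hW hsplit hl
  obtain ⟨g, hg, hg1⟩ := exists_zpowers_of_card_prime hl
  have hgA : g ∈ A := (mem_inf.mp (hg.le (mem_zpowers g))).1
  have hgS : g ∈ wstab Z μ := (mem_inf.mp (hg.le (mem_zpowers g))).2
  have hlA : Nat.card (A ⊓ wstab Z μ : Subgroup X) ∣ Nat.card A := card_dvd_of_le inf_le_left
  have hlk : (Nat.card (A ⊓ wstab Z μ : Subgroup X) : k) ≠ 0 := fun h => hAk (by
    obtain ⟨c, hc⟩ := hlA
    rw [hc, Nat.cast_mul, h, zero_mul])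
  have hsl := ne_of_coprime_card hs hQ hP1 hcQ hlA
  have hTR : ⁅R, A ⊓ wstab Z μ⁆ ≤ R := H1.commutator_le_of_le_normalizer (inf_le_left.trans hAR)
  have hfix' : ∀ u ∈ wsp ρ Z μ, ρ g u = u → u = 0 := fun u hu h =>
    eq_zero_of_fix_inf_wstab hAZ hAk hfix hu fun b hb => fix_of_mem_zpowers h (hg.ge hb)
  have hPS : P ≤ wstab Z μ := hPZ.trans centralizer_le_wstab
  have hT : ⁅P, ⁅R, A ⊓ wstab Z μ⁆⁆ ≤ fixer ρ (wsp ρ Z μ) :=
    ll_fixer hl hs hr hsl (ne_of_coprime_card hr hR hR1 hcR hlA) hrs hlk hsk ρ hQ (hR.to_le hTR)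
      (hAQ hgA) (normalizer_commutator_ge_right R _ (hg.le (mem_zpowers g))) (hTR.trans hRQ) hg1
      (by rw [hg]; exact H1.commutator_commutator_eq (inf_le_left.trans hAR)
            (H1.coprime_of_le hcR inf_le_left le_rfl)) hPS hTS hgS
      (fun x hx u hu => apply_mem_wsp hx hu) hfix'
  by_cases hn : A ≤ normalizer ((A ⊓ wstab Z μ : Subgroup X) : Set X)
  swap
  · refine hμ (kp_nonnormal hPsol hRsol hAQ hAR hRQ hcQ hcR hcRQ hCQ hCR h2 h1 hZ hT
      fun a ha haS => (eq_of_relIndex_prime hl' le_sup_left (sup_le inf_le_left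
        (H1.map_conj_le_of_mem inf_le_left (inv_mem ha))) fun h => hn ?_).ge)
    have h3 : a⁻¹ ∈ normalizer ((A ⊓ wstab Z μ : Subgroup X) : Set X) :=
      H1.map_conj_eq_self_iff.mp (H1.eq_of_le_of_card_le (le_sup_right.trans h.le)
        (H1.card_map_conj _ _).ge)
    refine (eq_of_relIndex_prime hl' (le_inf inf_le_left le_normalizer) inf_le_left
      fun h4 => haS ?_).ge.trans inf_le_right
    exact (mem_inf.mp (h4.le (mem_inf.mpr ⟨ha, by simpa using inv_mem h3⟩))).2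
  obtain ⟨b, hb, l, hlp, hlA', hb1, hsup⟩ := exists_compl_gen hp hq hA hnc hlt hA1
  have h3 : ⁅P, A ⊓ wstab Z μ⁆ ≤ fixer ρ (wsp ρ Z μ) := by
    by_cases hAc : IsMulCommutative A
    · exact kp_abelian hAc hnc hAQ hAZ hPZ hcQ hPk hAk hCQ hfix hl hl'
    rw [← hg]
    refine hh_fixer hl hs hsl hlk hsk ρ hQ (hAQ hgA) hg1 hPS hgS
      (fun x hx u hu => apply_mem_wsp hx hu) hfix' fun e he h => ?_
    have h4 := dvd_sub_one_of_not_comm (g := g) hAc (by rwa [hg]) (by rw [hg]; exact hn hb) hlp hb1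
      (by rwa [hg])
    rw [hg, h, Nat.add_sub_cancel] at h4
    exact ne_of_coprime_card hs hQ hP1 hcQ hlA'
      ((Nat.prime_dvd_prime_iff_eq hlp hs).mp (hlp.dvd_of_dvd_pow h4)).symm
  set A₁ := A ⊓ wstab Z μ
  have hAT : A ≤ normalizer ((⁅R, A₁⁆ : Subgroup X) : Set X) := H1.le_normalizer_commutator hAR hn
  have hRT : R ≤ normalizer ((⁅R, A₁⁆ : Subgroup X) : Set X) := normalizer_commutator_ge_left R A₁
  have h4 : ⁅P, ⁅R, A₁⁆ ⊔ A₁⁆ ≤ ⁅P, P⁆ := by
    refine H1.minimal_le_commutator hQ hB le_sup_right hBR hRs hnt hmin (lt_of_le_of_ne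
      (H1.commutator_le_of_le_normalizer (sup_le (hTR.trans hRQ) (inf_le_left.trans hAQ)))
      fun h => hμ (hZP.trans (h.ge.trans (H1.commutator_sup_le
        (hTS.trans wstab_le_normalizer_fixer) (inf_le_right.trans wstab_le_normalizer_fixer)
        hT h3)))) (H1.le_normalizer_commutator hB (sup_le (H1.le_normalizer_sup hAT hn) ?_))
    exact le_normalizer_iff_commutator_le_right.mpr (H1.commutator_sup_le
      (le_sup_left.trans le_normalizer) (le_sup_right.trans le_normalizer)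
      ((le_normalizer_iff_commutator_le_right.mp hRT).trans le_sup_left) le_sup_left)
  have h5 : ⁅R, A₁⁆ ≤ centralizer (P : Set X) :=
    H1.le_centralizer_of_commutator_le_commutator hQ.isNilpotent (hTR.trans hRQ)
      (H1.coprime_of_le hcRQ hTR le_rfl) ((commutator_mono le_rfl le_sup_left).trans h4)
  have h6 : A₁ ≤ centralizer (P : Set X) :=
    H1.le_centralizer_of_commutator_le_commutator hQ.isNilpotent (inf_le_left.trans hAQ)
      (H1.coprime_of_le hcQ inf_le_left le_rfl) ((commutator_mono le_rfl le_sup_right).trans h4)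
  refine hnt (H1.commutator_eq_bot_iff_le_centralizer'.mpr
    ((H1.commutator_sup_centralizer (inf_le_left.trans hAR)
      (H1.coprime_of_le hcR inf_le_left le_rfl) (Or.inr hRsol)).ge.trans (sup_le h5 ?_)))
  refine le_centralizer_of_fpf hlp hb1 (hAQ hb)
    (H1.le_normalizer_inf hAR (H1.le_normalizer_centralizer hn) hb) (inf_le_left.trans hRQ)
    (H1.coprime_of_le hcRQ inf_le_left le_rfl) (eq_bot_iff.mpr fun x hx => hCQ.le ?_)
    (eq_bot_iff.mpr fun x hx => hCR.le ?_)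
  · exact mem_inf.mpr ⟨(mem_inf.mp hx).1, mem_centralizer_of_le_sup hsup.le
      (le_centralizer_iff.mp h6 (mem_inf.mp hx).1) (mem_inf.mp hx).2⟩
  · exact mem_inf.mpr ⟨(mem_inf.mp (mem_inf.mp hx).1).1, mem_centralizer_of_le_sup hsup.le
      (mem_inf.mp (mem_inf.mp hx).1).2 (mem_inf.mp hx).2⟩

theorem kp_rep (ρ : X →* End k V) {A Q R : Subgroup X} {p q s r : ℕ}
    (hp : p.Prime) (hq : q.Prime) (hA : Nat.card A = p * q) (hnc : ¬ IsCyclic A) (hs : s.Prime)
    (hr : r.Prime) (hrs : r ≠ s) (hsk : (s : k) ≠ 0) (hAk : (Nat.card A : k) ≠ 0)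
    (hQ : IsPGroup s Q) (hR : IsPGroup r R) (hAQ : A ≤ normalizer (Q : Set X))
    (hAR : A ≤ normalizer (R : Set X)) (hRQ : R ≤ normalizer (Q : Set X))
    (hcQ : (Nat.card A).Coprime (Nat.card Q)) (hcR : (Nat.card A).Coprime (Nat.card R))
    (hCQ : Q ⊓ centralizer (A : Set X) = ⊥) (hCR : R ⊓ centralizer (A : Set X) = ⊥)
    (hfix : ∀ v, (∀ a ∈ A, ρ a v = v) → v = 0) : ⁅Q, R⁆ ≤ ρ.ker := by
  have := Fact.mk hs
  have := Fact.mk hr
  let f := QuotientGroup.mk' ρ.ker
  by_cases h0 : A ≤ ρ.ker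
  · refine fun x _ => LinearMap.ext fun v => ?_
    rw [hfix v fun a ha => by rw [h0 ha]; rfl, map_zero, map_zero]
  rw [← QuotientGroup.ker_mk' ρ.ker, ← Subgroup.map_eq_bot_iff, map_commutator]
  have hCQ' : Q.map f ⊓ centralizer ((A.map f : Subgroup _) : Set (X ⧸ ρ.ker)) = ⊥ := by
    rw [H1.map_inf_centralizer_map f hAQ hcQ (Or.inr (H1.isSolvable_of_isPGroup hQ)), hCQ,
      Subgroup.map_bot]
  have hCR' : R.map f ⊓ centralizer ((A.map f : Subgroup _) : Set (X ⧸ ρ.ker)) = ⊥ := by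
    rw [H1.map_inf_centralizer_map f hAR hcR (Or.inr (H1.isSolvable_of_isPGroup hR)), hCR,
      Subgroup.map_bot]
  have hAQ' := (map_mono (f := f) hAQ).trans (le_normalizer_map f)
  have hAR' := (map_mono (f := f) hAR).trans (le_normalizer_map f)
  have hRQ' := (map_mono (f := f) hRQ).trans (le_normalizer_map f)
  by_cases h1 : A ⊓ ρ.ker = ⊥
  · have hinj : Function.Injective (f.domRestrict A) := by
      rw [← MonoidHom.ker_eq_bot_iff, MonoidHom.ker_domRestrict, QuotientGroup.ker_mk',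
        subgroupOf_eq_bot, disjoint_iff, inf_comm, h1]
    have e : A ≃* A.map f := (MonoidHom.ofInjective hinj).trans
      (MulEquiv.subgroupCongr (MonoidHom.domRestrict_range A f))
    have hc : Nat.card (A.map f) = Nat.card A := (Nat.card_congr e.toEquiv).symm
    exact kp_faithful (H1.kerRep_eq_one ρ) hp hq (hc.trans hA)
      (fun h => hnc (isCyclic_of_surjective e.symm e.symm.surjective)) hs hr hrs hsk (by rwa [hc])
      (hQ.map f) (hR.map f) hAQ' hAR' hRQ'
      (by rw [hc]; exact hcQ.coprime_dvd_right (card_map_dvd Q f))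
      (by rw [hc]; exact hcR.coprime_dvd_right (card_map_dvd R f)) hCQ' hCR'
      fun v hv => hfix v fun a ha => hv _ ⟨a, ha, rfl⟩
  obtain ⟨b, hb, l, hlp, -, hb1, hsup⟩ := exists_compl_gen hp hq hA hnc
    (lt_of_le_of_ne inf_le_left fun h => h0 (h.ge.trans inf_le_right)) h1
  have h2 : A.map f = zpowers (f b) := by
    rw [hsup, Subgroup.map_sup, MonoidHom.map_zpowers, (Subgroup.map_eq_bot_iff _).mpr
      (inf_le_right.trans (QuotientGroup.ker_mk' ρ.ker).ge), bot_sup_eq]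
  rw [h2, H1.centralizer_zpowers'] at hCQ' hCR'
  exact H1.commutator_eq_bot_iff_le_centralizer'.mpr (le_centralizer_of_fpf hlp
    (by rw [← map_pow, hb1, map_one]) (hAQ' ⟨b, hb, rfl⟩) (hAR' ⟨b, hb, rfl⟩) hRQ'
    (H1.coprime_card_of_isPGroup (hQ.map f) (H1.coprime_card_of_isPGroup (hR.map f)
      ((Nat.coprime_primes hs hr).mpr hrs.symm)).symm) hCQ' hCR')

end Core

section Group

variable {X : Type u} [Group X] [Finite X] {G : Subgroup X} [G.Normal]

theorem kp_le_centralizer {A : Subgroup X} {p q : ℕ} (hp : p.Prime) (hq : q.Prime)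
    (hA : Nat.card A = p * q) (hnc : ¬ IsCyclic A) (hcop : (Nat.card A).Coprime (Nat.card G))
    (hC : G ⊓ centralizer (A : Set X) = ⊥) (r s t : ℕ) (hr : r.Prime) (hs : s.Prime) (ht : t.Prime)
    (hrs : r ≠ s) (hst : s ≠ t) (Q R : Subgroup X) (hQG : Q ≤ G) (hRG : R ≤ G) (hQ : IsPGroup s Q)
    (hR : IsPGroup r R) (hAQ : A ≤ normalizer (Q : Set X)) (hAR : A ≤ normalizer (R : Set X))
    (hRQ : R ≤ normalizer (Q : Set X)) :
    ⁅Q, ⁅R, A⁆⁆ ≤ centralizer ((pCore t X ⊓ G : Subgroup X) : Set X) := by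
  have := Fact.mk hs
  refine (commutator_mono le_rfl (H1.commutator_le_of_le_normalizer hAR)).trans
    (le_centralizer_pCore_of_rep hcop hC ht
      ((H1.coprime_card_of_isPGroup hQ ((Nat.coprime_primes ht hs).mpr hst.symm)).symm.coprime_dvd_left
        (card_dvd_of_le (H1.commutator_le_of_le_normalizer hRQ)))
      fun k V _ _ _ _ _ _ ρ hAt hfix => ?_)
  exact kp_rep ρ hp hq hA hnc hs hr hrs (H1.cast_ne_zero_of_prime_ne ht hs hst)
    (H1.cast_ne_zero_of_coprime ht hAt) hQ hR hAQ hAR hRQ (H1.coprime_of_le hcop le_rfl hQG)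
    (H1.coprime_of_le hcop le_rfl hRG) (eq_bot_iff.mpr ((inf_le_inf_right _ hQG).trans hC.le))
    (eq_bot_iff.mpr ((inf_le_inf_right _ hRG).trans hC.le)) hfix

theorem kp_le_fitTerm_two (hG : Group.IsSolvable G) {A : Subgroup X} {p q : ℕ} (hp : p.Prime)
    (hq : q.Prime) (hA : Nat.card A = p * q) (hnc : ¬ IsCyclic A)
    (hcop : (Nat.card A).Coprime (Nat.card G)) (hC : G ⊓ centralizer (A : Set X) = ⊥) :
    G ≤ L.fitTerm X 2 :=
  (commutator_eq_of_inf_centralizer_eq_bot (le_normalizer_of_normal A G) hcop hG hC).ge.trans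
    (commutator_le_fitTerm_two hG le_rfl hcop (kp_le_centralizer hp hq hA hnc hcop hC))

end Group

theorem fitLE_two_of_fpf {G : Type u} {A : Type v} [Group G] [Finite G] [Group A] [Finite A]
    (hG : Group.IsSolvable G) (φ : A →* MulAut G) {p q : ℕ} (hp : p.Prime) (hq : q.Prime)
    (hA : Nat.card A = p * q) (hnc : ¬ IsCyclic A) (hcop : (Nat.card A).Coprime (Nat.card G))
    (hfpf : ∀ g, (∀ a, φ a g = g) → g = 1) : L.FitLE 2 G := by
  have h := kp_le_fitTerm_two (G := H1.sdL φ ⊤) (A := H1.sdR φ ⊤) (H1.isSolvable_sdL_top hG) hp hq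
    (H1.card_sdR_top.trans hA) (fun h => hnc (isCyclic_of_surjective
      ((topEquiv.symm.trans (equivMapOfInjective ⊤ _
        (SemidirectProduct.inr_injective (φ := φ)))).symm)
      (MulEquiv.surjective _))) (H1.coprime_sd hcop)
    (by
      rw [H1.sdL_top_inf_centralizer, H1.sdL_eq_bot]
      exact eq_bot_iff.mpr fun g hg => hfpf g (H1.mem_fixedSub_top.mp hg))
  rw [L.fitLE_iff_fitTerm, eq_top_iff]
  exact le_trans (fun g _ => h ⟨g, trivial, rfl⟩)
    (L.comap_fitTerm_le 2 SemidirectProduct.inl_injective)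

end Cfsg.Agent.H9
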