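import Cfsg.Agent.H9.LLAux

/-!
Towers of height three under a cyclic group of operators without fixed vectors.
-/

set_option autoImplicit false

namespace Cfsg.Agent.H9

open Subgroup Module
open scoped commutatorElement IsMulCommutative

universe u v

section Local

variable {k V : Type*} [Field k] [IsAlgClosed k] [AddCommGroup V] [Module k V]
  [FiniteDimensional k V] {X : Type*} [Group X] [Finite X]

omit [IsAlgClosed k] [FiniteDimensional k V] [Finite X] in
theorem eq_one_of_scalar_of_fix {ρ : X →* End k V} (hρ : ∀ x, ρ x = 1 → x = 1) {z : X}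
    (hz : ∃ c : k, ρ z = c • 1) {v : V} (hv : v ≠ 0) (h : ρ z v = v) : z = 1 := by
  obtain ⟨c, hc⟩ := hz
  rw [hc, LinearMap.smul_apply, End.one_apply] at h
  have : c = 1 := smul_left_injective k hv (h.trans (one_smul k v).symm)
  exact hρ z (by rw [hc, this, one_smul])

omit [IsAlgClosed k] [FiniteDimensional k V] [Finite X] in
theorem mem_center_of_scalar {ρ : X →* End k V} (hρ : ∀ x, ρ x = 1 → x = 1) {z : X}
    (hz : ∃ c : k, ρ z = c • 1) : z ∈ center X := by
  obtain ⟨c, hc⟩ := hz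
  refine mem_center_iff.mpr fun x => ?_
  rw [← mul_inv_eq_one]
  refine hρ _ ?_
  rw [map_mul, show ρ (x * z) = ρ (z * x) by rw [map_mul, map_mul, hc]; simp, H1.rep_mul_inv]

omit [IsAlgClosed k] in
/-- An invariant abelian subgroup is centralized. -/
theorem mem_centralizer_of_nofix {ρ : X →* End k V} (hρ : ∀ x, ρ x = 1 → x = 1) {p : ℕ}
    (hp : p.Prime) (hpk : (p : k) ≠ 0) {Z : Subgroup X} (hZ : IsMulCommutative Z)
    (hZp : (Nat.card Z).Coprime p) (hZk : (Nat.card Z : k) ≠ 0) {g : X}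
    (hg : g ∈ normalizer (Z : Set X)) {n : ℕ} (hg1 : g ^ p ^ (n + 1) = 1)
    (hfix : ∀ v, ρ g v = v → v = 0) : g ^ p ^ n ∈ centralizer (Z : Set X) := by
  refine mem_centralizer_iff.mpr fun z hz => ?_
  by_contra hne
  obtain ⟨q, -, -, ⟨R, hR, -, hR'⟩, -⟩ := H1.hall_higman_coprime hp hpk ρ hZp hZk hg
    (by rw [← map_pow, hg1, map_one])
    ⟨z, hz, fun h => hne (commutatorElement_eq_one_iff_mul_comm.mp (hρ _ h))⟩ hfix
  exact hR' ⟨⟨fun a b => Subtype.ext (mem_centralizer_iff.mp (Z.le_centralizer (hR b.2)) a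
    (hR a.2))⟩⟩

theorem even_of_scalar_center [Nontrivial V] {ρ : X →* End k V} (hρ : ∀ x, ρ x = 1 → x = 1)
    {Q : Subgroup X} (hscal : ∀ z ∈ ⁅Q, Q⁆, ∃ c : k, ρ z = c • 1)
    (hZ : Q ⊓ centralizer (Q : Set X) ≤ ⁅Q, Q⁆) {s d : ℕ} (hs : s.Prime)
    (hd : (⁅Q, Q⁆).relIndex Q = s ^ d) : Even d := by
  let σ := ρ.comp Q.subtype
  obtain ⟨U, -, hU0, hU, hmin⟩ := H1.exists_minimal_invBy (S := insert 1 (Set.range σ))
    (W := ⊤) (fun _ _ _ _ => trivial) top_ne_bot
  have hσ : ∀ x, ∀ u ∈ U, σ x u ∈ U := fun x => hU _ (Or.inr ⟨x, rfl⟩)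
  have : Nontrivial U := Submodule.nontrivial_iff_ne_bot.mpr hU0
  have hirr : H1.IrrBy (Set.range (H1.restrictRep σ U hσ)) := by
    have := H1.irrBy_restrict (Y := 1) hσ (fun _ h => h) (fun U' a b c => hmin U' a (by
      rintro T (hT | ⟨x, rfl⟩)
      · rw [hT]; exact c
      · exact b x))
    refine this.mono ?_
    rintro T (hT | hT)
    · rw [hT, show (1 : End k V).restrict (fun _ h => h : ∀ u ∈ U, (1 : End k V) u ∈ U) = 1 by
        ext; rfl]
      exact one_mem _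
    · exact Algebra.subset_adjoin hT
  have hle : (⁅Q, Q⁆).subgroupOf Q ≤ H1.scalarSub (H1.restrictRep σ U hσ) := fun z hz => by
    obtain ⟨c, hc⟩ := hscal z hz
    exact (H1.mem_scalarSub_restrictRep hσ).mpr ⟨c, fun u _ => LinearMap.congr_fun hc u⟩
  have hZ' : H1.scalarSub (H1.restrictRep σ U hσ) = (⁅Q, Q⁆).subgroupOf Q := by
    refine le_antisymm (fun x hx => ?_) hle
    obtain ⟨c, hc⟩ := (H1.mem_scalarSub_restrictRep hσ).mp hx
    obtain ⟨u, hu, hu0⟩ := Submodule.exists_mem_ne_zero_of_ne_bot hU0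
    refine hZ (mem_inf.mpr ⟨x.2, mem_centralizer_iff.mpr fun y hy => ?_⟩)
    rw [eq_comm, ← commutatorElement_eq_one_iff_mul_comm]
    exact eq_one_of_scalar_of_fix hρ (hscal _ (commutator_mem_commutator x.2 hy)) hu0
      (commutator_mem_fixer_of_scalar hc (hσ ⟨y, hy⟩) (hσ x⁻¹) (hσ ⟨y⁻¹, inv_mem hy⟩) u hu)
  have h1 := H1.finrank_sq_eq_index hirr (by
    rw [hZ', H1.subgroupOf_commutator le_rfl le_rfl, subgroupOf_self]; exact le_rfl)
  rw [hZ', ← relIndex, hd] at h1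
  obtain ⟨e, -, he⟩ := (Nat.dvd_prime_pow hs).mp
    (show finrank k U ∣ s ^ d by rw [← h1]; exact dvd_pow_self _ two_ne_zero)
  rw [he, ← pow_mul] at h1
  exact ⟨e, by have := Nat.pow_right_injective hs.two_le h1; omega⟩

theorem local_arith {e c d p : ℕ} (he : 1 ≤ e) (hp : p = 2 ^ e + 1) (hd : Even d)
    (h1 : d ≤ 2 * e + c) (h2 : p * c ≤ d) (h3 : p ≤ d) : False := by
  have h4 : 2 * e ≤ 2 ^ e := by
    obtain ⟨e, rfl⟩ : ∃ e', e = e' + 1 := ⟨e - 1, by omega⟩
    have := Nat.lt_two_pow_self (n := e)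
    rw [pow_succ]; omega
  subst hp
  obtain ⟨a, rfl⟩ := hd
  rcases c with _ | _ | c
  · omega
  · omega
  · nlinarith

end Local

section Main

variable {k : Type*} [Field k] [IsAlgClosed k]

theorem ll_local {V : Type*} [AddCommGroup V] [Module k V] [FiniteDimensional k V] [Nontrivial V]
    {X : Type u} [Group X] [Finite X] {ρ : X →* End k V} (hρ : ∀ x, ρ x = 1 → x = 1)
    {p s r n : ℕ} (hp : p.Prime) (hs : s.Prime) (hr : r.Prime) (hsp : s ≠ p) (hrp : r ≠ p)
    (hrs : r ≠ s) (hpk : (p : k) ≠ 0) (hsk : (s : k) ≠ 0) {Q T : Subgroup X} [Q.Normal]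
    (hQ : IsPGroup s Q) (hT : IsPGroup r T) {g : X} (hg : g ∈ normalizer (T : Set X))
    (hg1 : g ^ p ^ (n + 1) = 1) (hz : ⁅T, zpowers (g ^ p ^ n)⁆ = T) (hQT : ⁅Q, T⁆ = Q)
    (hQ1 : Q ≠ ⊥) (hscal : ∀ z ∈ ⁅Q, Q⁆, ∃ c : k, ρ z = c • 1) (hpow : ∀ x ∈ Q, x ^ s ∈ ⁅Q, Q⁆)
    (hfix : ∀ v, ρ g v = v → v = 0)
    (hcase : p = 2 ∨ (n = 0 ∧ ∀ U : Subgroup X, U < T → zpowers g ≤ normalizer (U : Set X) →
      ⁅Q, ⁅U, zpowers g⁆⁆ = ⊥)) : False := by
  have := Fact.mk hs
  have := Fact.mk hr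
  set τ := g ^ p ^ n with hτ
  have hcen : ⁅Q, Q⁆ ≤ center X := fun z hz => mem_center_of_scalar hρ (hscal z hz)
  have hcen' : ∀ A : Subgroup X, ⁅Q, Q⁆ ≤ centralizer (A : Set X) := fun A =>
    hcen.trans (center_le_centralizer _)
  have hQp : (Nat.card Q).Coprime p :=
    (H1.coprime_card_of_isPGroup hQ ((Nat.coprime_primes hp hs).mpr hsp.symm)).symm
  have hQk := H1.cast_card_ne_zero_of_isPGroup hs hQ hsk
  have hTs : (Nat.card T).Coprime s :=
    (H1.coprime_card_of_isPGroup hT ((Nat.coprime_primes hs hr).mpr hrs.symm)).symm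
  have hTQ : (Nat.card T).Coprime (Nat.card Q) := H1.coprime_card_of_isPGroup hQ hTs
  have hτs : (Nat.card (zpowers τ)).Coprime s := by
    rw [Nat.card_zpowers]
    exact H1.orderOf_coprime_of_pow_eq_one (p := p) (m := 1)
      (by rw [← pow_mul, ← pow_add, hg1]) ((Nat.coprime_primes hs hp).mpr hsp)
  have hτQ : (Nat.card (zpowers τ)).Coprime (Nat.card Q) := H1.coprime_card_of_isPGroup hQ hτs
  have hCT : Q ⊓ centralizer (T : Set X) ≤ ⁅Q, Q⁆ := fun x hx =>
    H1.mem_of_commutator_mem_of_abelian_section (commutator_le_left Q Q) le_rfl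
      (le_normalizer_of_normal T Q) (le_normalizer_of_normal T _) hTQ
      (mem_sup_left (hQT.ge (mem_inf.mp hx).1)) fun a ha => by
        rw [commutatorElement_eq_one_iff_mul_comm.mpr
          (mem_centralizer_iff.mp (mem_inf.mp hx).2 a ha).symm]
        exact one_mem _
  have hτT : ∀ Z : Subgroup X, Z.Normal → τ ∈ centralizer (Z : Set X) →
      T ≤ centralizer (Z : Set X) := fun Z _ h => hz.ge.trans
    ((commutator_mono le_rfl (zpowers_le.mpr h)).trans (commutator_le_right _ _))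
  let Z := Q ⊓ centralizer (Q : Set X)
  have hτZ : τ ∈ centralizer (Z : Set X) := mem_centralizer_of_nofix hρ hp hpk
    (le_centralizer_iff_isMulCommutative.mp (inf_le_right.trans (centralizer_le inf_le_left)))
    (hQp.coprime_dvd_left (card_dvd_of_le inf_le_left))
    (H1.cast_card_ne_zero_of_isPGroup hs (hQ.to_le inf_le_left) hsk)
    (le_normalizer_of_normal ⊤ Z (mem_top g)) hg1 hfix
  have hZ : Z ≤ ⁅Q, Q⁆ := le_trans (le_inf inf_le_left
    (le_centralizer_iff.mp (hτT Z inferInstance hτZ))) hCT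
  let E := ⁅Q, zpowers τ⁆
  let C := Q ⊓ centralizer {τ}
  have hEQ : E ≤ Q := commutator_le_left _ _
  have hE1 : E ≠ ⊥ := fun h => hQ1 (by
    rw [← hQT, H1.commutator_eq_bot_iff_le_centralizer']
    exact hτT Q inferInstance (H1.commutator_eq_bot_iff_le_centralizer'.mp h (mem_zpowers τ)))
  have hEτ : ⁅E, zpowers τ⁆ = E := H1.commutator_commutator_eq (le_normalizer_of_normal _ Q) hτQ
  have hEC : E ⊔ C = Q := by
    have := H1.commutator_sup_centralizer (le_normalizer_of_normal _ Q) hτQ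
      (Or.inr (H1.isSolvable_of_isPGroup hQ))
    rwa [H1.centralizer_zpowers'] at this
  have hCE : C ≤ centralizer (E : Set X) := by
    rw [← H1.commutator_eq_bot_iff_le_centralizer']
    refine commutator_commutator_eq_bot_of_rotate ?_ ?_
    · rw [H1.commutator_eq_bot_iff_le_centralizer'.mpr
        (inf_le_right.trans (H1.centralizer_zpowers' τ).ge), commutator_bot_left]
    · exact commutator_eq_bot_iff_le_centralizer.mpr
        ((commutator_mono inf_le_left le_rfl).trans (hcen' _))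
  have hZ' : ∀ x ∈ Q, x ∈ centralizer (E : Set X) → x ∈ centralizer (C : Set X) →
      x ∈ ⁅Q, Q⁆ := fun x hx h1 h2 => hZ (mem_inf.mpr ⟨hx, by
    rw [H1.mem_centralizer_iff_le] at h1 h2 ⊢
    exact hEC.ge.trans (sup_le h1 h2)⟩)
  have hgE : g ∈ normalizer (E : Set X) :=
    H1.le_normalizer_commutator (le_normalizer_of_normal _ Q)
      (H1.le_normalizer_of_le_centralizer (by
        rw [H1.centralizer_zpowers']
        exact zpowers_le.mpr (mem_centralizer_singleton_iff.mpr (Commute.self_pow g _).eq)))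
      (mem_zpowers g)
  obtain ⟨U, -, hU0, hUE, hUg, hirr, e, he, -, hind, -, heig, -⟩ := exists_crit ρ hp hs hsp hpk hsk
    (hQ.to_le hEQ) ((commutator_mono hEQ hEQ).trans (hcen' E)) hgE hg1 hEτ (hcen' E)
    (le_centralizer_iff.mp (hcen' (zpowers g)) (mem_zpowers g)) (W := ⊤) top_ne_bot
    (fun _ _ _ _ => trivial) (fun _ _ => trivial) (fun v _ hv => by
      by_contra hv0
      refine hE1 ?_
      rw [← hEτ, commutator_eq_bot_iff_le_centralizer]
      refine fun x hx => hcen' _ (hZ' x (hEQ hx) (mem_centralizer_iff.mpr fun y hy => ?_)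
        (le_centralizer_iff.mp hCE hx))
      rw [← commutatorElement_eq_one_iff_mul_comm]
      exact eq_one_of_scalar_of_fix hρ (hscal _ (commutator_mem_commutator (hEQ hy) (hEQ hx))) hv0
        (hv _ (H1.commutator_le_of_le_normalizer le_normalizer (commutator_mem_commutator hy hx))))
    (fun U _ hU0 _ _ x hx h => by
      obtain ⟨u, hu, hu0⟩ := Submodule.exists_mem_ne_zero_of_ne_bot hU0
      refine hZ' x (hEQ hx) (mem_centralizer_iff.mpr fun y hy => ?_) (le_centralizer_iff.mp hCE hx)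
      rw [eq_comm, ← commutatorElement_eq_one_iff_mul_comm]
      exact eq_one_of_scalar_of_fix hρ (hscal _ (commutator_mem_commutator (hEQ hx) (hEQ hy))) hu0
        (h y hy u hu))
  obtain ⟨hse, heig⟩ := heig fun u _ => hfix u
  have hse1 : 1 < s ^ e := Nat.one_lt_pow (by omega) hs.one_lt
  obtain ⟨Y, i1, i2, i3, σ, a1, a2, a3, a4, a5⟩ := exists_rep_section Q ⁅Q, Q⁆ hQ le_rfl hpow
  have hTσ : ¬ T ≤ σ.ker := fun h => by
    have h1 : ⁅Q, T⁆ ≤ ⁅Q, Q⁆ := commutator_le.mpr fun y hy x hx => (a1 x).mp (h hx) y hy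
    exact (H1.commutator_lt_of_isSolvable (H1.isSolvable_of_isPGroup hQ) hQ1).not_ge
      (hQT.ge.trans h1)
  have hpK : (p : AlgebraicClosure (ZMod s)) ≠ 0 := H1.cast_ne_zero_of_prime_ne hs hp hsp.symm
  have hrK : (r : AlgebraicClosure (ZMod s)) ≠ 0 := H1.cast_ne_zero_of_prime_ne hs hr hrs
  by_cases hp2 : p = 2
  · subst hp2
    have hn : n ≠ 0 := by rintro rfl; omega
    obtain ⟨u, hu, hu0⟩ := Submodule.exists_mem_ne_zero_of_ne_bot hU0
    have b1 := fun c hc => conj_eq_on_crit ρ hgE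
      (by rw [Nat.cast_pow]; exact pow_ne_zero _ hpk) hg1 hUE hUg hirr heig hfix
      (c := c) (hCE hc) u hu
    have hgC : zpowers g ≤ normalizer (C : Set X) :=
      H1.le_normalizer_inf (le_normalizer_of_normal _ Q) (by
        rw [← H1.centralizer_zpowers']
        refine H1.le_normalizer_centralizer (H1.le_normalizer_of_le_centralizer ?_)
        rw [H1.centralizer_zpowers']
        exact zpowers_le.mpr (mem_centralizer_singleton_iff.mpr (Commute.self_pow g _).eq))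
    have b2 : ∀ c ∈ C, ∀ y ∈ C, ρ (y⁻¹ * (c⁻¹ * (g * c * g⁻¹)) * y) u = u := by
      intro c hc y hy
      have c1 := b1 _ (mul_mem hc hy)
      rw [show g * (c * y) * g⁻¹ = g * c * g⁻¹ * (g * y * g⁻¹) by group, rep_mul_apply, b1 y hy]
        at c1
      rw [rep_mul_apply, rep_mul_apply, rep_mul_apply, c1, ← rep_mul_apply, ← rep_mul_apply]
      simp
    have b3 : ∀ c ∈ C, ⁅c, g⁆ = 1 := by
      intro c hc
      have c0 : c⁻¹ * (g * c * g⁻¹) ∈ C :=
        mul_mem (inv_mem hc) (H1.conj_mem_of_le_normalizer hgC (mem_zpowers g) hc)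
      have c1 := b2 c hc 1 (one_mem _)
      rw [inv_one, one_mul, mul_one] at c1
      have c2 := eq_one_of_scalar_of_fix hρ (hscal _ (hZ' _ (mem_inf.mp c0).1 (hCE c0)
        (mem_centralizer_iff.mpr fun y hy => by
          have c4 := b2 c hc y hy
          generalize c⁻¹ * (g * c * g⁻¹) = w at c0 c1 c4 ⊢
          have c3 := eq_one_of_scalar_of_fix hρ (hscal _ (commutator_mem_commutator
            (inv_mem (mem_inf.mp c0).1) (inv_mem (mem_inf.mp hy).1))) hu0 (by
              rw [show ⁅w⁻¹, y⁻¹⁆ = w⁻¹ * (y⁻¹ * w * y) by group, rep_mul_apply, c4]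
              conv_lhs => rw [← c1]
              exact rep_inv_apply ρ _ u)
          exact (Commute.inv_inv_iff.mp (commutatorElement_eq_one_iff_commute.mp c3)).eq.symm)))
        hu0 c1
      rw [commutatorElement_eq_one_iff_mul_comm]
      rw [inv_mul_eq_one, eq_mul_inv_iff_mul_eq] at c2
      exact c2
    obtain ⟨e', he', h2⟩ := two_pow_eq_of_fix (by exact_mod_cast hpK) σ hr hrp hrK hT hg hn hg1
      (by
        by_contra h
        push Not at h
        exact hTσ (hz.ge.trans (H1.commutator_zpowers_le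
          (le_normalizer_of_normal ⊤ _ (mem_top _)) h)))
      (fun v hv => a2 (zpowers τ) hτs g (fun y hy => by
        rw [H1.centralizer_zpowers'] at hy
        rw [b3 y hy]; exact one_mem _) v fun a ha => fix_of_mem_zpowers hv ha)
    have h3 : r ^ e' = s ^ e := by omega
    exact hrs ((Nat.prime_dvd_prime_iff_eq hr hs).mp
      (hr.dvd_of_dvd_pow (h3 ▸ dvd_pow_self r (by omega))))
  obtain ⟨rfl, hmin⟩ := hcase.resolve_left hp2
  simp only [zero_add, pow_one, pow_zero] at hse hg1 hτ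
  obtain rfl : s = 2 := by
    by_contra hs2
    have h1 := (hs.odd_of_ne_two hs2).pow (n := e)
    have h2 := hp.odd_of_ne_two hp2
    rw [← hse] at h2
    exact (Nat.not_even_iff_odd.mpr h2) h1.add_one
  rw [hτ] at hz
  let f := QuotientGroup.mk' σ.ker
  have hfT : T.map f ≠ ⊥ := fun h => hTσ (by
    rwa [Subgroup.map_eq_bot_iff, QuotientGroup.ker_mk'] at h)
  have hd : finrank (AlgebraicClosure (ZMod 2)) Y ≤
      2 * e + finrank (AlgebraicClosure (ZMod 2)) (LinearMap.ker (σ g - 1)) := by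
    rw [← Nat.pow_le_pow_iff_right Nat.one_lt_two, ← a4, pow_add, ← hind]
    refine le_trans ?_ (Nat.mul_le_mul_left _ (a5 g))
    rw [L.relIndex_eq_card_map_mk', L.relIndex_eq_card_map_mk', L.relIndex_eq_card_map_mk',
      ← hτ]
    rw [show Q.map (QuotientGroup.mk' ⁅Q, Q⁆) = E.map (QuotientGroup.mk' ⁅Q, Q⁆) ⊔
      C.map (QuotientGroup.mk' ⁅Q, Q⁆) by rw [← Subgroup.map_sup, hEC]]
    exact Nat.le_of_dvd (Nat.mul_pos Nat.card_pos Nat.card_pos) (H1.card_sup_dvd
      ((map_mono (H1.le_normalizer_of_le_centralizer (le_centralizer_iff.mp hCE))).trans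
        (le_normalizer_map _)))
  have h4 : 2 * e ≤ 2 ^ e := by
    obtain ⟨e, rfl⟩ : ∃ e', e = e' + 1 := ⟨e - 1, by omega⟩
    have := Nat.lt_two_pow_self (n := e)
    rw [pow_succ]; omega
  obtain ⟨h1, h2⟩ := small_commutator_bound (H1.kerRep σ) (H1.kerRep_eq_one σ) hp hr hp2 hrs hrp
    hpK hrK (hT.map f) (g := f g) (le_normalizer_map f ⟨g, hg, rfl⟩)
    (by rw [← map_pow, hg1, map_one])
    (by rwa [← MonoidHom.map_zpowers, ← map_commutator, hz])
    (fun U hU hgU => by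
      have b1 : (T ⊓ U.comap f).map f = U := by
        refine le_antisymm (map_le_iff_le_comap.mpr inf_le_right) fun y hy => ?_
        obtain ⟨x, hx, rfl⟩ := hU.le hy
        exact ⟨x, ⟨hx, hy⟩, rfl⟩
      rw [← b1, ← MonoidHom.map_zpowers, ← map_commutator, Subgroup.map_eq_bot_iff,
        QuotientGroup.ker_mk']
      have b2 := hmin (T ⊓ U.comap f) (lt_of_le_of_ne inf_le_left fun h => hU.ne (by rw [← b1, h]))
        (H1.le_normalizer_inf (zpowers_le.mpr hg) (zpowers_le.mpr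
          (le_normalizer_comap f (hgU (mem_zpowers _)))))
      intro x hx
      refine (a1 x).mpr fun y hy => ?_
      have b3 := commutator_mem_commutator hy hx
      rw [b2, mem_bot] at b3
      rw [b3]; exact one_mem _)
    (fun v hv => a3 T hTs hCT v fun t ht => hv _ ⟨t, ht, rfl⟩)
    (by
      have : finrank (AlgebraicClosure (ZMod 2)) Y + 1 ≤
          finrank (AlgebraicClosure (ZMod 2)) (LinearMap.ker (σ g - 1)) + p := by omega
      exact this)
  refine local_arith he hse.symm (even_of_scalar_center hρ hscal hZ hs a4) hd h1 (h2 fun h0 => ?_)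
  rw [h0, pow_zero, relIndex_eq_one] at a4
  exact (H1.commutator_lt_of_isSolvable (H1.isSolvable_of_isPGroup hQ) hQ1).not_ge a4

omit [IsAlgClosed k] in
theorem ker_eq_bot_of_faithful {V : Type*} [AddCommGroup V] [Module k V] {X : Type*} [Group X]
    {ρ : X →* End k V} (hρ : ∀ x, ρ x = 1 → x = 1) : ρ.ker = ⊥ :=
  eq_bot_iff.mpr fun x hx => hρ x hx

theorem exists_wsp_commutator {V : Type*} [AddCommGroup V] [Module k V] [FiniteDimensional k V]
    {X : Type*} [Group X] [Finite X] {ρ : X →* End k V} (hρ : ∀ x, ρ x = 1 → x = 1)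
    {Q Z : Subgroup X} (hZ : IsMulCommutative Z) (hZQ : Z ≤ Q) (hZk : (Nat.card Z : k) ≠ 0)
    (hQ : Q ≠ ⊥) : ∃ μ : X → k, ¬ Q ≤ fixer ρ (wsp ρ Z μ) := by
  by_cases h : Z = ⊥
  · refine ⟨fun _ => 1, fun h' => hQ (eq_bot_iff.mpr fun x hx => hρ x ?_)⟩
    ext v
    refine h' hx v (mem_wsp.mpr fun z hz => ?_)
    rw [h, mem_bot] at hz
    simp [hz]
  · obtain ⟨μ, hμ⟩ := exists_wsp (ρ := ρ) hZ le_rfl hZk
      (by rwa [ker_eq_bot_of_faithful hρ, le_bot_iff])
    exact ⟨μ, fun h' => hμ (hZQ.trans h')⟩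

theorem ll_faithful {V : Type v} [AddCommGroup V] [Module k V] [FiniteDimensional k V]
    {X : Type u} [Group X] [Finite X] {ρ : X →* End k V} (hρ : ∀ x, ρ x = 1 → x = 1)
    {p s r n : ℕ} (hp : p.Prime) (hs : s.Prime) (hr : r.Prime) (hsp : s ≠ p) (hrp : r ≠ p)
    (hrs : r ≠ s) (hpk : (p : k) ≠ 0) (hsk : (s : k) ≠ 0) {Q T : Subgroup X}
    (hQ : IsPGroup s Q) (hT : IsPGroup r T) {g : X} (hgQ : g ∈ normalizer (Q : Set X))
    (hgT : g ∈ normalizer (T : Set X)) (hTQ : T ≤ normalizer (Q : Set X))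
    (hg1 : g ^ p ^ (n + 1) = 1) (hz : ⁅T, zpowers (g ^ p ^ n)⁆ = T)
    (hfix : ∀ v, ρ g v = v → v = 0)
    (hcase : p = 2 ∨ (n = 0 ∧ ∀ (X' : Type u) [Group X'] [Finite X'] (V' : Type v)
      [AddCommGroup V'] [Module k V'] [FiniteDimensional k V'] (ρ' : X' →* End k V')
      (Q' T' : Subgroup X') (g' : X'), Nat.card T' < Nat.card T → IsPGroup s Q' → IsPGroup r T' →
      g' ∈ normalizer (Q' : Set X') → g' ∈ normalizer (T' : Set X') →
      T' ≤ normalizer (Q' : Set X') → g' ^ p ^ (0 + 1) = 1 → ⁅T', zpowers (g' ^ p ^ 0)⁆ = T' →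
      (∀ v, ρ' g' v = v → v = 0) → ⁅Q', T'⁆ ≤ ρ'.ker)) : ⁅Q, T⁆ = ⊥ := by
  have := Fact.mk hs
  have := Fact.mk hr
  by_contra hne
  obtain ⟨Q₀, hQ₀, hB, hnt, hmin⟩ := H1.exists_minimal_nontrivial (B := T ⊔ zpowers g)
    (sup_le hTQ (zpowers_le.mpr hgQ)) hne
  have hP := hQ.to_le hQ₀
  have hBA : T ⊔ zpowers g ≤ normalizer (T : Set X) := sup_le le_normalizer (zpowers_le.mpr hgT)
  have hTs : (Nat.card T).Coprime s :=
    (H1.coprime_card_of_isPGroup hT ((Nat.coprime_primes hs hr).mpr hrs.symm)).symm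
  have h1 := H1.minimal_commutator_eq hP hB le_sup_left hBA hTs hnt hmin
  have h2 := H1.minimal_class_two hP hB le_sup_left hBA hTs hnt hmin
  have h3 := H1.minimal_frattini_eq hP hB le_sup_left hBA hTs hnt hmin
  have h4 := H1.minimal_frattini_commutator hB hnt hmin
  rw [h3, H1.commutator_eq_bot_iff_le_centralizer'] at h4
  have hZQ : ⁅Q₀, Q₀⁆ ≤ Q₀ := H1.commutator_le_of_le_normalizer le_normalizer
  obtain ⟨μ, hμ⟩ := exists_wsp_commutator hρ
    (le_centralizer_iff_isMulCommutative.mp (h2.trans (centralizer_le hZQ))) hZQ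
    (H1.cast_card_ne_zero_of_isPGroup hs (hP.to_le hZQ) hsk)
    (fun h => hnt (by rw [h, commutator_bot_left]))
  have hW := wsp_ne_bot_of_not_le hμ
  have hgZ : zpowers g ≤ normalizer ((⁅Q₀, Q₀⁆ : Subgroup X) : Set X) :=
    H1.le_normalizer_commutator (le_sup_right.trans hB) (le_sup_right.trans hB)
  have hgk : (Nat.card (zpowers g) : k) ≠ 0 := by
    obtain ⟨i, -, hi⟩ := (Nat.dvd_prime_pow hp).mp (orderOf_dvd_of_pow_eq_one hg1)
    rw [Nat.card_zpowers, hi, Nat.cast_pow]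
    exact pow_ne_zero _ hpk
  have hfix' : ∀ v, (∀ b ∈ zpowers g, ρ b v = v) → v = 0 := fun v hv =>
    hfix v (hv g (mem_zpowers g))
  obtain ⟨j, hj, hjS, hjle⟩ := exists_pow_gen hp hg1 (inf_wstab_ne_bot hgZ hgk hfix' hW)
  let L := Q₀ ⊔ T ⊔ zpowers (g ^ p ^ j)
  have hQL : Q₀ ≤ L := le_sup_left.trans le_sup_left
  have hTL : T ≤ L := le_sup_right.trans le_sup_left
  have hgL : g ^ p ^ j ∈ L := mem_sup_right (mem_zpowers _)
  have hLS : L ≤ wstab ⁅Q₀, Q₀⁆ μ := sup_le (sup_le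
    ((le_centralizer_iff.mp h2).trans centralizer_le_wstab) (h4.trans centralizer_le_wstab))
    (zpowers_le.mpr hjS)
  have hgB : zpowers (g ^ p ^ j) ≤ T ⊔ zpowers g :=
    zpowers_le.mpr (mem_sup_right (pow_mem (mem_zpowers g) _))
  obtain ⟨N, iN, ρ', hNL, hρ', happ, hN⟩ := exists_local ρ L (wsp ρ ⁅Q₀, Q₀⁆ μ)
    fun x hx u hu => apply_mem_wsp (hLS hx) hu
  have : Nontrivial (wsp ρ ⁅Q₀, Q₀⁆ μ) := Submodule.nontrivial_iff_ne_bot.mpr hW
  have hLQ : L ≤ normalizer (Q₀ : Set X) :=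
    sup_le (sup_le le_normalizer (le_sup_left.trans hB)) (hgB.trans hB)
  have := H1.bar_normal (N := N) hLQ
  let g' := H1.qmk L N ⟨g ^ p ^ j, hgL⟩
  have hg' : zpowers g' = H1.bar L N (zpowers (g ^ p ^ j)) := (H1.bar_zpowers ⟨_, hgL⟩).symm
  have hgT' : g' ∈ normalizer ((H1.bar L N T : Subgroup _) : Set (L ⧸ N.subgroupOf L)) :=
    (hg'.le.trans (H1.bar_le_normalizer (hgB.trans hBA))) (mem_zpowers g')
  have hg1' : g' ^ p ^ (n - j + 1) = 1 := by
    rw [← map_pow, H1.qmk_eq_one_iff, coe_pow, ← pow_mul, ← pow_add,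
      show j + (n - j + 1) = n + 1 by omega, hg1]
    exact one_mem _
  have hfix'' : ∀ v, ρ' g' v = v → v = 0 := fun v hv => Subtype.ext
    (eq_zero_of_fix_inf_wstab hgZ hgk hfix' v.2 fun b hb => fix_of_mem_zpowers
      ((happ ⟨_, hgL⟩ v).symm.trans (congrArg Subtype.val hv)) (hjle hb))
  refine ll_local hρ' hp hs hr hsp hrp hrs hpk hsk (H1.isPGroup_bar hP) (H1.isPGroup_bar hT)
    hgT' hg1' ?_ (by rw [← H1.bar_commutator hQL hTL, h1]) ?_ ?_ ?_ hfix'' ?_
  · rw [← map_pow, ← H1.bar_zpowers, ← H1.bar_commutator hTL (zpowers_le.mpr (Subtype.mem _)),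
      coe_pow, ← pow_mul, ← pow_add, show j + (n - j) = n by omega, hz]
  · rw [Ne, H1.bar_eq_bot_iff hQL]
    exact fun h => hμ fun x hx => (hN x (hQL hx)).mp (h hx)
  · rw [← H1.bar_commutator hQL hQL]
    intro z hz
    obtain ⟨y, hy, rfl⟩ := H1.mem_bar.mp hz
    refine ⟨μ y, LinearMap.ext fun u => Subtype.ext ?_⟩
    rw [happ]
    exact mem_wsp.mp u.2 y hy
  · rw [← H1.bar_commutator hQL hQL, ← h3]
    intro z hz
    obtain ⟨y, hy, rfl⟩ := H1.mem_bar.mp hz
    rw [← map_pow]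
    exact H1.qmk_mem_bar (H1.pow_mem_frattiniOf hP hy)
  · refine hcase.imp_right fun ⟨hn, ih⟩ => ⟨by omega, fun U hU hgU => ?_⟩
    subst hn
    rw [Nat.zero_sub] at hg1'
    have hUr := (H1.isPGroup_bar (Y := L) (N := N) hT).to_le hU.le
    have hle : ⁅U, zpowers g'⁆ ≤ U := H1.commutator_le_of_le_normalizer hgU
    rw [← le_bot_iff, ← ker_eq_bot_of_faithful hρ']
    refine ih _ _ ρ' _ _ g' ((card_le_of_le hle).trans_lt ((H1.card_lt_of_lt hU).trans_le
      (Nat.le_of_dvd Nat.card_pos (H1.card_bar_dvd T)))) (H1.isPGroup_bar hP) (hUr.to_le hle)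
      (le_normalizer_of_normal ⊤ _ (mem_top _))
      (H1.le_normalizer_commutator hgU le_normalizer (mem_zpowers g'))
      (le_normalizer_of_normal _ _) hg1' ?_ hfix''
    rw [pow_zero, pow_one]
    refine H1.commutator_commutator_eq hgU (H1.coprime_card_of_isPGroup hUr ?_)
    rw [Nat.card_zpowers]
    exact H1.orderOf_coprime_of_pow_eq_one hg1' ((Nat.coprime_primes hr hp).mpr hrp)

/-- An element of order `p ^ (n + 1)` without fixed vectors, where `p = 2` or `n = 0`: if its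
power of order `p` acts without trivial quotient on the `r`-group `T`, then `T` centralizes the
image of every invariant `s`-group. -/
theorem ll_rep {p s r n : ℕ} (hp : p.Prime) (hs : s.Prime) (hr : r.Prime) (hsp : s ≠ p)
    (hrp : r ≠ p) (hrs : r ≠ s) (hpk : (p : k) ≠ 0) (hsk : (s : k) ≠ 0) (hn : p = 2 ∨ n = 0)
    (m : ℕ) : ∀ (X : Type u) [Group X] [Finite X] (V : Type v)
      [AddCommGroup V] [Module k V] [FiniteDimensional k V] (ρ : X →* End k V)
      (Q T : Subgroup X) (g : X), Nat.card T = m → IsPGroup s Q → IsPGroup r T →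
      g ∈ normalizer (Q : Set X) → g ∈ normalizer (T : Set X) →
      T ≤ normalizer (Q : Set X) → g ^ p ^ (n + 1) = 1 → ⁅T, zpowers (g ^ p ^ n)⁆ = T →
      (∀ v, ρ g v = v → v = 0) → ⁅Q, T⁆ ≤ ρ.ker := by
  induction m using Nat.strong_induction_on with
  | _ m ih =>
  intro X _ _ V _ _ _ ρ Q T g hm hQ hT hgQ hgT hTQ hg1 hz hfix
  let f := QuotientGroup.mk' ρ.ker
  rw [← QuotientGroup.ker_mk' ρ.ker, ← Subgroup.map_eq_bot_iff, map_commutator]
  refine ll_faithful (H1.kerRep_eq_one ρ) hp hs hr hsp hrp hrs hpk hsk (hQ.map f) (hT.map f)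
    (g := f g) (n := n) (le_normalizer_map f ⟨g, hgQ, rfl⟩) (le_normalizer_map f ⟨g, hgT, rfl⟩)
    ((map_mono hTQ).trans (le_normalizer_map f)) (by rw [← map_pow, hg1, map_one])
    (by rw [← map_pow, ← MonoidHom.map_zpowers, ← map_commutator, hz]) hfix
    (hn.imp_right fun h0 => ⟨h0, ?_⟩)
  subst h0
  intro X' _ _ V' _ _ _ ρ' Q' T' g' hlt
  exact ih _ (hlt.trans_le ((Nat.le_of_dvd Nat.card_pos (card_map_dvd T f)).trans hm.le))
    X' V' ρ' Q' T' g' rfl

end Main

end Cfsg.Agent.H9
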