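import Cfsg.Agent.H9.FrobFree

/-!
Auxiliary results for towers of height three under a cyclic group of operators.
-/

set_option autoImplicit false

namespace Cfsg.Agent.H9

open Subgroup Module
open scoped commutatorElement IsMulCommutative

universe u v

variable {k V : Type*} [Field k] [IsAlgClosed k] [AddCommGroup V] [Module k V]
  [FiniteDimensional k V] {X : Type*} [Group X]

theorem exists_pow_gen {g : X} {p n : ℕ} (hp : p.Prime) (hg : g ^ p ^ (n + 1) = 1)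
    {S : Subgroup X} (h : zpowers g ⊓ S ≠ ⊥) [Finite X] :
    ∃ j ≤ n, g ^ p ^ j ∈ S ∧ zpowers g ⊓ S ≤ zpowers (g ^ p ^ j) := by
  classical
  have key : ∀ x ∈ zpowers g ⊓ S, x ≠ 1 → ∃ a ≤ n, g ^ p ^ a ∈ S ∧ x ∈ zpowers (g ^ p ^ a) := by
    intro x hx hx1
    obtain ⟨i, rfl⟩ := mem_powers_iff_mem_zpowers.mpr (mem_inf.mp hx).1
    have hi : i ≠ 0 := by rintro rfl; simp at hx1
    obtain ⟨a, u, hu, rfl⟩ := Nat.exists_eq_pow_mul_and_not_dvd hi p hp.ne_one
    simp only [pow_mul] at hx hx1 ⊢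
    refine ⟨a, ?_, ?_, npow_mem_zpowers _ _⟩
    · by_contra ha
      obtain ⟨b, rfl⟩ : ∃ b, a = n + 1 + b := ⟨a - (n + 1), by omega⟩
      rw [pow_add, pow_mul, hg] at hx1
      simp at hx1
    · obtain ⟨m, hm⟩ := exists_pow_eq_self_of_coprime (x := g ^ p ^ a) (n := u)
        (H1.orderOf_coprime_of_pow_eq_one (p := p) (m := n + 1)
          (by rw [← pow_mul, mul_comm, pow_mul, hg, one_pow])
          ((Nat.Prime.coprime_iff_not_dvd hp).mpr hu).symm).symm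
      rw [← hm]
      exact pow_mem (mem_inf.mp hx).2 m
  have hex : ∃ a, g ^ p ^ a ∈ S := ⟨n + 1, hg ▸ one_mem _⟩
  obtain ⟨⟨x, hx⟩, hx1⟩ := (ne_bot_iff_exists_ne_one).mp h
  obtain ⟨a, ha, ha', -⟩ := key x hx fun h => hx1 (Subtype.ext h)
  refine ⟨Nat.find hex, (Nat.find_min' hex ha').trans ha, Nat.find_spec hex, fun y hy => ?_⟩
  by_cases hy1 : y = 1
  · rw [hy1]; exact one_mem _
  obtain ⟨b, -, hb, hb'⟩ := key y hy hy1
  obtain ⟨c, rfl⟩ := Nat.exists_eq_add_of_le (Nat.find_min' hex hb)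
  rw [pow_add, pow_mul] at hb'
  exact zpowers_le.mpr (npow_mem_zpowers _ _) hb'

/-- If all nontrivial roots of unity are eigenvalues on an irreducible `E`-module, the operator
centralizes the action of the centralizer of `E` on it. -/
theorem conj_eq_on_crit (ρ : X →* End k V) {E : Subgroup X} {g : X}
    (hg : g ∈ normalizer (E : Set X)) {N : ℕ} (hN : (N : k) ≠ 0) (hg1 : g ^ N = 1)
    {U : Submodule k V} (hUE : ∀ x ∈ E, ∀ u ∈ U, ρ x u ∈ U) (hUg : ∀ u ∈ U, ρ g u ∈ U)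
    (hirr : ∀ U' ≤ U, (∀ x ∈ E, ∀ u ∈ U', ρ x u ∈ U') → U' = ⊥ ∨ U' = U)
    (heig : ∀ c : k, c ^ N = 1 → c ≠ 1 → ∃ u ∈ U, u ≠ 0 ∧ ρ g u = c • u)
    (hfix : ∀ v, ρ g v = v → v = 0) {c : X} (hc : c ∈ centralizer (E : Set X)) :
    ∀ u ∈ U, ρ (g * c * g⁻¹) u = ρ c u := by
  have hN0 : 0 < N := Nat.pos_of_ne_zero (by rintro rfl; simp at hN)
  have hUg' : ∀ u ∈ U, ρ g⁻¹ u ∈ U := fun u hu => by
    rw [show g⁻¹ = g ^ (N - 1) from
      inv_eq_of_mul_eq_one_right (by rw [← pow_succ', Nat.sub_add_cancel hN0, hg1]), map_pow]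
    exact H1.pow_apply_mem hUg _ hu
  let Yi : End k U := (ρ g⁻¹).restrict hUg'
  let M : Submodule k (U →ₗ[k] V) :=
    { carrier := {f | ∀ e (he : e ∈ E) (u : U), f ⟨ρ e u, hUE e he u u.2⟩ = ρ e (f u)}
      zero_mem' := fun e he u => by simp
      add_mem' := fun ha hb e he u => by simp [ha e he u, hb e he u]
      smul_mem' := fun a f hf e he u => by simp [hf e he u] }
  let Φ : End k (U →ₗ[k] V) := LinearMap.llcomp k U V V (ρ g) ∘ₗ LinearMap.lcomp k V Yi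
  have hΦ : ∀ f u, Φ f u = ρ g (f (Yi u)) := fun f u => rfl
  have hM : ∀ f ∈ M, Φ f ∈ M := by
    intro f hf e he u
    rw [hΦ, hΦ, ← rep_mul_apply, show e * g = g * (g⁻¹ * e * g) by group, rep_mul_apply,
      ← hf _ (H1.conj_mem_of_le_normalizer' le_rfl hg he)]
    congr 2
    refine Subtype.ext ?_
    change ρ g⁻¹ (ρ e u) = ρ (g⁻¹ * e * g) (ρ g⁻¹ u)
    rw [rep_mul_apply, rep_mul_apply, rep_apply_inv]
  have hpow : ∀ (n : ℕ) f u, (Φ ^ n) f u = ρ (g ^ n) (f ((Yi ^ n) u)) := by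
    intro n
    induction n with
    | zero => simp
    | succ n ih =>
      intro f u
      rw [pow_succ', End.mul_apply, hΦ, ih, pow_succ' g, rep_mul_apply, pow_succ Yi, End.mul_apply]
  have hYi : Yi ^ N = 1 := by
    ext u
    rw [H1.coe_restrict_pow, ← map_pow, inv_pow, hg1, inv_one, map_one]; rfl
  obtain ⟨b, l, hb, hl⟩ := H1.exists_eigenbasis_of_pow_eq_one (Φ.restrict hM) hN (by
    ext f u
    rw [H1.coe_restrict_pow, hpow, hg1, hYi, map_one]; rfl)
  have h1 : Φ.restrict hM = 1 := by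
    refine b.ext fun i => ?_
    rw [hb, End.one_apply]
    by_cases hi : l i = 1
    · rw [hi, one_smul]
    exfalso
    have hl0 : l i ≠ 0 := fun h => by simpa [h, hN0.ne'] using hl i
    obtain ⟨u, hu, hu0, hu'⟩ := heig (l i)⁻¹ (by rw [inv_pow, hl, inv_one]) (by simpa using hi)
    have h2 := LinearMap.congr_fun (congrArg Subtype.val (hb i)) ⟨ρ g u, hUg u hu⟩
    change ρ g ((b i : U →ₗ[k] V) (Yi _)) = l i • (b i : U →ₗ[k] V) _ at h2
    rw [show Yi ⟨ρ g u, hUg u hu⟩ = ⟨u, hu⟩ from Subtype.ext (rep_inv_apply ρ g u),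
      show (⟨ρ g u, hUg u hu⟩ : U) = (l i)⁻¹ • ⟨u, hu⟩ from Subtype.ext hu', map_smul, smul_smul,
      mul_inv_cancel₀ hl0, one_smul] at h2
    have h3 := hfix _ h2
    rcases hirr ((LinearMap.ker (b i : U →ₗ[k] V)).map U.subtype) (Submodule.map_subtype_le _ _)
      (by
        rintro e he _ ⟨w, hw, rfl⟩
        refine ⟨⟨ρ e w, hUE e he w w.2⟩, ?_, rfl⟩
        rw [SetLike.mem_coe, LinearMap.mem_ker] at hw ⊢
        rw [(b i).2 e he w, hw, map_zero]) with h4 | h4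
    · have : u ∈ (LinearMap.ker (b i : U →ₗ[k] V)).map U.subtype := ⟨⟨u, hu⟩, h3, rfl⟩
      rw [h4] at this
      exact hu0 this
    · refine b.ne_zero i (Subtype.ext (LinearMap.ext fun w => ?_))
      obtain ⟨w', hw, he⟩ : (w : V) ∈ (LinearMap.ker (b i : U →ₗ[k] V)).map U.subtype :=
        h4.symm ▸ w.2
      rw [← show w' = w from Subtype.ext he]
      exact hw
  intro u hu
  have h2 : ρ c ∘ₗ U.subtype ∈ M := fun e he w => by
    change ρ c (ρ e w) = ρ e (ρ c w)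
    rw [← rep_mul_apply, ← rep_mul_apply, mem_centralizer_iff.mp hc e he]
  have h3 := LinearMap.congr_fun (congrArg Subtype.val (LinearMap.congr_fun h1 ⟨_, h2⟩)) ⟨u, hu⟩
  rw [rep_mul_apply, rep_mul_apply]
  exact h3

/-- The case of a cyclic `2`-group whose fixed vectors are those of its involution. -/
theorem two_pow_eq_of_fix [Finite X] (h2k : (2 : k) ≠ 0) (ρ : X →* End k V) {r : ℕ} (hr : r.Prime)
    (hr2 : r ≠ 2) (hrk : (r : k) ≠ 0) {T : Subgroup X} (hT : IsPGroup r T) {g : X}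
    (hg : g ∈ normalizer (T : Set X)) {m : ℕ} (hm : m ≠ 0) (hg1 : g ^ 2 ^ (m + 1) = 1)
    (hnt : ∃ x ∈ T, ρ ⁅x, g ^ 2 ^ m⁆ ≠ 1) (hfix : ∀ v, ρ (g ^ 2 ^ m) v = v → ρ g v = v) :
    ∃ e, 1 ≤ e ∧ 2 ^ (m + 1) = r ^ e + 1 := by
  have := Fact.mk hr
  have hp := Nat.prime_two
  obtain ⟨h1, q, hq, hc, hqp, R, a1, a2, hnt', a4, a5, a6⟩ :=
    H1.exists_class_two_kerRep hp ρ
      (H1.coprime_card_of_isPGroup hT ((Nat.coprime_primes hp hr).mpr hr2.symm)).symm hg
      (by rw [← map_pow, hg1, map_one]) hnt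
  obtain rfl : q = r := by
    obtain ⟨n, hn⟩ := hT.exists_card_eq
    exact (Nat.prime_dvd_prime_iff_eq hq hr).mp (hq.dvd_of_dvd_pow (hn ▸ hc))
  obtain ⟨W, b1, hWσ, b3, hnofix⟩ :=
    H1.exists_nofix_subspace' (H1.kerRep ρ) (H1.cast_card_ne_zero_of_isPGroup hq a2 hrk) a4 hnt'
  set σ := (H1.kerRep ρ).comp R.subtype with hσdef
  set α := H1.conjAutOf a4
  let Y : End k V := -ρ g
  have hcov : ∀ x, Y * σ x = σ (α x) * Y := fun x => by
    rw [neg_mul, mul_neg]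
    exact congrArg Neg.neg (H1.cov_conjAutOf (H1.kerRep ρ) a4 x)
  have hYe : ∀ j, j ≠ 0 → Y ^ 2 ^ j = ρ (g ^ 2 ^ j) := fun j hj => by
    rw [(Nat.even_pow.mpr ⟨even_two, hj⟩).neg_pow, map_pow]
  have hY : Y ^ 2 ^ (m + 1) = 1 := by rw [hYe _ (by omega), hg1, map_one]
  have hα : α ^ 2 ^ (m + 1) = 1 := H1.conjAutOf_pow_eq_one a4 (h1 ▸ one_mem _)
  have hWY : ∀ u ∈ W, Y u ∈ W := fun u hu => W.neg_mem (b3 u hu)
  have hfix' : ∀ v, Y v = v → v = 0 := by
    intro v hv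
    have c1 : ρ g v = v := hfix v (by
      rw [← hYe m hm]
      generalize 2 ^ m = i
      induction i with
      | zero => simp
      | succ i ih => rw [pow_succ', End.mul_apply, ih, hv])
    have c2 : (2 : k) • v = 0 := by
      rw [two_smul]
      nth_rewrite 1 [← hv]
      rw [LinearMap.neg_apply, c1, neg_add_cancel]
    exact (smul_eq_zero.mp c2).resolve_left h2k
  obtain ⟨j, hj, U, hUW, hU0, hσ, hU, hinj, hcrit⟩ :=
    H1.exists_reduction_crit hp hq a2 hrk (H1.commute_commutator_of_le_centralizer a5) hcov hα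
      (H1.fpf_of_commutator_eq a4 (H1.coprime_card_of_isPGroup a2
        (H1.orderOf_coprime_of_pow_eq_one (p := 2) (m := 1) (by rw [← pow_mul, ← pow_add, h1])
        ((Nat.coprime_primes hq hp).mpr hqp))) a6) b1 hWσ hWY hnofix hY
  have : Nontrivial U := Submodule.nontrivial_iff_ne_bot.mpr hU0
  have key : ∀ u : U, (Y ^ 2 ^ j).restrict hU u = u → u = 0 := by
    intro u hu
    refine Subtype.ext (hinj _ u.2 (hfix' _ ?_))
    rw [← sub_eq_zero, ← End.mul_apply, ← LinearMap.sub_apply, ← sub_one_mul, mul_geom_sum,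
      LinearMap.sub_apply, sub_eq_zero]
    exact congrArg Subtype.val hu
  have hjm : j ≤ m := by
    by_contra hc
    obtain ⟨u, hu⟩ := exists_ne (0 : U)
    refine hu (key u (Subtype.ext ?_))
    rw [LinearMap.coe_restrict_apply, show j = m + 1 by omega, hY]; rfl
  obtain ⟨hirr, hcomm, hfree, -, hnc, e, he, hd, hind⟩ := hcrit hjm
  have e1 : 2 ^ j * 2 ^ (m - j + 1) = 2 ^ (m + 1) := by
    rw [← pow_add]; congr 1; omega
  have hcov' : ∀ x, (Y ^ 2 ^ j).restrict hU * H1.restrictRep σ U hσ x =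
      H1.restrictRep σ U hσ ((α ^ 2 ^ j) x) * (Y ^ 2 ^ j).restrict hU :=
    fun x => by ext u; exact LinearMap.congr_fun (H1.cov_pow hcov (2 ^ j) x) u
  have hY' : (Y ^ 2 ^ j).restrict hU ^ 2 ^ (m - j + 1) = 1 := by
    ext u; rw [H1.coe_restrict_pow, ← pow_mul, e1, hY]; rfl
  have h3 := (H1.crit_coprime hirr hcomm hcov'
    (h := 2 ^ (m - j + 1)) (by rw [Nat.cast_pow]; exact pow_ne_zero _ (by exact_mod_cast h2k)) hY'
    (by rw [← pow_mul, e1, hα]) hfree).2.2 key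
  have h4 : 1 < q ^ e := Nat.one_lt_pow (by omega) hq.one_lt
  rw [hd] at h3
  have h5 := (h3.resolve_right h4.ne').symm
  by_cases hj0 : j = 0
  · subst hj0
    exact ⟨e, he, h5⟩
  exfalso
  let τ : X ⧸ ρ.ker := (g : X ⧸ ρ.ker) ^ 2 ^ m
  have hτ : H1.kerRep ρ τ = ρ (g ^ 2 ^ m) := by rw [map_pow, map_pow, H1.kerRep_mk]
  have hτU : ∀ u ∈ U, H1.kerRep ρ τ u ∈ U := fun u hu => by
    rw [hτ, ← hYe m hm, show 2 ^ m = 2 ^ j * 2 ^ (m - j) by rw [← pow_add]; congr 1; omega, pow_mul]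
    exact H1.pow_apply_mem hU _ hu
  have hτ2 : τ * τ = 1 := by rw [← pow_two, ← pow_mul, ← pow_succ, h1]
  have hneg : ∀ u ∈ U, H1.kerRep ρ τ u = (-1 : k) • u := by
    intro u hu
    rw [neg_one_smul, eq_neg_iff_add_eq_zero]
    refine hinj _ (U.add_mem (hτU u hu) hu) ?_
    have c1 : ρ g (H1.kerRep ρ τ u + u) = H1.kerRep ρ τ u + u := hfix _ (by
      rw [← hτ, map_add, ← rep_mul_apply, hτ2, map_one, End.one_apply, add_comm])
    generalize H1.kerRep ρ τ u + u = w at c1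
    have c2 : ∀ i : ℕ, (Y ^ i) w = (-1 : k) ^ i • w := fun i => by
      induction i with
      | zero => simp
      | succ i ih => rw [pow_succ', End.mul_apply, ih, map_smul, LinearMap.neg_apply, c1, pow_succ,
          mul_smul, neg_one_smul]
    rw [LinearMap.sum_apply, Finset.sum_congr rfl fun i _ => c2 i, ← Finset.sum_smul,
      neg_one_geom_sum, if_pos (Nat.even_pow.mpr ⟨even_two, hj0⟩), zero_smul]
  have hτinv : τ⁻¹ = τ := inv_eq_of_mul_eq_one_right hτ2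
  have hR : R ≤ fixer (H1.kerRep ρ) U := by
    rw [← a6]
    refine H1.commutator_zpowers_le (le_normalizer_fixer (S := zpowers τ) (fun a ha => ?_)
      (mem_zpowers _)) fun x hx => ?_
    · obtain ⟨n, rfl⟩ := mem_powers_iff_mem_zpowers.mpr ha
      simp only [map_pow (H1.kerRep ρ) τ]
      exact fun v hv => H1.pow_apply_mem hτU n hv
    · rw [← commutatorElement_inv]
      exact inv_mem (commutator_mem_fixer_of_scalar hneg (hσ ⟨x, hx⟩) (hτinv.symm ▸ hτU)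
        (hσ ⟨x⁻¹, inv_mem hx⟩))
  obtain ⟨u, hu, hu0⟩ := Submodule.exists_mem_ne_zero_of_ne_bot hU0
  exact hu0 (hnofix u (hUW hu) fun x => hR x.2 u hu)

end Cfsg.Agent.H9
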