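import Cfsg.Agent.H9.FixCount

/-!
Adjacent Sylow subgroups (intersection of index `p`), lines, and the no-triangle lemma.
-/

set_option autoImplicit false

namespace Cfsg.Agent.H9

open Cfsg Pointwise Subgroup MulAction

variable {G : Type*} [Group G]

/-- Two Sylow subgroups are adjacent when they meet in a subgroup of index `p`. -/
def SylAdj {p : ℕ} (P Q : Sylow p G) : Prop := (Q : Subgroup G).relIndex (P : Subgroup G) = p

theorem card_sylow_eq_card [Finite G] {p : ℕ} [Fact p.Prime] (P Q : Sylow p G) :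
    Nat.card (P : Subgroup G) = Nat.card (Q : Subgroup G) :=
  P.card_eq_multiplicity.trans Q.card_eq_multiplicity.symm

theorem sylAdj_iff [Finite G] {p : ℕ} [Fact p.Prime] {P Q : Sylow p G} :
    SylAdj P Q ↔ Nat.card ((P : Subgroup G) ⊓ (Q : Subgroup G) : Subgroup G) * p =
      Nat.card (P : Subgroup G) := by
  have h := H1.card_inf_mul_relIndex (Q : Subgroup G) (P : Subgroup G)
  rw [inf_comm] at h
  rw [← h]
  unfold SylAdj
  constructor
  · intro h'; rw [h']
  · intro h'
    exact (Nat.eq_of_mul_eq_mul_left Nat.card_pos h').symm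

theorem SylAdj.symm [Finite G] {p : ℕ} [Fact p.Prime] {P Q : Sylow p G} (h : SylAdj P Q) :
    SylAdj Q P := by
  rw [sylAdj_iff] at h ⊢
  rw [inf_comm, h, card_sylow_eq_card P Q]

theorem SylAdj.ne [Finite G] {p : ℕ} [hp : Fact p.Prime] {P Q : Sylow p G} (h : SylAdj P Q) :
    P ≠ Q := by
  rintro rfl
  unfold SylAdj at h
  rw [relIndex_self] at h
  exact hp.out.one_lt.ne h

theorem le_normalizer_of_card_mul_eq [Finite G] {p : ℕ} [hp : Fact p.Prime] {D P : Subgroup G}
    (hP : IsPGroup p P) (hDP : D ≤ P) (h : Nat.card D * p = Nat.card P) :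
    P ≤ normalizer (D : Set G) := by
  have h1 : D.relIndex P = p := by
    have := H1.card_mul_relIndex hDP
    rw [← h] at this
    exact Nat.eq_of_mul_eq_mul_left Nat.card_pos this
  have := H3.normal_of_index_eq_prime hP (M := D.subgroupOf P) h1
  exact (normal_subgroupOf_iff_le_normalizer hDP).1 this

theorem eq_or_eq_of_card_mul_eq [Finite G] {p : ℕ} [hp : Fact p.Prime] {D E P : Subgroup G}
    (hDE : D ≤ E) (hEP : E ≤ P) (h : Nat.card D * p = Nat.card P) : E = D ∨ E = P := by
  have h1 := H1.card_mul_relIndex hDE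
  have h2 := H1.card_mul_relIndex hEP
  have h3 : D.relIndex E * E.relIndex P = p := by
    rw [← h2, ← h1, mul_assoc] at h
    exact (Nat.eq_of_mul_eq_mul_left Nat.card_pos h).symm
  rcases (Nat.dvd_prime hp.out).1 (Dvd.intro _ h3) with h4 | h4
  · exact Or.inl (le_antisymm (relIndex_eq_one.1 h4) hDE)
  · right
    rw [h4] at h3
    have : E.relIndex P = 1 := Nat.eq_of_mul_eq_mul_left hp.out.pos (by rw [h3, mul_one])
    exact le_antisymm hEP (relIndex_eq_one.1 this)

/-- Two distinct Sylow subgroups containing a subgroup `D` of index `p` meet exactly in `D`. -/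
theorem inf_eq_of_le [Finite G] {p : ℕ} [hp : Fact p.Prime] {D : Subgroup G} {P R : Sylow p G}
    (h : Nat.card D * p = Nat.card (P : Subgroup G)) (hP : D ≤ P) (hR : D ≤ R) (hne : P ≠ R) :
    (P : Subgroup G) ⊓ (R : Subgroup G) = D := by
  rcases eq_or_eq_of_card_mul_eq (le_inf hP hR) inf_le_left h with h1 | h1
  · exact h1
  · exact absurd (Sylow.ext (P.is_maximal' R.isPGroup' (inf_eq_left.1 h1))).symm hne

theorem sylAdj_of_le [Finite G] {p : ℕ} [hp : Fact p.Prime] {D : Subgroup G} {P R : Sylow p G}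
    (h : Nat.card D * p = Nat.card (P : Subgroup G)) (hP : D ≤ P) (hR : D ≤ R) (hne : P ≠ R) :
    SylAdj P R := by
  rw [sylAdj_iff, inf_eq_of_le h hP hR hne, h]

/-- No triangles: a Sylow subgroup adjacent to two adjacent Sylow subgroups contains their
intersection. -/
theorem SylAdj.inf_le [Finite G] {p : ℕ} [hp : Fact p.Prime] {P Q R : Sylow p G}
    (hPQ : SylAdj P Q) (hRP : SylAdj R P) (hRQ : SylAdj R Q) :
    (P : Subgroup G) ⊓ (Q : Subgroup G) ≤ R := by
  intro d hd
  have hPR := sylAdj_iff.1 hRP.symm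
  have hQR := sylAdj_iff.1 hRQ.symm
  have hRP' := sylAdj_iff.1 hRP
  have hRQ' := sylAdj_iff.1 hRQ
  have hPQ' := sylAdj_iff.1 hPQ
  by_cases hE : (R : Subgroup G) ⊓ (P : Subgroup G) = (R : Subgroup G) ⊓ (Q : Subgroup G)
  · have h1 : (R : Subgroup G) ⊓ (P : Subgroup G) ≤ (P : Subgroup G) ⊓ (Q : Subgroup G) :=
      le_inf inf_le_right (hE ▸ inf_le_right)
    have h2 := H1.eq_of_le_of_card_le h1 (by
      rw [card_sylow_eq_card R P, ← hPQ'] at hRP'
      exact (Nat.eq_of_mul_eq_mul_right hp.out.pos hRP').ge)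
    rw [← h2] at hd
    exact (mem_inf.1 hd).1
  · -- `d` normalizes both `R ⊓ P` and `R ⊓ Q`, which generate `R`
    have n1 : d ∈ normalizer (((R : Subgroup G) ⊓ (P : Subgroup G) : Subgroup G) : Set G) := by
      rw [inf_comm]
      exact le_normalizer_of_card_mul_eq P.isPGroup' inf_le_left hPR (mem_inf.1 hd).1
    have n2 : d ∈ normalizer (((R : Subgroup G) ⊓ (Q : Subgroup G) : Subgroup G) : Set G) := by
      rw [inf_comm]
      exact le_normalizer_of_card_mul_eq Q.isPGroup' inf_le_left hQR (mem_inf.1 hd).2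
    have hsup : ((R : Subgroup G) ⊓ (P : Subgroup G)) ⊔ ((R : Subgroup G) ⊓ (Q : Subgroup G)) =
        (R : Subgroup G) := by
      rcases eq_or_eq_of_card_mul_eq (le_sup_left (b := (R : Subgroup G) ⊓ (Q : Subgroup G)))
        (sup_le inf_le_left inf_le_left) hRP' with h1 | h1
      · exfalso
        apply hE
        symm
        refine H1.eq_of_le_of_card_le (sup_eq_left.1 h1) ?_
        rw [← hRQ'] at hRP'
        exact (Nat.eq_of_mul_eq_mul_right hp.out.pos hRP').le
      · exact h1
    have n3 : d ∈ normalizer ((R : Subgroup G) : Set G) := by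
      have := H1.le_normalizer_sup (zpowers_le.2 n1) (zpowers_le.2 n2) (mem_zpowers d)
      rwa [hsup] at this
    obtain ⟨k, hk⟩ := H8.exists_orderOf_eq_pow_of_mem P.isPGroup' (mem_inf.1 hd).1
    exact mem_sylow_of_mem_normalizer R hk n3

theorem SylAdj.smul {p : ℕ} {P Q : Sylow p G} (h : SylAdj P Q) (g : G) :
    SylAdj (g • P) (g • Q) := by
  unfold SylAdj at h ⊢
  rw [Sylow.coe_subgroup_smul, Sylow.coe_subgroup_smul, H8.relIndex_conj_smul, h]

/-- The number of Sylow subgroups adjacent to a given one does not depend on it. -/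
theorem ncard_sylAdj_eq [Finite G] {p : ℕ} [Fact p.Prime] (P Q : Sylow p G) :
    {R | SylAdj P R}.ncard = {R | SylAdj Q R}.ncard := by
  obtain ⟨g, rfl⟩ := exists_smul_eq G P Q
  refine Set.ncard_congr (fun R _ => g • R) (fun R hR => SylAdj.smul hR g)
    (fun a b _ _ h => smul_left_cancel g h) (fun R hR => ⟨g⁻¹ • R, ?_, smul_inv_smul g R⟩)
  have := SylAdj.smul hR g⁻¹
  rwa [inv_smul_smul] at this

theorem stabilizer_relIndex_sylow {p : ℕ} (P Q : Sylow p G) :
    (stabilizer G Q).relIndex (P : Subgroup G) = (Q : Subgroup G).relIndex (P : Subgroup G) := by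
  rw [Sylow.stabilizer_eq_normalizer, ← inf_relIndex_right, ← inf_relIndex_right (Q : Subgroup G),
    inf_comm, inf_comm (Q : Subgroup G)]
  congr 1
  exact P.isPGroup'.inf_normalizer_sylow Q

/-- `p²` divides the number of Sylow subgroups different from and not adjacent to `P`. -/
theorem sq_dvd_ncard_not_sylAdj [Finite G] {p : ℕ} [hp : Fact p.Prime] (P : Sylow p G) :
    p ^ 2 ∣ {R | R ≠ P ∧ ¬ SylAdj P R}.ncard := by
  refine dvd_ncard_of_invariant' (P : Subgroup G) _ ?_ ?_
  · rintro g hg R ⟨h1, h2⟩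
    have hgP : g⁻¹ • P = P := Sylow.smul_eq_iff_mem_normalizer.2 (le_normalizer (inv_mem hg))
    refine ⟨fun h => h1 ?_, fun h => h2 ?_⟩
    · rw [← hgP, ← h, inv_smul_smul]
    · have := h.smul g⁻¹
      rwa [hgP, inv_smul_smul] at this
  · rintro R ⟨h1, h2⟩
    rw [stabilizer_relIndex_sylow]
    obtain ⟨k, hk⟩ := P.isPGroup'.index ((R : Subgroup G).subgroupOf (P : Subgroup G))
    unfold SylAdj at h2
    rw [relIndex, hk] at h2 ⊢
    refine pow_dvd_pow p ?_
    rcases k with _ | _ | k
    · exfalso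
      rw [pow_zero] at hk
      have : (P : Subgroup G) ≤ R := relIndex_eq_one.1 hk
      exact h1 (Sylow.ext (P.is_maximal' R.isPGroup' this))
    · exact absurd (pow_one p) h2
    · omega

theorem card_sylow_eq_add [Finite G] {p : ℕ} [hp : Fact p.Prime] (P : Sylow p G) :
    Nat.card (Sylow p G) = 1 + {R | SylAdj P R}.ncard + {R | R ≠ P ∧ ¬ SylAdj P R}.ncard := by
  rw [← Set.ncard_univ, ← Set.ncard_singleton P, ← Set.ncard_union_eq, ← Set.ncard_union_eq]
  · congr 1
    ext R
    simp only [Set.mem_univ, Set.mem_union, Set.mem_singleton_iff, Set.mem_ofPred_eq, true_iff]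
    tauto
  · rw [Set.disjoint_left]
    rintro R (rfl | h) ⟨h1, h2⟩
    · exact h1 rfl
    · exact h2 h
  · rw [Set.disjoint_left]
    rintro R rfl h
    exact SylAdj.ne h rfl

/-- The number of Sylow subgroups containing a given `p`-subgroup is `1` mod `p`. -/
theorem ncard_sylow_ge_modEq_one [Finite G] {p : ℕ} [hp : Fact p.Prime] {D : Subgroup G}
    (hD : IsPGroup p D) : {R : Sylow p G | D ≤ R}.ncard ≡ 1 [MOD p] := by
  have h1 := hD.card_modEq_card_fixedPoints (Sylow p G)
  have h2 : fixedPoints D (Sylow p G) = {R : Sylow p G | D ≤ R} := by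
    ext R; exact hD.sylow_mem_fixedPoints_iff
  rw [h2, Nat.card_coe_set_eq] at h1
  exact h1.symm.trans (card_sylow_modEq_one p G)

/-- If some Sylow subgroup is adjacent to all the others (and there are others) then
`O_p(G)` has index `p` in it. -/
theorem card_pCore_mul_of_forall_sylAdj [Finite G] {p : ℕ} [hp : Fact p.Prime] {P Q : Sylow p G}
    (hPQ : P ≠ Q) (h : ∀ P R : Sylow p G, P ≠ R → SylAdj P R) :
    Nat.card (pCore p G) * p = Nat.card (P : Subgroup G) := by
  have h1 : pCore p G = (P : Subgroup G) ⊓ (Q : Subgroup G) := by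
    refine le_antisymm (le_inf (L.pCore_le_sylow P) (L.pCore_le_sylow Q)) fun d hd => ?_
    rw [L.mem_pCore_iff]
    intro R
    by_cases h1 : R = P
    · subst h1; exact (mem_inf.1 hd).1
    by_cases h2 : R = Q
    · subst h2; exact (mem_inf.1 hd).2
    exact (h P Q hPQ).inf_le (h R P h1) (h R Q h2) hd
  rw [h1]
  exact sylAdj_iff.1 (h P Q hPQ)

theorem forall_sylAdj_of_lt [Finite G] {p : ℕ} [hp : Fact p.Prime]
    (hn : Nat.card (Sylow p G) ≤ p ^ 2) (P R : Sylow p G) (hne : P ≠ R) : SylAdj P R := by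
  have h1 := sq_dvd_ncard_not_sylAdj P
  have h2 := card_sylow_eq_add P
  have h3 := Nat.eq_zero_of_dvd_of_lt h1 (by omega)
  rw [Set.ncard_eq_zero] at h3
  by_contra h
  have : R ∈ {R | R ≠ P ∧ ¬ SylAdj P R} := ⟨hne.symm, h⟩
  rw [h3] at this
  exact this

theorem pCore_eq_bot_of_simple [Finite G] [IsSimpleGroup G] (hG : ¬ IsMulCommutative G) (p : ℕ)
    [hp : Fact p.Prime] : pCore p G = ⊥ := by
  have hn : (pCore p G).Normal := by
    have := L.pCore_characteristic (G := G) hp.out
    infer_instance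
  rcases IsSimpleGroup.eq_bot_or_eq_top_of_normal (pCore p G) hn with hk | hk
  · exact hk
  · exfalso
    have h1 := L.isPGroup_pCore (G := G) p
    rw [hk] at h1
    have := H1.isSolvable_of_isPGroup (h1.of_equiv topEquiv)
    exact hG ⟨⟨IsSimpleGroup.comm_iff_isSolvable.2 this⟩⟩

theorem card_sylow_ne_one_of_simple [Finite G] [IsSimpleGroup G] (hG : ¬ IsMulCommutative G)
    {p : ℕ} [hp : Fact p.Prime] (hd : p ∣ Nat.card G) : Nat.card (Sylow p G) ≠ 1 := by
  intro h
  obtain ⟨P⟩ : Nonempty (Sylow p G) := inferInstance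
  have : Subsingleton (Sylow p G) := (Nat.card_eq_one_iff_unique.1 h).1
  have h1 : (P : Subgroup G) ≤ pCore p G := by
    intro x hx
    rw [L.mem_pCore_iff]
    intro R
    rw [Subsingleton.elim R P]
    exact hx
  rw [pCore_eq_bot_of_simple hG, le_bot_iff] at h1
  have h2 := P.not_dvd_index
  rw [h1, index_bot] at h2
  exact h2 hd

/-- A nonabelian simple group with at most `p²` Sylow `p`-subgroups has Sylow `p`-subgroups of
order `p`. -/
theorem card_sylow_eq_prime_of_le_sq [Finite G] [IsSimpleGroup G] (hG : ¬ IsMulCommutative G)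
    {p : ℕ} [hp : Fact p.Prime] (hd : p ∣ Nat.card G) (hn : Nat.card (Sylow p G) ≤ p ^ 2)
    (P : Sylow p G) : Nat.card P = p := by
  have h1 := card_sylow_ne_one_of_simple hG hd
  have : Nontrivial (Sylow p G) := by
    by_contra h
    rw [not_nontrivial_iff_subsingleton] at h
    exact h1 (Nat.card_eq_one_iff_unique.2 ⟨h, inferInstance⟩)
  obtain ⟨Q, hQ⟩ := exists_ne P
  have := card_pCore_mul_of_forall_sylAdj hQ.symm (forall_sylAdj_of_lt hn)
  rw [pCore_eq_bot_of_simple hG, card_bot, one_mul] at this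
  exact this.symm

/-- Reduction to simple groups: if `n` is a Sylow number whose prime-power parts are not all `1`
mod `p` in any proper way, then it is a Sylow number of a nonabelian simple group. -/
theorem exists_simple_of_card_sylow.{u} {G : Type u} [Group G] [Finite G] {p n : ℕ} [hp : Fact p.Prime]
    (hn : Nat.card (Sylow p G) = n) (h1 : n ≠ 1)
    (hm : ∀ m, m ∣ n → PartsOne p m → m = 1)
    (hx : ∀ x, x ∣ n → x ≡ 1 [MOD p] → x = 1 ∨ x = n) :
    ∃ (S : Type u) (_ : Group S) (_ : Finite S), IsSimpleGroup S ∧ ¬ IsMulCommutative S ∧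
      Nat.card (Sylow p S) = n ∧ Nat.card S ∣ Nat.card G ∧
      (Group.IsSolvable G → Group.IsSolvable S) := by
  obtain ⟨m, l, hm1, hml, hl⟩ := exists_card_sylow_factorization p G
  rw [hn] at hml
  have := hm m (Dvd.intro _ hml) hm1
  subst this
  rw [one_mul] at hml
  by_contra hne
  apply h1
  rw [← hml]
  refine List.prod_eq_one fun x hxl => ?_
  obtain ⟨S, _, _, hS, hS', hxS, hd, hsol⟩ := hl x hxl
  rcases hx x (hml ▸ List.dvd_prod hxl) (hxS ▸ card_sylow_modEq_one p S) with h | h
  · exact h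
  · exact absurd ⟨S, _, inferInstance, hS, hS', hxS.symm.trans h, hd, hsol⟩ hne

end Cfsg.Agent.H9
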