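import Cfsg.Agent.H9.FitRank
import Cfsg.Agent.H9.FpfRed
import Cfsg.Agent.H9.KP1

/-! Towers: being a `p`-group modulo a subgroup, and the choice of invariant tower steps. -/

set_option autoImplicit false
open Subgroup Cfsg
open scoped commutatorElement

namespace Cfsg.Agent.H9

variable {X : Type*} [Group X]

/-- `H` is a `p`-group modulo `M`. -/
def PMod (p : ℕ) (H M : Subgroup X) : Prop := ∀ y ∈ H, ∃ e : ℕ, y ^ p ^ e ∈ M

theorem PMod.mono {p : ℕ} {H H' M M' : Subgroup X} (h : PMod p H M) (hH : H' ≤ H) (hM : M ≤ M') :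
    PMod p H' M' := fun y hy => (h y (hH hy)).imp fun _ he => hM he

theorem pmod_of_le {p : ℕ} {H M : Subgroup X} (h : H ≤ M) : PMod p H M :=
  fun _ hy => ⟨0, by simpa using h hy⟩

theorem mem_of_pow_mem_of_coprime [Finite X] {M : Subgroup X} {y : X} {n : ℕ} (h : y ^ n ∈ M)
    (hc : (orderOf y).Coprime n) : y ∈ M :=
  zpowers_le.mpr h (mem_zpowers_pow_iff.mpr hc.symm)

theorem PMod.mem [Finite X] {p : ℕ} {H M : Subgroup X} (h : PMod p H M) {y : X} (hy : y ∈ H)
    (hc : (orderOf y).Coprime p) : y ∈ M := by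
  obtain ⟨e, he⟩ := h y hy
  exact mem_of_pow_mem_of_coprime he (hc.pow_right e)

theorem coprime_orderOf_of_isPGroup {p q : ℕ} (hp : p.Prime) (hq : q.Prime) (hqp : q ≠ p)
    {Q : Subgroup X} (hQ : IsPGroup q Q) {y : X} (hy : y ∈ Q) : (orderOf y).Coprime p := by
  obtain ⟨e, he⟩ := hQ ⟨y, hy⟩
  have : y ^ q ^ e = 1 := congrArg Subtype.val he
  exact (((Nat.coprime_primes hq hp).mpr hqp).pow_left e).coprime_dvd_left
    (orderOf_dvd_of_pow_eq_one this)

theorem PMod.le_of_isPGroup [Finite X] {p q : ℕ} {H M Q : Subgroup X} (h : PMod p H M)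
    (hp : p.Prime) (hq : q.Prime) (hqp : q ≠ p) (hQ : IsPGroup q Q) (hQH : Q ≤ H) : Q ≤ M :=
  fun _ hy => h.mem (hQH hy) (coprime_orderOf_of_isPGroup hp hq hqp hQ hy)

theorem pmod_of_coprime [Finite X] {p : ℕ} (hp : p.Prime) {H M : Subgroup X}
    (h : ∀ y ∈ H, (orderOf y).Coprime p → y ∈ M) : PMod p H M := by
  intro y hy
  obtain ⟨e, m, hm, he⟩ := Nat.exists_eq_pow_mul_and_not_dvd (orderOf_pos y).ne' p hp.ne_one
  refine ⟨e, h _ (pow_mem hy _) ?_⟩
  refine ((Nat.Prime.coprime_iff_not_dvd hp).mpr hm).symm.coprime_dvd_left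
    (orderOf_dvd_of_pow_eq_one ?_)
  rw [← pow_mul, ← he, pow_orderOf_eq_one]

theorem pmod_of_forall_isPGroup [Finite X] {p : ℕ} (hp : p.Prime) {H M : Subgroup X}
    (h : ∀ q : ℕ, q.Prime → q ≠ p → ∀ Q ≤ H, IsPGroup q Q → Q ≤ M) : PMod p H M := by
  refine pmod_of_coprime hp fun y hy hc => zpowers_le.mp
    (H1.le_of_forall_isPGroup_le fun q hq Q hQ hQq _ => ?_)
  by_cases hqp : q = p
  · subst hqp
    intro x hx
    rw [H1.eq_one_of_mem_of_isPGroup hQq hx (hc.coprime_dvd_left (orderOf_dvd_of_mem_zpowers (hQ hx)))]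
    exact one_mem _
  · exact h q hq hqp Q (hQ.trans (zpowers_le.mpr hy)) hQq

theorem pmod_ker_iff {Y : Type*} [Group Y] (f : X →* Y) {p : ℕ} {H : Subgroup X} :
    PMod p H f.ker ↔ IsPGroup p (H.map f) := by
  constructor
  · rintro h ⟨_, y, hy, rfl⟩
    obtain ⟨e, he⟩ := h y hy
    exact ⟨e, Subtype.ext (by simpa using he)⟩
  · intro h y hy
    obtain ⟨e, he⟩ := h ⟨f y, y, hy, rfl⟩
    exact ⟨e, by simpa using congrArg Subtype.val he⟩

theorem pmod_bot_iff {p : ℕ} {H : Subgroup X} : PMod p H ⊥ ↔ IsPGroup p H :=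
  ⟨fun h y => (h y y.2).imp fun _ he => Subtype.ext he,
    fun h y hy => (h ⟨y, hy⟩).imp fun _ he => mem_bot.mpr (congrArg Subtype.val he)⟩

theorem PMod.map {Y : Type*} [Group Y] (f : X →* Y) {p : ℕ} {H M : Subgroup X} (h : PMod p H M) :
    PMod p (H.map f) (M.map f) := by
  rintro _ ⟨y, hy, rfl⟩
  obtain ⟨e, he⟩ := h y hy
  exact ⟨e, y ^ p ^ e, he, map_pow f _ _⟩

theorem PMod.comap {Y : Type*} [Group Y] (f : X →* Y) {p : ℕ} {H : Subgroup X} {M : Subgroup Y}
    (h : PMod p (H.map f) M) : PMod p H (M.comap f) := by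
  intro y hy
  obtain ⟨e, he⟩ := h (f y) ⟨y, hy, rfl⟩
  exact ⟨e, by rwa [mem_comap, map_pow]⟩

theorem PMod.nres_le [Finite X] {p : ℕ} (hp : p.Prime) {H M : Subgroup X} (h : PMod p H M)
    (hn : H ≤ normalizer (M : Set X)) : nres H ≤ M := by
  haveI := Fact.mk hp
  haveI := H1.normal_subgroupOf_of_le hn
  have h1 : IsPGroup p ((⊤ : Subgroup H).map (QuotientGroup.mk' (M.subgroupOf H))) := by
    rw [← pmod_ker_iff, QuotientGroup.ker_mk']
    exact fun y _ => h y y.2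
  have h2 := nres_le_iff_nilpotent.mpr h1.isNilpotent
  have h3 : (nres (⊤ : Subgroup H)).map H.subtype = nres H := by
    rw [map_nres, ← MonoidHom.range_eq_map, range_subtype]
  rw [← h3]
  exact map_le_iff_le_comap.mpr h2

theorem commutator_sup_le_of_normal {A B H : Subgroup X} [A.Normal] [B.Normal] [H.Normal] :
    ⁅A ⊔ B, H⁆ ≤ ⁅A, H⁆ ⊔ B := by
  rw [commutator_comm]
  refine H1.commutator_sup_le (le_normalizer_of_normal _ _) (le_normalizer_of_normal _ _) ?_ ?_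
  · rw [commutator_comm]; exact le_sup_left
  · exact (commutator_le_right _ _).trans le_sup_right

theorem le_sup_of_isNilpotent [Finite X] {q : ℕ} (hq : q.Prime) {R : Subgroup X} [R.Normal]
    (hR : Group.IsNilpotent R) : R ≤ (pCore q X ⊓ R) ⊔ pPrimeCore q X := by
  have h1 := map_mono (f := R.subtype) (L.fittingSubgroup_le_sup (G := R) hq)
  rw [L.fittingSubgroup_eq_top_iff.mpr hR, ← MonoidHom.range_eq_map, range_subtype,
    Subgroup.map_sup, L.map_subtype_pCore hq, L.map_subtype_pPrimeCore hq] at h1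
  exact h1.trans (sup_le_sup_left inf_le_left _)

theorem exists_tower_normal [Finite X] {G M A : Subgroup X} [G.Normal] [M.Normal]
    (hG : Group.IsSolvable G) (hcop : (Nat.card A).Coprime (Nat.card G)) {p : ℕ} (hp : p.Prime)
    {m : ℕ} (h : ¬ PMod p (res (m + 1) G) M) :
    ∃ q : ℕ, q.Prime ∧ q ≠ p ∧ ∃ T₀ G' : Subgroup X, G' ≤ G ∧ T₀ ≤ G' ∧ IsPGroup q T₀ ∧
      G' ≤ normalizer (T₀ : Set X) ∧ A ≤ normalizer (T₀ : Set X) ∧
      A ≤ normalizer (G' : Set X) ∧ ⁅T₀, res m G'⁆ = T₀ ∧ ¬ T₀ ≤ M := by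
  classical
  obtain ⟨j, hmj, hj, hj'⟩ : ∃ j, m ≤ j ∧ ¬ PMod p (res (j + 1) G) M ∧
      PMod p (res (j + 2) G) M := by
    obtain ⟨n, hn⟩ := L.exists_fitLE G hG
    have hex : ∃ i, PMod p (res (m + 1 + i) G) M := ⟨n, pmod_of_le
      ((res_antitone G (by omega : n ≤ m + 1 + n)).trans ((res_eq_bot_iff.mpr hn).le.trans bot_le))⟩
    have h0 : Nat.find hex ≠ 0 := fun h0 => h (by simpa [h0] using Nat.find_spec hex)
    obtain ⟨i, hi⟩ := Nat.exists_eq_succ_of_ne_zero h0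
    refine ⟨m + i, Nat.le_add_right _ _, ?_, ?_⟩
    · have := Nat.find_min hex (m := i) (by omega)
      rwa [show m + 1 + i = m + i + 1 by omega] at this
    · have := Nat.find_spec hex
      rwa [hi, show m + 1 + i.succ = m + i + 2 by omega] at this
  set P := res (j + 2) G ⊔ M with hP
  set f := QuotientGroup.mk' P with hf
  have hfs : Function.Surjective f := QuotientGroup.mk'_surjective P
  have hPM : PMod p P M := by
    have := (pmod_ker_iff (QuotientGroup.mk' M) (p := p) (H := P)).mpr (by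
      rw [hP, Subgroup.map_sup, QuotientGroup.map_mk'_self, sup_bot_eq, ← pmod_ker_iff,
        QuotientGroup.ker_mk']
      exact hj')
    rwa [QuotientGroup.ker_mk'] at this
  obtain ⟨y, hy, hyc, hyM⟩ : ∃ y ∈ res (j + 1) G, (orderOf y).Coprime p ∧ y ∉ M := by
    by_contra hc
    push Not at hc
    exact hj (pmod_of_coprime hp hc)
  have hy1 : f y ≠ 1 := fun h1 => hyM (hPM.mem ((QuotientGroup.eq_one_iff y).mp h1) hyc)
  haveI hRn : ((res (j + 1) G).map f).Normal := Normal.map inferInstance _ hfs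
  haveI hHn : ((res j G).map f).Normal := Normal.map inferInstance _ hfs
  have hRnil : Group.IsNilpotent ((res (j + 1) G).map f) :=
    nres_le_iff_nilpotent.mp le_sup_left
  obtain ⟨q, hq, hqd⟩ := Nat.exists_prime_and_dvd (fun h1 => hy1 (orderOf_eq_one_iff.mp h1))
  haveI := Fact.mk hq
  have hqp : q ≠ p := by
    rintro rfl
    exact hq.one_lt.ne' ((Nat.coprime_self q).mp
      (hyc.coprime_dvd_left (hqd.trans (orderOf_map_dvd f y))))
  set D := pCore q (X ⧸ P) ⊓ (res (j + 1) G).map f with hD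
  have hD1 : D ≠ ⊥ := by
    obtain ⟨c, hc⟩ := hqd
    have hz : (f y ^ c) ^ q ^ 1 = 1 := by rw [pow_one, ← pow_mul, mul_comm, ← hc, pow_orderOf_eq_one]
    have hzR : f y ^ c ∈ (res (j + 1) G).map f := pow_mem (mem_map_of_mem f hy) c
    have hzD : f y ^ c ∈ D := ⟨L.mem_pCore_of_mem_fittingSubgroup hq hz
      (L.le_fittingSubgroup hRn hRnil hzR), hzR⟩
    intro hb
    rw [hb, mem_bot] at hzD
    have h1 := Nat.le_of_dvd (Nat.pos_of_ne_zero (by
      rintro rfl; exact (orderOf_pos (f y)).ne' (by simpa using hc))) (orderOf_dvd_of_pow_eq_one hzD)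
    have h2 := orderOf_pos (f y)
    rw [hc] at h1 h2
    have := hq.two_le
    nlinarith [Nat.pos_of_mul_pos_left h2]
  have hDD : D ≤ ⁅D, (res j G).map f⁆ := by
    have h1 : (res (j + 1) G).map f ≤ ⁅D, (res j G).map f⁆ ⊔ pPrimeCore q (X ⧸ P) := by
      calc (res (j + 1) G).map f = ⁅(res (j + 1) G).map f, (res j G).map f⁆ := by
            rw [← map_commutator]; exact congrArg _ (commutator_nres (res j G)).symm
        _ ≤ ⁅D ⊔ pPrimeCore q (X ⧸ P), (res j G).map f⁆ :=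
            commutator_mono (le_sup_of_isNilpotent hq hRnil) le_rfl
        _ ≤ _ := commutator_sup_le_of_normal
    have h2 := H1.dedekind_left (A := ⁅D, (res j G).map f⁆) (N := pPrimeCore q (X ⧸ P)) (S := D)
      (le_normalizer_of_normal _ _) (commutator_le_left _ _)
    have h3 : D ⊓ pPrimeCore q (X ⧸ P) = ⊥ :=
      le_bot_iff.mp ((inf_le_inf_right _ inf_le_left).trans (L.pCore_inf_pPrimeCore hq).le)
    rw [h3, sup_bot_eq] at h2
    exact h2 ▸ le_inf le_rfl (inf_le_right.trans h1)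
  obtain ⟨T, hTG, hT, hAT, hTf, hG'⟩ := exists_lift f (A := A) (H := G)
    (le_normalizer_of_normal _ _) hcop (Or.inr hG) (p := q) (R' := D)
    (inf_le_right.trans (map_mono (res_le _ _))) ((L.isPGroup_pCore q).to_le inf_le_left)
    (le_normalizer_of_normal _ _)
  replace hG' := hG' (le_normalizer_of_normal _ _)
  set G' := G ⊓ normalizer (T : Set X) with hG'd
  have hAG' : A ≤ normalizer (G' : Set X) :=
    H1.le_normalizer_inf (le_normalizer_of_normal _ _) (H1.le_normalizer_normalizer hAT)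
  obtain ⟨T₀, ⟨h1, h2, h3⟩, hmin⟩ := (wellFounded_lt (α := Subgroup X)).has_min
    {U | U ≤ T ∧ G' ⊔ A ≤ normalizer (U : Set X) ∧ U.map f = D}
    ⟨T, le_rfl, sup_le inf_le_right hAT, hTf⟩
  have hY : G' ⊔ A ≤ normalizer (res m G' : Set X) :=
    le_normalizer_res m (sup_le le_normalizer hAG')
  have hle : ⁅T₀, res m G'⁆ ≤ T₀ :=
    H1.commutator_le_of_le_normalizer ((res_le _ _).trans (le_sup_left.trans h2))
  refine ⟨q, hq, hqp, T₀, G', inf_le_left, h1.trans (le_inf hTG le_normalizer), hT.to_le h1,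
    le_sup_left.trans h2, le_sup_right.trans h2, hAG', ?_, fun hM => hD1 ?_⟩
  · by_contra hne
    refine hmin _ ⟨hle.trans h1, H1.le_normalizer_commutator h2 hY, ?_⟩ (lt_of_le_of_ne hle hne)
    rw [map_commutator, h3, map_res, hG', ← map_res]
    exact le_antisymm (commutator_le_left _ _)
      (hDD.trans (commutator_mono le_rfl (map_mono (res_antitone G hmj))))
  · rw [← h3, Subgroup.map_eq_bot_iff, QuotientGroup.ker_mk']
    exact hM.trans le_sup_right

theorem map_subtype_subgroupOf {L H : Subgroup X} (h : H ≤ L) :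
    (H.subgroupOf L).map L.subtype = H := by
  rw [subgroupOf_map_subtype, inf_eq_left.mpr h]

theorem map_le_normalizer_map {Y : Type*} [Group Y] (f : X →* Y) {H K : Subgroup X}
    (h : H ≤ normalizer (K : Set X)) : H.map f ≤ normalizer ((K.map f : Subgroup Y) : Set Y) :=
  (map_mono h).trans (le_normalizer_map f)

theorem exists_tower [Finite X] {G M A : Subgroup X} (hG : Group.IsSolvable G)
    (hAG : A ≤ normalizer (G : Set X)) (hGM : G ≤ normalizer (M : Set X))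
    (hAM : A ≤ normalizer (M : Set X)) (hcop : (Nat.card A).Coprime (Nat.card G)) {p : ℕ}
    (hp : p.Prime) {m : ℕ} (h : ¬ PMod p (res (m + 1) G) M) :
    ∃ q : ℕ, q.Prime ∧ q ≠ p ∧ ∃ T₀ G' : Subgroup X, G' ≤ G ∧ T₀ ≤ G' ∧ IsPGroup q T₀ ∧
      G' ≤ normalizer (T₀ : Set X) ∧ A ≤ normalizer (T₀ : Set X) ∧
      A ≤ normalizer (G' : Set X) ∧ ⁅T₀, res m G'⁆ = T₀ ∧ ¬ T₀ ≤ M := by
  set L := G ⊔ A with hL
  haveI := H1.normal_subgroupOf_of_le (Y := L) (N := G) (sup_le le_normalizer hAG)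
  haveI := H1.normal_subgroupOf_of_le (Y := L) (N := M) (sup_le hGM hAM)
  have hGL : G ≤ L := le_sup_left
  have hAL : A ≤ L := le_sup_right
  obtain ⟨q, hq, hqp, T₀, G', h1, h2, h3, h4, h5, h6, h7, h8⟩ := exists_tower_normal
    (G := G.subgroupOf L) (M := M.subgroupOf L) (A := A.subgroupOf L)
    (Cfsg.Agent.L.isSolvable_of_mulEquiv (subgroupOfEquivOfLe hGL).symm)
    (by rwa [card_subgroupOf hAL, card_subgroupOf hGL]) hp (m := m) fun hc => h (by
      have := hc.map L.subtype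
      rw [map_res, map_subtype_subgroupOf hGL] at this
      exact this.mono le_rfl ((subgroupOf_map_subtype M L).le.trans inf_le_left))
  refine ⟨q, hq, hqp, T₀.map L.subtype, G'.map L.subtype, ?_, map_mono h2, h3.map _,
    map_le_normalizer_map _ h4, ?_, ?_, ?_, fun h => h8 (map_le_iff_le_comap.mp h)⟩
  · exact (map_mono h1).trans (map_subtype_subgroupOf hGL).le
  · rw [← map_subtype_subgroupOf hAL]; exact map_le_normalizer_map _ h5
  · rw [← map_subtype_subgroupOf hAL]; exact map_le_normalizer_map _ h6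
  · rw [← map_res, ← map_commutator, h7]

/-- A minimal configuration: `T₀ ≤ res n G` acts non-trivially on the `p`-group `T`. -/
structure TCfg (p q n : ℕ) (A G T₀ T : Subgroup X) : Prop where
  hq : q.Prime
  hqp : q ≠ p
  T₀res : T₀ ≤ res n G
  T₀q : IsPGroup q T₀
  GT₀ : G ≤ normalizer (T₀ : Set X)
  AT₀ : A ≤ normalizer (T₀ : Set X)
  AG : A ≤ normalizer (G : Set X)
  comm₀ : ∀ m, n = m + 1 → ⁅T₀, res m G⁆ = T₀
  Tp : IsPGroup p T
  GT : G ≤ normalizer (T : Set X)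
  AT : A ≤ normalizer (T : Set X)
  ne : T ≠ ⊥
  comm : ⁅T, T₀⁆ = T
  c2 : ⁅T, T⁆ ≤ centralizer (T : Set X)
  cent : T₀ ≤ centralizer ((⁅T, T⁆ : Subgroup X) : Set X)
  pow : ∀ x ∈ T, x ^ p ∈ ⁅T, T⁆
  cle : T ⊓ centralizer (T₀ : Set X) ≤ ⁅T, T⁆
  zle : ⁅T, T⁆ ≠ ⊥ → T ⊓ centralizer (T : Set X) ≤ ⁅T, T⁆

theorem exists_tcfg [Finite X] {G A T : Subgroup X} (hG : Group.IsSolvable G)
    (hAG : A ≤ normalizer (G : Set X)) (hcop : (Nat.card A).Coprime (Nat.card G)) {p : ℕ}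
    (hp : p.Prime) (hT : IsPGroup p T) (hGT : G ≤ normalizer (T : Set X))
    (hAT : A ≤ normalizer (T : Set X)) {n : ℕ}
    (h : ¬ PMod p (res n G) (centralizer (T : Set X))) :
    ∃ q G' T₀ T', G' ≤ G ∧ T' ≤ T ∧ TCfg p q n A G' T₀ T' := by
  haveI := Fact.mk hp
  obtain ⟨q, hq, hqp, T₀, G', h1, h2, h3, h4, h5, h6, h7, h8, h9⟩ :
      ∃ q : ℕ, q.Prime ∧ q ≠ p ∧ ∃ T₀ G' : Subgroup X, G' ≤ G ∧ T₀ ≤ G' ∧ IsPGroup q T₀ ∧
      G' ≤ normalizer (T₀ : Set X) ∧ A ≤ normalizer (T₀ : Set X) ∧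
      A ≤ normalizer (G' : Set X) ∧ T₀ ≤ res n G' ∧ (∀ m, n = m + 1 → ⁅T₀, res m G'⁆ = T₀) ∧
      ¬ T₀ ≤ centralizer (T : Set X) := by
    rcases n with _ | m
    · obtain ⟨q, hq, hqp, Q, hQ, hQq, hQT⟩ : ∃ q : ℕ, q.Prime ∧ q ≠ p ∧ ∃ Q ≤ G, IsPGroup q Q ∧
          ¬ Q ≤ centralizer (T : Set X) := by
        by_contra hc
        push Not at hc
        exact h (pmod_of_forall_isPGroup hp hc)
      haveI := Fact.mk hq
      obtain ⟨P, hPG, hP, hPi, hAP⟩ := H1.exists_invariant_sylow hAG hcop (Or.inr hG) q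
      refine ⟨q, hq, hqp, P, P, hPG, le_rfl, hP, le_normalizer, hAP, hAP, le_rfl,
        fun m hm => by omega, fun hc => hQT ?_⟩
      obtain ⟨g, hg, hgQ⟩ := H1.exists_conj_le_sylow hP hPi hQ hQq
      intro x hx
      have h1 := hc (hgQ ⟨x, hx, rfl⟩)
      have h2 := H1.conj_mem_of_le_normalizer' (H1.le_normalizer_centralizer hGT) hg h1
      simpa [mul_assoc] using h2
    · obtain ⟨q, hq, hqp, T₀, G', h1, h2, h3, h4, h5, h6, h7, h8⟩ := exists_tower hG hAG
        (H1.le_normalizer_centralizer hGT) (H1.le_normalizer_centralizer hAT) hcop hp h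
      refine ⟨q, hq, hqp, T₀, G', h1, h2, h3, h4, h5, h6, ?_, fun m' hm => ?_, h8⟩
      · refine le_nres_of_commutator ?_ h7.ge
        rw [← h7, commutator_comm]
        exact H1.commutator_le_of_le_normalizer (h2.trans (self_le_normalizer_res m G'))
      · obtain rfl : m = m' := by omega
        exact h7
  haveI := Fact.mk hq
  obtain ⟨T', hT'T, hB, hnt, hmin⟩ := H1.exists_minimal_nontrivial (B := G' ⊔ A) (A := T₀) (P := T)
    (sup_le (h1.trans hGT) hAT) fun hc => h9 (H1.commutator_eq_bot_iff_le_centralizer'.mp hc)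
  have hT' := hT.to_le hT'T
  have hAB : T₀ ≤ G' ⊔ A := h2.trans le_sup_left
  have hBA : G' ⊔ A ≤ normalizer (T₀ : Set X) := sup_le h4 h5
  have hAp : (Nat.card T₀).Coprime p := by
    obtain ⟨e, he⟩ := IsPGroup.iff_card.mp h3
    rw [he]
    exact ((Nat.coprime_primes hq hp).mpr hqp).pow_left e
  have hfr := H1.minimal_frattini_eq hT' hB hAB hBA hAp hnt hmin
  refine ⟨q, G', T₀, T', h1, hT'T, hq, hqp, h7, h3, h4, h5, h6, h8, hT', le_sup_left.trans hB,
    le_sup_right.trans hB, fun hb => hnt (by rw [hb, commutator_bot_left]),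
    H1.minimal_commutator_eq hT' hB hAB hBA hAp hnt hmin,
    H1.minimal_class_two hT' hB hAB hBA hAp hnt hmin, ?_, fun x hx => ?_,
    H1.minimal_centralizer_le hT' hB hAB hBA hAp hnt hmin, fun hne => ?_⟩
  · rw [← H1.commutator_eq_bot_iff_le_centralizer', ← hfr]
    exact H1.minimal_frattini_commutator hB hnt hmin
  · rw [← hfr]; exact H1.pow_mem_frattiniOf hT' hx
  · refine H1.minimal_le_commutator hT' hB hAB hBA hAp hnt hmin
      (lt_of_le_of_ne inf_le_left fun he => hne ?_) (H1.le_normalizer_inf hB (H1.le_normalizer_centralizer hB))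
    exact H1.commutator_eq_bot_iff_le_centralizer'.mpr (he.ge.trans inf_le_right)

end Cfsg.Agent.H9
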