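import Cfsg.Agent.H9.Tur1
import Cfsg.Agent.H1.RepFix

/-! An operator commuting with `σ` and trivial on its fixed vectors, in the critical case. -/

set_option autoImplicit false
open Subgroup Module Cfsg
open scoped commutatorElement

namespace Cfsg.Agent.H9

section Arith

variable {ι : Type*} {s : Finset ι} {m : ι → ℕ} {h d : ℕ}

theorem le_succ_of_sum_sq_le (hs : s.card = h) (hd : ∑ a ∈ s, m a = d)
    (hle : h * ∑ a ∈ s, m a ^ 2 + 1 ≤ d ^ 2 + h) {a b : ι} (ha : a ∈ s) (hb : b ∈ s) :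
    m b ≤ m a + 1 := by
  classical
  by_contra hc
  have hab : b ≠ a := by rintro rfl; omega
  have hb' : b ∈ s.erase a := Finset.mem_erase.mpr ⟨hab, hb⟩
  have h1 := sq_sum_le_card_mul_sum_sq (s := (s.erase a).erase b) (f := m)
  have h2 := Finset.card_erase_add_one hb'
  have h3 := Finset.card_erase_add_one ha
  rw [← Finset.add_sum_erase _ _ ha, ← Finset.add_sum_erase _ _ hb'] at hd hle
  simp only [Nat.cast_id] at h1
  generalize ((s.erase a).erase b).card = g at h1 h2
  generalize ∑ c ∈ (s.erase a).erase b, m c = R at h1 hd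
  generalize ∑ c ∈ (s.erase a).erase b, m c ^ 2 = Q at h1 hle
  obtain rfl : h = g + 2 := by omega
  obtain ⟨e, he⟩ : ∃ e, m b = m a + 2 + e := ⟨m b - (m a + 2), by omega⟩
  rw [he] at hd hle
  generalize m a = x at hd hle
  subst hd
  rcases Nat.eq_zero_or_pos g with rfl | hg
  · have : R = 0 := by simpa using h1
    subst this
    nlinarith
  · zify at h1 hle hg
    have h4 : (0 : ℤ) ≤ (g * (2 * x + 2 + e) - 2 * R) ^ 2 := sq_nonneg _
    have h5 := mul_le_mul_of_nonneg_left hle hg.le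
    have h6 := mul_le_mul_of_nonneg_left h1 (by positivity : (0 : ℤ) ≤ g + 2)
    have h7 : (0 : ℤ) ≤ g * (g + 2) * (e ^ 2 + 4 * e) := by positivity
    nlinarith

theorem succ_le_of_sum_sq_le (hs : s.card = h) (hd : ∑ a ∈ s, m a = d)
    (hle : h * ∑ a ∈ s, m a ^ 2 + 1 ≤ d ^ 2 + h) {a : ι} (ha : a ∈ s) :
    d + 1 ≤ h * (m a + 1) := by
  classical
  have h1 : ∑ c ∈ s.erase a, m c ≤ ∑ _c ∈ s.erase a, (m a + 1) := Finset.sum_le_sum fun c hc =>
    le_succ_of_sum_sq_le hs hd hle ha (Finset.mem_of_mem_erase hc)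
  have h3 := Finset.card_erase_add_one ha
  rw [← Finset.add_sum_erase _ _ ha] at hd
  rw [Finset.sum_const, smul_eq_mul] at h1
  rw [← hs, ← h3]
  nlinarith

theorem le_one_of_two_zeros (hs : s.card = h) (hd : ∑ a ∈ s, m a = d)
    (hle : h * ∑ a ∈ s, m a ^ 2 + 1 ≤ d ^ 2 + h) {a b : ι} (ha : a ∈ s) (hb : b ∈ s)
    (hab : b ≠ a) (ha0 : m a = 0) (hb0 : m b = 0) : d ≤ 1 := by
  classical
  have hb' : b ∈ s.erase a := Finset.mem_erase.mpr ⟨hab, hb⟩
  have h1 : ∑ c ∈ (s.erase a).erase b, m c ≤ ∑ _c ∈ (s.erase a).erase b, 1 :=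
    Finset.sum_le_sum fun c hc => by
      simpa [ha0] using le_succ_of_sum_sq_le hs hd hle ha
        (Finset.mem_of_mem_erase (Finset.mem_of_mem_erase hc))
  have h2 := Finset.card_erase_add_one hb'
  have h3 := Finset.card_erase_add_one ha
  have h4 : d ≤ ∑ a ∈ s, m a ^ 2 :=
    hd ▸ Finset.sum_le_sum fun c _ => Nat.le_self_pow two_ne_zero _
  rw [← Finset.add_sum_erase _ _ ha, ← Finset.add_sum_erase _ _ hb', ha0, hb0] at hd
  rw [Finset.sum_const, smul_eq_mul] at h1
  have h5 : d + 2 ≤ h := by omega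
  by_contra h6
  obtain ⟨e, rfl⟩ : ∃ e, d = e + 2 := ⟨d - 2, by omega⟩
  obtain ⟨f, rfl⟩ : ∃ f, h = e + 4 + f := ⟨h - (e + 4), by omega⟩
  nlinarith [Nat.mul_le_mul_left (e + 4 + f) h4]

end Arith

/-- Automorphisms preserving `D` and fixing `x` modulo `D`. -/
def fixMod {Q : Type*} [Group Q] (D : Subgroup Q) (x : Q) : Subgroup (MulAut Q) where
  carrier := {γ | (∀ z, γ z ∈ D ↔ z ∈ D) ∧ γ x * x⁻¹ ∈ D}
  one_mem' := ⟨fun _ => Iff.rfl, by simp⟩
  mul_mem' {γ δ} hγ hδ := ⟨fun z => (hγ.1 _).trans (hδ.1 z), by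
    have := D.mul_mem ((hγ.1 _).mpr hδ.2) hγ.2
    simpa [mul_assoc] using this⟩
  inv_mem' {γ} hγ := ⟨fun z => by rw [← hγ.1 (γ⁻¹ z)]; simp, by
    rw [← hγ.1]
    simpa using D.inv_mem hγ.2⟩

theorem free_of_coprime {Q : Type*} [Group Q] [Finite Q] {D : Subgroup Q} {α β : MulAut Q}
    (hαβ : Commute α β) {q r j : ℕ} (hq : q.Prime) (hr : r.Prime) (hqr : q ≠ r)
    (hα : α ^ q ^ (j + 1) = 1) (hβ : β ^ r = 1) (hαD : ∀ z, α z ∈ D ↔ z ∈ D)
    (hβD : ∀ z, β z ∈ D ↔ z ∈ D) (hfα : ∀ x, (α ^ q ^ j) x * x⁻¹ ∈ D → x ∈ D)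
    (hfβ : ∀ x, β x * x⁻¹ ∈ D → x ∈ D) (i : ℕ) (hi0 : 0 < i) (hi : i < q ^ (j + 1) * r) (x : Q)
    (hx : ((α * β) ^ i) x * x⁻¹ ∈ D) : x ∈ D := by
  have h1 : α * β ∈ fixMod D 1 := mul_mem ⟨hαD, by simp⟩ ⟨hβD, by simp⟩
  have h2 : (α * β) ^ i ∈ fixMod D x := ⟨(pow_mem h1 i).1, hx⟩
  have hc : (q ^ (j + 1)).Coprime r := ((Nat.coprime_primes hq hr).mpr hqr).pow_left _
  by_cases hri : r ∣ i
  · obtain ⟨i, rfl⟩ := hri
    rw [pow_mul, hαβ.mul_pow, hβ, mul_one] at h2
    have h3 := H1.pow_mem_of_pow_mem (fixMod D x) hq (a := α ^ r) (n := j)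
      (by rw [← pow_mul, mul_comm, pow_mul, hα, one_pow]) (Nat.pos_of_mul_pos_left hi0)
      (by rw [mul_comm] at hi; exact Nat.lt_of_mul_lt_mul_right hi) h2
    rw [← pow_mul, mul_comm, pow_mul] at h3
    refine hfα x (mem_of_pow_mem_of_coprime h3 (hc.coprime_dvd_left
      (orderOf_dvd_of_pow_eq_one ?_))).2
    rw [← pow_mul, mul_comm, pow_mul, hα, one_pow]
  · have h3 := pow_mem h2 (q ^ (j + 1))
    rw [← pow_mul, mul_comm i, pow_mul, hαβ.mul_pow, hα, one_mul, ← pow_mul] at h3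
    exact hfβ x (mem_of_pow_mem_of_coprime h3 ((Nat.Coprime.mul_right hc.symm
      ((Nat.Prime.coprime_iff_not_dvd hr).mpr hri)).coprime_dvd_left
        (orderOf_dvd_of_pow_eq_one hβ))).2

variable {k V : Type*} [Field k] [AddCommGroup V] [Module k V] [IsAlgClosed k]
  [FiniteDimensional k V]

theorem exists_mult' {h : ℕ} (hh : (h : k) ≠ 0) {Y : End k V} (hY : Y ^ h = 1)
    (C : Submodule k (End k V)) (hC : ∀ T : End k V, Y * T = T * Y → T ∈ C) :
    ∃ (b : Basis (Fin (finrank k V)) k V) (l : Fin (finrank k V) → k) (s : Finset k) (m : k → ℕ),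
      (∀ i, Y (b i) = l i • b i) ∧ (∀ i, l i ∈ s) ∧ s.card = h ∧ (1 : k) ∈ s ∧
      ∑ c ∈ s, m c = finrank k V ∧ ∑ c ∈ s, m c ^ 2 ≤ finrank k C ∧
      (∀ c, finrank k (LinearMap.ker (Y - c • 1)) ≤ m c) ∧
      (∀ c, m c ≠ 0 → ∃ i, l i = c) ∧ ∀ c, 1 < m c → ∃ i j, i ≠ j ∧ l i = c ∧ l j = c := by
  classical
  have h0 : 0 < h := Nat.pos_of_ne_zero (by rintro rfl; simp at hh)
  have : NeZero (h : k) := ⟨hh⟩
  obtain ⟨ζ, hζ⟩ := HasEnoughRootsOfUnity.exists_primitiveRoot k h
  obtain ⟨b, l, hb, hl⟩ := H1.exists_eigenbasis_of_pow_eq_one Y hh hY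
  let s := Polynomial.nthRootsFinset h (1 : k)
  let m : k → ℕ := fun μ => (Finset.univ.filter fun i => l i = μ).card
  have hmem : ∀ i, l i ∈ s := fun i => (Polynomial.mem_nthRootsFinset h0 1).mpr (hl i)
  have hd : ∑ μ ∈ s, m μ = finrank k V := by
    rw [← Finset.card_eq_sum_card_fiberwise (f := l) (fun i _ => hmem i)]
    simp
  let P : Finset (Fin (finrank k V) × Fin (finrank k V)) := Finset.univ.filter fun a => l a.1 = l a.2
  have hP : P.card = ∑ μ ∈ s, m μ ^ 2 := by
    rw [Finset.card_eq_sum_card_fiberwise (f := fun a => l a.1) (fun a _ => hmem a.1)]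
    refine Finset.sum_congr rfl fun μ _ => ?_
    rw [pow_two, ← Finset.card_product]
    congr 1
    ext a
    simp only [P, Finset.mem_filter, Finset.mem_univ, true_and, Finset.mem_product]
    constructor
    · rintro ⟨h1, h2⟩; exact ⟨h2, h1 ▸ h2⟩
    · rintro ⟨h1, h2⟩; exact ⟨h1.trans h2.symm, h1⟩
  have hPC : P.card ≤ finrank k C := by
    have hmemC : ∀ a : P, b.end a.1 ∈ C := by
      intro a
      refine hC _ (b.ext fun i => ?_)
      have ha : l a.1.1 = l a.1.2 := (Finset.mem_filter.mp a.2).2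
      rw [End.mul_apply, End.mul_apply, hb, map_smul, Basis.end_apply_apply]
      split_ifs with hi
      · rw [hb, ha, hi]
      · simp
    have hli : LinearIndependent k fun a : P => (⟨b.end a.1, hmemC a⟩ : C) :=
      LinearIndependent.of_comp C.subtype (b.end.linearIndependent.comp _ Subtype.val_injective)
    simpa using hli.fintype_card_le_finrank
  refine ⟨b, l, s, m, hb, hmem, hζ.card_nthRootsFinset,
    (Polynomial.mem_nthRootsFinset h0 1).mpr (one_pow h), hd, hP ▸ hPC, fun c => ?_,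
    fun c hc => ?_, fun c hc => ?_⟩
  · let F : Finset V := (Finset.univ.filter fun i => l i = c).image b
    have hF : finrank k (Submodule.span k (F : Set V)) ≤ m c :=
      (finrank_span_finset_le_card F).trans Finset.card_image_le
    refine le_trans (Submodule.finrank_mono (fun v hv => ?_)) hF
    rw [LinearMap.mem_ker, LinearMap.sub_apply, sub_eq_zero, LinearMap.smul_apply,
      End.one_apply] at hv
    rw [Finset.coe_image, Basis.mem_span_image]
    intro i hi
    have h1 : b.repr (Y v) i = l i * b.repr v i := by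
      conv_lhs => rw [← b.sum_repr v]
      simp only [map_sum, map_smul, hb, Basis.repr_self, Finsupp.coe_finsetSum, Finset.sum_apply,
        Finsupp.smul_apply, Finsupp.single_apply, smul_eq_mul]
      rw [Finset.sum_eq_single i (fun j _ hj => by simp [hj]) (by simp)]
      simp [mul_comm]
    rw [hv, map_smul, Finsupp.smul_apply, smul_eq_mul] at h1
    have h2 : b.repr v i ≠ 0 := Finsupp.mem_support_iff.mp hi
    simp only [Finset.coe_filter, Finset.mem_univ, true_and, Set.mem_ofPred_eq]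
    exact (mul_right_cancel₀ h2 h1).symm
  · obtain ⟨i, hi⟩ := Finset.card_ne_zero.mp hc
    exact ⟨i, (Finset.mem_filter.mp hi).2⟩
  · obtain ⟨i, hi, j, hj, hij⟩ := Finset.one_lt_card.mp hc
    exact ⟨i, j, hij, (Finset.mem_filter.mp hi).2, (Finset.mem_filter.mp hj).2⟩

theorem l2c_core {Q : Type*} [Group Q] [Finite Q] [Nontrivial V] {τ : Q →* End k V}
    (hirr : H1.IrrBy (Set.range τ)) (hcomm : _root_.commutator Q ≤ H1.scalarSub τ)
    (hQk : (Nat.card Q : k) ≠ 0) {α β : MulAut Q} {Y S : End k V}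
    (hcovY : ∀ x, Y * τ x = τ (α x) * Y) (hcovS : ∀ x, S * τ x = τ (β x) * S)
    (hYS : Commute Y S) (hαβ : Commute α β) {q r j : ℕ} (hq : q.Prime) (hr : r.Prime)
    (hqr : q ≠ r) (hrk : (r : k) ≠ 0) (hY : Y ^ q ^ (j + 1) = 1) (hS : S ^ r = 1)
    (hα : α ^ q ^ (j + 1) = 1) (hβ : β ^ r = 1)
    (hfα : ∀ x, (α ^ q ^ j) x * x⁻¹ ∈ H1.scalarSub τ → x ∈ H1.scalarSub τ)
    (hfβ : ∀ x, β x * x⁻¹ ∈ H1.scalarSub τ → x ∈ H1.scalarSub τ)
    (hns : H1.scalarSub τ ≠ ⊤) (hfix : ∀ v, S v = v → Y v = v) :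
    q ^ (j + 1) = 2 ∧ finrank k V + 1 ≤ 2 * r ∧ ∃ v, v ≠ 0 ∧ S v = v := by
  have hQ1 : 1 < q ^ (j + 1) := Nat.one_lt_pow (by omega) hq.one_lt
  have hc : (q ^ (j + 1)).Coprime r := ((Nat.coprime_primes hq hr).mpr hqr).pow_left _
  have hαD := fun z => H1.cov_mem_scalarSub_iff hcovY (by omega) hY (x := z)
  have hβD := fun z => H1.cov_mem_scalarSub_iff hcovS hr.pos hS (x := z)
  have hfree := free_of_coprime hαβ hq hr hqr hα hβ hαD hβD hfα hfβ
  have hcov : ∀ x, Y * S * τ x = τ ((α * β) x) * (Y * S) := fun x => by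
    rw [mul_assoc, hcovS, ← mul_assoc, hcovY, mul_assoc]; rfl
  have hG : (Y * S) ^ (q ^ (j + 1) * r) = 1 := by
    rw [hYS.mul_pow, pow_mul, hY, mul_comm, pow_mul, hS, one_pow, one_pow, mul_one]
  have hγ : (α * β) ^ (q ^ (j + 1) * r) = 1 := by
    rw [hαβ.mul_pow, pow_mul, hα, mul_comm, pow_mul, hβ, one_pow, one_pow, mul_one]
  have hD : ¬ finrank k V ≤ 1 := fun h => by
    have h1 := H1.finrank_sq_eq_index hirr hcomm
    have h2 : finrank k V = 1 := le_antisymm h finrank_pos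
    rw [h2] at h1
    exact hns (index_eq_one.mp h1.symm)
  by_cases hqk : (q : k) = 0
  · haveI := Fact.mk hq
    haveI : CharP k q := (CharP.charP_iff_prime_eq_zero hq).mpr hqk
    have hfreeβ : ∀ i, 0 < i → i < r → ∀ x, (β ^ i) x * x⁻¹ ∈ H1.scalarSub τ →
        x ∈ H1.scalarSub τ := fun i hi0 hi x hx => by
      have h1 : β ∈ fixMod (H1.scalarSub τ) 1 := ⟨hβD, by simp⟩
      exact hfβ x (mem_of_pow_mem_of_coprime (M := fixMod _ x) ⟨(pow_mem h1 i).1, hx⟩
        (((Nat.coprime_of_lt_prime hi0.ne' hi hr)).coprime_dvd_left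
          (orderOf_dvd_of_pow_eq_one hβ))).2
    obtain ⟨C, hC, hCle⟩ := exists_commutant_le hirr hcomm hcovS hrk hS hβ hfreeβ
    obtain ⟨b, l, s, m, hb, hl, hs, h1s, hd, hsq, hker, hm0, hm1⟩ := exists_mult' hrk hS C hC
    have hle : r * ∑ c ∈ s, m c ^ 2 + 1 ≤ finrank k V ^ 2 + r :=
      le_trans (Nat.add_le_add_right (Nat.mul_le_mul_left _ hsq) 1) hCle
    -- the fixed space of `S` has dimension at most one
    have hm : m 1 ≤ 1 := by
      by_contra hlt
      obtain ⟨i, i', hii, hi, hi'⟩ := hm1 1 (by omega)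
      set P := ∑ t ∈ Finset.range r, S ^ t with hP
      have hSP : ∀ v, S (P v) = P v := H1.apply_geom_sum_of_pow_eq_one hS
      have hPG : ∀ n, (Y * S) ^ n * P = P := fun n => by
        induction n with
        | zero => simp
        | succ n ih =>
          rw [pow_succ', mul_assoc, ih]
          ext v
          rw [End.mul_apply, End.mul_apply, hSP, hfix _ (hSP v)]
      have hcP : Commute (Y * S) P := Commute.sum_right _ _ _ fun t _ =>
        (hYS.mul_left (Commute.refl S)).pow_right t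
      have hGP : ∀ n, P * (Y * S) ^ n = P := fun n => by rw [← (hcP.pow_left n).eq, hPG]
      have hPv : ∀ t, l t = 1 → P (b t) = (r : k) • b t := fun t ht => by
        have h1 : S (b t) = b t := by rw [hb, ht, one_smul]
        rw [hP, LinearMap.sum_apply, Finset.sum_congr rfl (g := fun _ => b t) fun u _ => by
          rw [End.pow_apply, Function.iterate_fixed h1]]
        simp [Nat.cast_smul_eq_nsmul]
      obtain ⟨c, S', hT⟩ := H1.exists_scalar_add_norm hirr hQk hcov (Nat.mul_pos (by omega) hr.pos) hG hγ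
        (fun i h1 h2 x hx => hfree i h1 h2 x (by rw [hx, mul_inv_cancel]; exact one_mem _))
        (((b.coord i').comp P).smulRight (b i)) (by
          ext v
          have h1 : S (b i) = b i := by rw [hb, hi, one_smul]
          have h2 := LinearMap.congr_fun (hGP 1) v
          rw [pow_one, End.mul_apply] at h2
          simp only [End.mul_apply, LinearMap.smulRight_apply, map_smul, h1, hfix _ h1,
            LinearMap.comp_apply]
          rw [← End.mul_apply Y S, h2])
      have h3 : P * ((b.coord i').comp P).smulRight (b i) * P = c • (P * P) := by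
        clear_value P
        rw [hT, mul_add, add_mul, Finset.mul_sum, Finset.sum_mul,
          Finset.sum_congr rfl (g := fun _ => P * S' * P) fun u _ => by
            rw [← mul_assoc, ← mul_assoc, hGP, mul_assoc, hPG]]
        simp [← Nat.cast_smul_eq_nsmul k, hqk]
      have h4 := congrArg (b.coord i) (LinearMap.congr_fun h3 (b i'))
      simp [hPv i hi, hPv i' hi', hii.symm, hrk] at h4
    have hN : (Y - 1) ^ (m 1 + 1) = 0 := by
      refine b.ext fun i => ?_
      let W := LinearMap.ker (S - l i • 1)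
      have hW : ∀ v ∈ W, (Y - 1) v ∈ W := fun v hv => by
        rw [LinearMap.mem_ker] at hv ⊢
        have : Commute (S - l i • 1) (Y - 1) :=
          (hYS.symm.sub_right (Commute.one_right S)).sub_left
            ((Commute.one_left _).smul_left _)
        rw [← End.mul_apply, this.eq, End.mul_apply, hv, map_zero]
      have hnil : IsNilpotent ((Y - 1).restrict hW) := ⟨q ^ (j + 1), by
        ext1 v
        refine Subtype.ext ?_
        rw [H1.coe_restrict_pow, H1.sub_one_pow_pow hq (H1.cast_end_eq_zero q), hY, sub_self]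
        rfl⟩
      have h1 := pow_eq_zero_of_le ((hker (l i)).trans (le_succ_of_sum_sq_le hs hd hle h1s (hl i)))
        (H1.pow_finrank_eq_zero_of_isNilpotent hnil)
      have h2 := congrArg Subtype.val (LinearMap.congr_fun h1 ⟨b i, by
        rw [LinearMap.mem_ker, LinearMap.sub_apply, hb]; simp⟩)
      rw [H1.coe_restrict_pow] at h2
      exact h2
    have hY1 : Y ≠ 1 := fun h1 => hns (eq_top_iff.mpr fun x _ => hfα x ?_)
    · have hm' : m 1 = 1 := by
        by_contra h0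
        rw [show m 1 = 0 by omega, zero_add, pow_one, sub_eq_zero] at hN
        exact hY1 hN
      obtain ⟨i, hi⟩ := hm0 1 (by omega)
      refine ⟨?_, ?_, b i, b.ne_zero i, by rw [hb, hi, one_smul]⟩
      · by_contra hne
        rw [hm'] at hN
        obtain ⟨a1, a2⟩ := H1.crit_modular hq hirr hQk hcovY hα (fun i h1 h2 x hx => by
          refine hfree (r * i) (Nat.mul_pos hr.pos h1)
            (by rw [mul_comm]; exact Nat.mul_lt_mul_of_pos_right h2 hr.pos) x ?_
          have h3 : α ∈ fixMod (H1.scalarSub τ) 1 := ⟨hαD, by simp⟩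
          have h4 : α ^ i ∈ fixMod (H1.scalarSub τ) x := ⟨(pow_mem h3 i).1, by simp [hx]⟩
          rw [pow_mul, hαβ.mul_pow, hβ, mul_one, ← pow_mul, mul_comm, pow_mul]
          exact (pow_mem h4 r).2) hY1 hN (by omega)
        have a3 : q ^ (j + 1) = 3 := by omega
        have a4 := (H1.crit_coprime hirr hcomm hcovS hrk hS hβ hfreeβ).1
        rw [a2, a3] at a4
        rw [a3] at hc
        exact hr.one_lt.ne' (Nat.eq_one_of_dvd_coprimes hc a4 dvd_rfl)
      · have := succ_le_of_sum_sq_le hs hd hle h1s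
        rw [hm'] at this
        omega
    · have h2 := H1.cov_pow hcovY (q ^ j) x
      rw [h1, one_pow, one_mul, mul_one] at h2
      exact ⟨1, by rw [map_mul, ← h2, ← map_mul, mul_inv_cancel, map_one, one_smul]⟩
  · have hQk' : ((q ^ (j + 1) : ℕ) : k) ≠ 0 := by rw [Nat.cast_pow]; exact pow_ne_zero _ hqk
    have hhk : ((q ^ (j + 1) * r : ℕ) : k) ≠ 0 := by
      rw [Nat.cast_mul]; exact mul_ne_zero hQk' hrk
    obtain ⟨C, hC, hCle⟩ := exists_commutant_le hirr hcomm hcov hhk hG hγ hfree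
    obtain ⟨s, m, hs, hmem, hd, hsq, hev, -⟩ := exists_mult hhk hG C hC
    have hle : q ^ (j + 1) * r * ∑ c ∈ s, m c ^ 2 + 1 ≤ finrank k V ^ 2 + q ^ (j + 1) * r :=
      le_trans (Nat.add_le_add_right (Nat.mul_le_mul_left _ hsq) 1) hCle
    have key : ∀ c : k, c ^ q ^ (j + 1) = 1 → m c ≠ 0 → c = 1 ∧ ∃ v, v ≠ 0 ∧ S v = v := by
      intro c hc1 hm
      obtain ⟨v, hv, hv'⟩ := hev c hm
      have h1 : ∀ n, ((Y * S) ^ n) v = c ^ n • v := fun n => by
        induction n with
        | zero => simp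
        | succ n ih => rw [pow_succ', End.mul_apply, ih, map_smul, hv', smul_smul, pow_succ]
      have h2 := h1 (q ^ (j + 1))
      rw [hYS.mul_pow, hY, one_mul, hc1, one_smul] at h2
      have h3 : S v = v := by
        obtain ⟨a, -, ha⟩ := Nat.exists_mul_mod_eq_one_of_coprime hc hr.one_lt
        have h4 : (S ^ (q ^ (j + 1) * a)) v = v := by
          rw [pow_mul, End.pow_apply, Function.iterate_fixed h2]
        rwa [← Nat.div_add_mod (q ^ (j + 1) * a) r, ha, pow_add, pow_mul, hS, one_pow, one_mul,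
          pow_one] at h4
      rw [End.mul_apply, h3, hfix v h3] at hv'
      refine ⟨?_, v, hv, h3⟩
      by_contra hne
      exact hv ((smul_eq_zero.mp (show (c - 1) • v = 0 by
        rw [sub_smul, ← hv', one_smul, sub_self])).resolve_left (sub_ne_zero.mpr hne))
    have : NeZero ((q ^ (j + 1) : ℕ) : k) := ⟨hQk'⟩
    obtain ⟨ζ, hζ⟩ := HasEnoughRootsOfUnity.exists_primitiveRoot k (q ^ (j + 1))
    have hζ1 : ζ ≠ 1 := hζ.ne_one hQ1
    have hmemζ : ∀ c : k, c ^ q ^ (j + 1) = 1 → c ∈ s := fun c h => by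
      rw [hmem, pow_mul, h, one_pow]
    have hζ0 : m ζ = 0 := by
      by_contra h
      exact hζ1 (key ζ hζ.pow_eq_one h).1
    have hQ2 : q ^ (j + 1) = 2 := by
      by_contra hne
      have h1 : ζ ^ 2 ≠ 1 := hζ.pow_ne_one_of_pos_of_lt two_ne_zero (by omega)
      have h2 : (ζ ^ 2) ^ q ^ (j + 1) = 1 := by rw [← pow_mul, mul_comm, pow_mul, hζ.pow_eq_one, one_pow]
      refine hD (le_one_of_two_zeros hs hd hle (hmemζ _ hζ.pow_eq_one) (hmemζ _ h2) (fun h => ?_)
        hζ0 ?_)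
      · rw [pow_two] at h
        exact hζ1 (mul_left_cancel₀ (hζ.ne_zero (by omega)) (h.trans (mul_one _).symm))
      · by_contra h
        exact h1 (key _ h2 h).1
    refine ⟨hQ2, hQ2 ▸ H1.le_of_sum_sq_le s m hs hd hle (hmemζ _ hζ.pow_eq_one) hζ0, ?_⟩
    refine (key 1 (one_pow _) fun h => hD ?_).2
    exact le_one_of_two_zeros hs hd hle (hmemζ _ hζ.pow_eq_one) (hmemζ _ (one_pow _)) hζ1.symm hζ0 h

end Cfsg.Agent.H9
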