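import Cfsg.Agent.H9.Tur2
import Cfsg.Agent.H9.LL
import Cfsg.Agent.H9.FixCount

/-! The local lemmas: a coprime operator group centralizing `σ` and trivial on its fixed vectors. -/

set_option autoImplicit false
open Subgroup Module Cfsg
open scoped commutatorElement

namespace Cfsg.Agent.H9

section Grp

variable {X : Type*} [Group X]

theorem coprime_card_zpowers {g : X} {r n : ℕ} (hg : g ^ r = 1) (h : r.Coprime n) :
    (Nat.card (zpowers g)).Coprime n := by
  rw [Nat.card_zpowers]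
  exact h.coprime_dvd_left (orderOf_dvd_of_pow_eq_one hg)

theorem commutator_inf_centralizer_eq_bot {T B : Subgroup X}
    (h : B ≤ centralizer ((⁅T, T⁆ : Subgroup X) : Set X)) :
    ⁅⁅T, B⁆, T ⊓ centralizer (B : Set X)⁆ = ⊥ := by
  refine commutator_commutator_eq_bot_of_rotate ?_ ?_
  · rw [H1.commutator_eq_bot_iff_le_centralizer'.mpr inf_le_right, commutator_bot_left]
  · exact le_bot_iff.mp ((commutator_mono (commutator_mono inf_le_left le_rfl) le_rfl).trans
      (H1.commutator_eq_bot_iff_le_centralizer'.mpr h).le)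

variable [Finite X]

theorem coprime_card_of_isPGroup' {p n : ℕ} (hp : p.Prime) {P : Subgroup X} (hP : IsPGroup p P)
    (h : n.Coprime p) : n.Coprime (Nat.card P) := by
  haveI := Fact.mk hp
  exact H1.coprime_card_of_isPGroup hP h

theorem isSolvable_of_isPGroup' {p : ℕ} (hp : p.Prime) {P : Subgroup X} (hP : IsPGroup p P) :
    Group.IsSolvable P := by
  haveI := Fact.mk hp
  exact H1.isSolvable_of_isPGroup hP

theorem mem_of_conj_mul_inv_mem {E D : Subgroup X} {g : X} (hg : g ∈ normalizer (E : Set X))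
    (hgD : g ∈ normalizer (D : Set X)) (hcop : (orderOf g).Coprime (Nat.card E))
    (hE' : ⁅E, E⁆ ≤ D) {x : X} (hx : x ∈ ⁅E, zpowers g⁆ ⊔ (E ⊓ D))
    (h : g * x * g⁻¹ * x⁻¹ ∈ D) : x ∈ D := by
  have hxE : x ∈ E :=
    sup_le (H1.commutator_le_of_le_normalizer (zpowers_le.mpr hg)) inf_le_left hx
  have hn : zpowers g ≤ normalizer ((E ⊓ D : Subgroup X) : Set X) :=
    H1.le_normalizer_inf (zpowers_le.mpr hg) (zpowers_le.mpr hgD)
  refine (mem_inf.mp (H1.mem_of_commutator_mem_of_abelian_section (A := zpowers g) inf_le_left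
    (le_inf (H1.commutator_le_of_le_normalizer le_normalizer) hE') (zpowers_le.mpr hg) hn
    (by rwa [Nat.card_zpowers]) hx fun a ha => H1.commutatorElement_mem_of_mem_zpowers
      (hn (mem_zpowers g)) ?_ ha)).2
  rw [← commutatorElement_inv]
  refine inv_mem (mem_inf.mpr ⟨?_, h⟩)
  exact mul_mem (H1.conj_mem_of_le_normalizer (zpowers_le.mpr hg) (mem_zpowers g) hxE)
    (inv_mem hxE)

theorem inf_centralizer_le_commutator {T B : Subgroup X} (hB : B ≤ normalizer (T : Set X))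
    (hcop : (Nat.card B).Coprime (Nat.card T)) :
    ⁅T, B⁆ ⊓ centralizer (B : Set X) ≤ ⁅T, T⁆ := fun x hx =>
  H1.mem_of_commutator_mem_of_abelian_section (H1.commutator_le_of_le_normalizer le_normalizer)
    le_rfl hB (H1.le_normalizer_commutator hB hB) hcop (mem_sup_left hx.1) fun a ha => by
      rw [commutatorElement_eq_one_iff_mul_comm.mpr (mem_centralizer_iff.mp hx.2 a ha).symm]
      exact one_mem _

theorem commutator_commutator_le {T B : Subgroup X} (hB : B ≤ normalizer (T : Set X))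
    (hcop : (Nat.card B).Coprime (Nat.card T)) (hT : Group.IsSolvable T)
    (h : B ≤ centralizer ((⁅T, T⁆ : Subgroup X) : Set X)) :
    ⁅⁅T, B⁆, T⁆ ≤ ⁅⁅T, B⁆, ⁅T, B⁆⁆ := by
  have h1 := commutator_inf_centralizer_eq_bot h
  have h2 := H1.le_normalizer_of_le_centralizer (H1.commutator_eq_bot_iff_le_centralizer'.mp h1)
  have h3 := H1.commutator_sup_le (G := ⁅T, B⁆) (M := ⁅⁅T, B⁆, ⁅T, B⁆⁆)
    (H1.le_normalizer_commutator le_normalizer le_normalizer) (H1.le_normalizer_commutator h2 h2)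
    le_rfl (h1.le.trans bot_le)
  rwa [H1.commutator_sup_centralizer hB hcop (Or.inr hT)] at h3

theorem inf_centralizer_commutator_le {T B : Subgroup X} (hB : B ≤ normalizer (T : Set X))
    (hcop : (Nat.card B).Coprime (Nat.card T)) (hT : Group.IsSolvable T)
    (h : B ≤ centralizer ((⁅T, T⁆ : Subgroup X) : Set X)) :
    ⁅T, B⁆ ⊓ centralizer ((⁅T, B⁆ : Subgroup X) : Set X) ≤ centralizer (T : Set X) := by
  rw [le_centralizer_iff]
  refine (H1.commutator_sup_centralizer hB hcop (Or.inr hT)).ge.trans (sup_le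
    (le_centralizer_iff.mp inf_le_right) ?_)
  exact (H1.commutator_eq_bot_iff_le_centralizer'.mp (commutator_inf_centralizer_eq_bot h)).trans
    (centralizer_le (SetLike.coe_mono inf_le_left))

theorem zpowers_inf_eq_bot {σ : X} {r : ℕ} (hr : r.Prime) (hσ : σ ^ r = 1) {S : Subgroup X}
    (h : σ ∉ S) : zpowers σ ⊓ S = ⊥ := by
  refine eq_bot_iff.mpr fun a ha => ?_
  by_contra ha1
  have h1 : zpowers a = zpowers σ := by
    refine eq_of_card_prime ?_ (zpowers_le.mpr ha.1) (by simpa using ha1)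
    rw [Nat.card_zpowers]
    rcases (Nat.dvd_prime hr).mp (orderOf_dvd_of_pow_eq_one hσ) with h1 | h1
    · exact absurd (orderOf_eq_one_iff.mp h1 ▸ S.one_mem) h
    · rwa [h1]
  exact h (zpowers_le.mpr ha.2 (h1.ge (mem_zpowers σ)))

end Grp

section Klein

variable {Q : Type*} [Group Q] [IsMulCommutative Q]

/-- The elements inverted by an automorphism. -/
def invSub (c : MulAut Q) : Subgroup Q where
  carrier := {x | c x = x⁻¹}
  one_mem' := by simp
  mul_mem' {x y} (hx : c x = _) (hy : c y = _) := show c (x * y) = _ by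
    rw [map_mul, hx, hy, mul_inv_rev, mul_comm']
  inv_mem' {x} (hx : c x = _) := show c x⁻¹ = _ by rw [map_inv, hx]

variable [Finite Q]

omit [IsMulCommutative Q] in
theorem eq_one_of_sq_of_odd (hodd : Odd (Nat.card Q)) {x : Q} (h : x * x = 1) : x = 1 := by
  have h1 := Nat.eq_one_of_dvd_coprimes (Nat.coprime_two_left.mpr hodd)
    (orderOf_dvd_of_pow_eq_one (by rwa [pow_two])) (orderOf_dvd_natCard x)
  exact orderOf_eq_one_iff.mp h1

omit [IsMulCommutative Q] in
theorem card_ge_of_fpf (hodd : Odd (Nat.card Q)) {s : MulAut Q} {r : ℕ} (hr : r.Prime)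
    (hr2 : r ≠ 2) (hs : s ^ r = 1) (hfs : ∀ x, s x = x → x = 1) {U : Subgroup Q}
    (hU : ∀ x ∈ U, s x ∈ U) (h1 : U ≠ ⊥) : 2 * r + 1 ≤ Nat.card U := by
  haveI := Fact.mk hr
  have h2 := ncard_modEq_of_isPGroup (G := MulAut Q) (Ω := Q) (A := zpowers s) (p := r)
    (IsPGroup.iff_card.mpr (by
      rw [Nat.card_zpowers]
      rcases (Nat.dvd_prime hr).mp (orderOf_dvd_of_pow_eq_one hs) with h | h
      · exact ⟨0, h⟩
      · exact ⟨1, by rw [h, pow_one]⟩)) (U : Set Q) (by
      intro g hg x hx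
      obtain ⟨n, rfl⟩ := (Submonoid.mem_powers_iff _ _).mp (mem_powers_iff_mem_zpowers.mpr hg)
      clear hg
      induction n with
      | zero => simpa using hx
      | succ n ih => rw [pow_succ', mul_smul]; exact hU _ ih)
  have h3 : {x | x ∈ (U : Set Q) ∧ ∀ g ∈ zpowers s, g • x = x} = {1} := by
    ext x
    constructor
    · exact fun hx => hfs x (hx.2 s (mem_zpowers s))
    · rintro rfl
      exact ⟨U.one_mem, fun g _ => map_one g⟩
  rw [h3, Set.ncard_singleton] at h2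
  change Nat.card U ≡ 1 [MOD r] at h2
  have h4 : Odd (Nat.card U) := hodd.of_dvd_nat (card_subgroup_dvd_card U)
  have h5 : 1 < Nat.card U := (one_lt_card_iff_ne_bot U).mpr h1
  have h6 : 2 * r ∣ Nat.card U - 1 := Nat.Coprime.mul_dvd_of_dvd_of_dvd
    ((Nat.coprime_primes Nat.prime_two hr).mpr hr2.symm)
    (by obtain ⟨a, ha⟩ := h4; exact ⟨a, by omega⟩) ((Nat.modEq_iff_dvd' h5.le).mp h2.symm)
  have := Nat.le_of_dvd (by omega) h6
  omega

theorem klein_split (hodd : Odd (Nat.card Q)) {c d : MulAut Q} (hcd : Commute c d)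
    (hc : c * c = 1) (hd : d * d = 1) (hc1 : c ≠ 1) :
    invSub c ⊓ fixedSubgroup d ≠ ⊥ ∨ invSub c ⊓ invSub d ≠ ⊥ := by
  by_contra h
  push Not at h
  refine hc1 (MulEquiv.ext fun y => ?_)
  have hcc : ∀ z, c (c z) = z := fun z => by rw [← MulAut.mul_apply, hc]; rfl
  have hdd : ∀ z, d (d z) = z := fun z => by rw [← MulAut.mul_apply, hd]; rfl
  have hx : c y * y⁻¹ ∈ invSub c := show c _ = _ by simp [hcc]
  generalize hxe : c y * y⁻¹ = x at hx
  have hdx : d x ∈ invSub c := show c _ = _ by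
    rw [← MulAut.mul_apply, hcd.eq, MulAut.mul_apply, show c x = x⁻¹ from hx, map_inv]
  have h1 : x * d x = 1 := mem_bot.mp (h.1.le ⟨mul_mem hx hdx, show d _ = _ by
    rw [map_mul, hdd, mul_comm']⟩)
  have h2 : x * (d x)⁻¹ = 1 := mem_bot.mp (h.2.le ⟨(invSub c).mul_mem hx ((invSub c).inv_mem hdx), show d _ = _ by
    simp [hdd]⟩)
  rw [mul_inv_eq_one] at h2
  rw [← h2] at h1
  rw [eq_one_of_sq_of_odd hodd h1, mul_inv_eq_one] at hxe
  exact hxe

theorem klein_bound (hodd : Odd (Nat.card Q)) {s c d : MulAut Q} {r : ℕ} (hr : r.Prime)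
    (hr2 : r ≠ 2) (hs : s ^ r = 1) (hfs : ∀ x, s x = x → x = 1) (hc : Commute s c)
    (hd : Commute s d) (h1 : invSub c ⊓ fixedSubgroup d ≠ ⊥) (h2 : invSub c ⊓ invSub d ≠ ⊥) :
    (2 * r + 1) ^ 2 ≤ Nat.card (invSub c) := by
  have hi : ∀ e : MulAut Q, Commute s e → ∀ x ∈ invSub e, s x ∈ invSub e := fun e he x hx =>
    show e _ = _ by
      rw [← MulAut.mul_apply, ← he.eq, MulAut.mul_apply, show e x = x⁻¹ from hx, map_inv]
  have a1 := card_ge_of_fpf hodd hr hr2 hs hfs (fun x hx => mem_inf.mpr ⟨hi c hc x hx.1,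
    show d _ = _ by rw [← MulAut.mul_apply, ← hd.eq, MulAut.mul_apply, show d x = x from hx.2]⟩) h1
  have a2 := card_ge_of_fpf hodd hr hr2 hs hfs
    (fun x hx => mem_inf.mpr ⟨hi c hc x hx.1, hi d hd x hx.2⟩) h2
  have a3 := H1.card_sup_of_inf_eq_bot (A := invSub c ⊓ fixedSubgroup d) (N := invSub c ⊓ invSub d)
    (fun x _ => mem_normalizer_iff.mpr fun y => by rw [mul_comm' x y, mul_inv_cancel_right])
    (eq_bot_iff.mpr fun x hx => eq_one_of_sq_of_odd hodd (by
      have b1 : d x = x := hx.1.2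
      have b2 : d x = x⁻¹ := hx.2.2
      rw [b1] at b2
      exact mul_eq_one_iff_eq_inv.mpr b2))
  calc (2 * r + 1) ^ 2 ≤ _ := by rw [pow_two]; exact Nat.mul_le_mul a1 a2
    _ = _ := a3.symm
    _ ≤ _ := card_le_of_le (sup_le inf_le_left inf_le_left)

theorem klein_aut (hodd : Odd (Nat.card Q)) {s a b : MulAut Q} {r : ℕ} (hr : r.Prime)
    (hr2 : r ≠ 2) (hs : s ^ r = 1) (hfs : ∀ x, s x = x → x = 1) (hsa : Commute s a)
    (hsb : Commute s b) (ha : a * a = 1) (hb : b * b = 1) (hab : a * b * (a * b) = 1)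
    (ha1 : a ≠ 1) (hb1 : b ≠ 1) (hab1 : a * b ≠ 1) :
    ∃ c, (c = a ∨ c = b ∨ c = a * b) ∧ (2 * r + 1) ^ 2 ≤ Nat.card (invSub c) := by
  have hc : Commute a b := by
    have h1 : a⁻¹ = a := inv_eq_of_mul_eq_one_right ha
    have h2 : b⁻¹ = b := inv_eq_of_mul_eq_one_right hb
    have h3 := inv_eq_of_mul_eq_one_right hab
    rw [mul_inv_rev, h1, h2] at h3
    exact h3.symm
  have haa : ∀ z, a (a z) = z := fun z => by rw [← MulAut.mul_apply, ha]; rfl
  have e1 : invSub (a * b) ⊓ fixedSubgroup a = invSub b ⊓ fixedSubgroup a := by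
    ext x
    refine and_congr_left fun (hx : a x = x) => ?_
    change a (b x) = x⁻¹ ↔ b x = x⁻¹
    constructor
    · intro h; rw [← haa (b x), h, map_inv, hx]
    · intro h; rw [h, map_inv, hx]
  have e2 : invSub (a * b) ⊓ invSub a = invSub a ⊓ fixedSubgroup b := by
    ext x
    rw [mem_inf, mem_inf, and_comm]
    refine and_congr_right fun (hx : a x = x⁻¹) => ?_
    change a (b x) = x⁻¹ ↔ b x = x
    rw [← hx]
    exact a.injective.eq_iff
  have s1 := klein_split hodd hc ha hb ha1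
  have s2 := klein_split hodd hc.symm hb ha hb1
  have s3 := klein_split hodd ((Commute.refl a).mul_left hc.symm) hab ha hab1
  rw [e1, e2] at s3
  by_cases u3 : invSub a ⊓ invSub b = ⊥
  · refine ⟨a * b, Or.inr (Or.inr rfl), klein_bound hodd hr hr2 hs hfs (hsa.mul_right hsb) hsa ?_ ?_⟩
    · rw [e1]; exact s2.resolve_right (by rw [inf_comm]; exact fun h => h u3)
    · rw [e2]; exact s1.resolve_right fun h => h u3
  · rcases s3 with s3 | s3
    · exact ⟨b, Or.inr (Or.inl rfl), klein_bound hodd hr hr2 hs hfs hsb hsa s3 (by rwa [inf_comm])⟩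
    · exact ⟨a, Or.inl rfl, klein_bound hodd hr hr2 hs hfs hsa hsb s3 u3⟩

theorem klein_amb {X : Type*} [Group X] [Finite X] {T : Subgroup X} (hT : IsMulCommutative T)
    (hodd : Odd (Nat.card T)) {σ a b : X} {r : ℕ} (hr : r.Prime) (hr2 : r ≠ 2) (hs : σ ^ r = 1)
    (hσ : σ ∈ normalizer (T : Set X)) (haT : a ∈ normalizer (T : Set X))
    (hbT : b ∈ normalizer (T : Set X)) (hfs : T ⊓ centralizer {σ} = ⊥) (hsa : Commute σ a)
    (hsb : Commute σ b) (ha : a * a ∈ centralizer (T : Set X))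
    (hb : b * b ∈ centralizer (T : Set X)) (hab : a * b * (a * b) ∈ centralizer (T : Set X))
    (ha1 : a ∉ centralizer (T : Set X)) (hb1 : b ∉ centralizer (T : Set X))
    (hab1 : a * b ∉ centralizer (T : Set X)) :
    ∃ c, (c = a ∨ c = b ∨ c = a * b) ∧ (2 * r + 1) ^ 2 ≤ Nat.card ↥⁅T, zpowers c⁆ := by
  let φ := H1.conjAut (A := normalizer (T : Set X)) (V := T) le_rfl
  have hφ : ∀ x : normalizer (T : Set X), φ x = 1 ↔ (x : X) ∈ centralizer (T : Set X) :=
    fun x => H1.mem_ker_conjAut le_rfl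
  have key : ∀ x : normalizer (T : Set X), Nat.card (invSub (φ x)) ≤
      Nat.card ↥⁅T, zpowers (x : X)⁆ := fun x => by
    rw [← card_map_of_injective T.subtype_injective]
    refine card_le_of_le ?_
    rintro _ ⟨t, ht, rfl⟩
    have h1 : (x : X) * t * (x : X)⁻¹ = (t : X)⁻¹ := congrArg Subtype.val (show φ x t = t⁻¹ from ht)
    refine mem_of_pow_mem_of_coprime (n := 2) ?_ (Nat.coprime_two_right.mpr
      (hodd.of_dvd_nat (T.orderOf_dvd_natCard t.2)))
    have h2 := commutator_mem_commutator t.2 (mem_zpowers (x : X))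
    have h3 : ⁅(t : X), (x : X)⁆ = t * ((x : X) * t * (x : X)⁻¹)⁻¹ := by
      simp [commutatorElement_def, mul_assoc]
    rwa [h3, h1, inv_inv, ← pow_two] at h2
  obtain ⟨c, hc, hle⟩ := klein_aut hodd (s := φ ⟨σ, hσ⟩) (a := φ ⟨a, haT⟩) (b := φ ⟨b, hbT⟩) hr hr2
    (by rw [← map_pow, hφ]; simp [hs])
    (fun x hx => Subtype.ext (mem_bot.mp (hfs.le ⟨x.2, mem_centralizer_singleton_iff.mpr
      (mul_inv_eq_iff_eq_mul.mp (congrArg Subtype.val hx)).symm⟩)))
    (Commute.map (Subtype.ext hsa.eq) φ) (Commute.map (Subtype.ext hsb.eq) φ)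
    (by rw [← map_mul, hφ]; exact ha) (by rw [← map_mul, hφ]; exact hb)
    (by rw [← map_mul, ← map_mul, hφ]; exact hab) (by rwa [Ne, hφ]) (by rwa [Ne, hφ])
    (by rwa [← map_mul, Ne, hφ])
  rcases hc with rfl | rfl | rfl
  · exact ⟨a, Or.inl rfl, hle.trans (key _)⟩
  · exact ⟨b, Or.inr (Or.inl rfl), hle.trans (key _)⟩
  · rw [← map_mul] at hle
    exact ⟨a * b, Or.inr (Or.inr rfl), hle.trans (key _)⟩

end Klein

end Cfsg.Agent.H9
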