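import Cfsg.Agent.H9.Tur3
import Cfsg.Agent.H9.KP2

/-! The local representation theoretic lemmas. -/

set_option autoImplicit false
open Subgroup Module Cfsg
open scoped commutatorElement

namespace Cfsg.Agent.H9

universe u v

variable {k : Type*} {V : Type v} [Field k] [AddCommGroup V] [Module k V] {X : Type u} [Group X]
  [Finite X] {ρ : X →* End k V}

theorem mem_wstab_fixer_of_norm {Z : Subgroup X} {μ : X → k} {σ y : X} {r : ℕ} (hr : r.Prime)
    (hσ1 : σ ^ r = 1) (hσ : σ ∈ normalizer (Z : Set X)) (hσμ : σ ∉ wstab Z μ)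
    (hy : y ∈ normalizer (Z : Set X)) (hyσ : Commute y σ) (hcop : (orderOf y).Coprime r)
    (h0 : wsp ρ Z μ ≠ ⊥)
    (hfix : ∀ v ∈ wsp ρ Z μ, ρ y (sumRep ρ (zpowers σ) v) = sumRep ρ (zpowers σ) v) :
    y ∈ wstab Z μ ∧ y ∈ fixer ρ (wsp ρ Z μ) := by
  classical
  let _ := Fintype.ofFinite (zpowers σ)
  have hbot := zpowers_inf_eq_bot hr hσ1 hσμ
  have hA : zpowers σ ≤ normalizer (Z : Set X) := zpowers_le.mpr hσ
  have hone : ∀ b : zpowers σ, (b : X) ∈ wstab Z μ ↔ b = 1 := fun b =>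
    ⟨fun h => Subtype.ext (mem_bot.mp (hbot.le ⟨b.2, h⟩)), fun h => h ▸ one_mem _⟩
  have hya : ∀ a ∈ zpowers σ, Commute y a := by
    rintro _ ⟨n, rfl⟩; exact hyσ.zpow_right n
  have h1 : y ∈ wstab Z μ := by
    by_contra hc
    obtain ⟨v, hv, hv0⟩ := (Submodule.ne_bot_iff _).mp h0
    have h2 := sum_filter_eq_zero (ρ := ρ) (Z := Z) (μ := μ) Finset.univ
      (fun b : zpowers σ ⊕ zpowers σ => Sum.elim (fun a : zpowers σ => y * a) (fun a : zpowers σ => (a : X)) b)
      (fun b => b.elim (fun _ => v) fun _ => -v)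
      (by rintro (a | a) -; exacts [mul_mem hy (hA a.2), hA a.2])
      (by rintro (a | a) -; exacts [hv, neg_mem hv]) (by
        have := hfix v hv
        rw [sumRep_eq, LinearMap.sum_apply, map_sum] at this
        simp [Fintype.sum_sum_type, this])
    rw [Finset.sum_eq_single (Sum.inr 1)] at h2
    · exact hv0 (by simpa using h2)
    · rintro (a | a) ha hne
      · have h3 := pow_mem (Finset.mem_filter.mp ha).2 r
        obtain ⟨n, hn⟩ := a.2
        have h4 : (a : X) ^ r = 1 := by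
          rw [← hn, ← zpow_natCast, ← zpow_mul, mul_comm, zpow_mul, zpow_natCast, hσ1, one_zpow]
        rw [Sum.elim_inl, (hya a a.2).mul_pow, h4, mul_one] at h3
        exact absurd (mem_of_pow_mem_of_coprime h3 hcop) hc
      · exact absurd (congrArg _ ((hone a).mp (Finset.mem_filter.mp ha).2)) hne
    · intro h3
      exact (h3 (Finset.mem_filter.mpr ⟨Finset.mem_univ _, (wstab Z μ).one_mem⟩)).elim
  refine ⟨h1, fun v hv => ?_⟩
  have h2 := hfix v hv
  rw [sumRep_eq, LinearMap.sum_apply, map_sum, ← sub_eq_zero, ← Finset.sum_sub_distrib,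
    Finset.sum_congr rfl (g := fun b : zpowers σ => ρ b (ρ y v - v)) fun b _ => by
      rw [map_sub, ← rep_mul_apply, ← rep_mul_apply, (hya b b.2).eq]] at h2
  have h3 := sum_filter_eq_zero Finset.univ (fun b : zpowers σ => (b : X)) (fun _ => ρ y v - v)
    (fun b _ => hA b.2) (fun _ _ => Submodule.sub_mem _ (apply_mem_wsp h1 hv) hv) h2
  rw [Finset.sum_eq_single (1 : zpowers σ)] at h3
  · simpa [sub_eq_zero] using h3
  · intro b hb hb1
    exact absurd ((hone b).mp (Finset.mem_filter.mp hb).2) hb1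
  · intro h4
    exact (h4 (Finset.mem_filter.mpr ⟨Finset.mem_univ _, (wstab Z μ).one_mem⟩)).elim

variable [IsAlgClosed k] [FiniteDimensional k V]

theorem l2c [Nontrivial V] (hρ : ∀ x, ρ x = 1 → x = 1) {p q r j : ℕ} (hp : p.Prime)
    (hq : q.Prime) (hr : r.Prime) (hqp : q ≠ p) (hqr : q ≠ r) (hpr : p ≠ r) (hpk : (p : k) ≠ 0)
    (hrk : (r : k) ≠ 0) {E : Subgroup X} (hE : IsPGroup p E) {σ y : X}
    (hσ : σ ∈ normalizer (E : Set X)) (hy : y ∈ normalizer (E : Set X)) (hyσ : Commute y σ)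
    (hσ1 : σ ^ r = 1) {e : ℕ} (hy1 : y ^ q ^ e = 1)
    (hyc : y ^ q ^ (j + 1) ∈ centralizer (E : Set X)) (hE' : ⁅E, E⁆ ≤ H1.scalarSub ρ)
    (hZ : E ⊓ centralizer (E : Set X) ≤ H1.scalarSub ρ)
    (hC : E ⊓ centralizer {σ} ≤ H1.scalarSub ρ) (hz : ⁅E, zpowers (y ^ q ^ j)⁆ = E)
    (hns : ¬ E ≤ H1.scalarSub ρ) (hfix : ∀ v, ρ σ v = v → ρ y v = v) :
    q ^ (j + 1) = 2 ∧ (H1.scalarSub ρ).relIndex E ≤ (2 * r - 1) ^ 2 ∧ ∃ v, v ≠ 0 ∧ ρ σ v = v := by
  let τ := ρ.comp E.subtype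
  have hg : y * σ ∈ normalizer (E : Set X) := mul_mem hy hσ
  have hc : (q ^ e).Coprime r := ((Nat.coprime_primes hq hr).mpr hqr).pow_left _
  have hEk := H1.cast_card_ne_zero_of_isPGroup hp hE hpk
  obtain ⟨U, -, hU0, hU, hmin⟩ := H1.exists_minimal_invBy (S := insert (ρ (y * σ)) (Set.range τ))
    (W := ⊤) (fun _ _ _ _ => trivial) top_ne_bot
  have hτ : ∀ x, ∀ u ∈ U, τ x u ∈ U := fun x => hU _ (Or.inr ⟨x, rfl⟩)
  have hτ' : ∀ x ∈ E, ∀ u ∈ U, ρ x u ∈ U := fun x hx => hτ ⟨x, hx⟩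
  have hG : ∀ u ∈ U, ρ (y * σ) u ∈ U := hU _ (Or.inl rfl)
  have hgen : ∀ a ∈ zpowers (y * σ), ∀ u ∈ U, ρ a u ∈ U := fun a ha u hu => by
    obtain ⟨n, rfl⟩ := (Submonoid.mem_powers_iff _ _).mp (mem_powers_iff_mem_zpowers.mpr ha)
    rw [map_pow]; exact H1.pow_apply_mem hG n hu
  have hyz : y ∈ zpowers (y * σ) := mem_of_pow_mem_of_coprime (n := r)
    (by have := npow_mem_zpowers (y * σ) r; rwa [hyσ.mul_pow, hσ1, mul_one] at this)
    (hc.coprime_dvd_left (orderOf_dvd_of_pow_eq_one hy1))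
  have hσz : σ ∈ zpowers (y * σ) := by
    have := mul_mem (inv_mem hyz) (mem_zpowers (y * σ)); rwa [inv_mul_cancel_left] at this
  have hY := hgen y hyz
  have hS := hgen σ hσz
  haveI : Nontrivial U := Submodule.nontrivial_iff_ne_bot.mpr hU0
  obtain ⟨u₀, hu₀, hu₀0⟩ := (Submodule.ne_bot_iff _).mp hU0
  have hirr := H1.irrBy_restrict hτ hG (fun U' a b c => hmin U' a (by
    rintro T (hT | ⟨x, rfl⟩)
    · rw [hT]; exact c
    · exact b x))
  set τ' := H1.restrictRep τ U hτ with hτ'd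
  have hle : (H1.scalarSub ρ).subgroupOf E ≤ H1.scalarSub τ' := by
    rintro z ⟨c, hc⟩
    exact (H1.mem_scalarSub_restrictRep hτ).mpr ⟨c, fun u _ => LinearMap.congr_fun hc u⟩
  have hcen : ∀ x, (∀ z, τ' x * τ' z = τ' z * τ' x) → x ∈ (H1.scalarSub ρ).subgroupOf E := by
    intro x hx
    refine hZ (mem_inf.mpr ⟨x.2, mem_centralizer_iff.mpr fun z hz => ?_⟩)
    refine (commutatorElement_eq_one_iff_mul_comm.mp (eq_one_of_scalar_of_fix hρ
      (hE' (commutator_mem_commutator x.2 hz)) hu₀0 ?_)).symm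
    have h1 := congrArg Subtype.val (LinearMap.congr_fun (hx ⟨z, hz⟩)
      ⟨ρ (x : X)⁻¹ (ρ z⁻¹ u₀), hτ' _ (inv_mem x.2) _ (hτ' _ (inv_mem hz) u₀ hu₀)⟩)
    change ρ x (ρ z (ρ (x : X)⁻¹ (ρ z⁻¹ u₀))) = ρ z (ρ x (ρ (x : X)⁻¹ (ρ z⁻¹ u₀))) at h1
    rw [commutatorElement_def, rep_mul_apply, rep_mul_apply, rep_mul_apply, h1, rep_apply_inv,
      rep_apply_inv]
  have hD : H1.scalarSub τ' = (H1.scalarSub ρ).subgroupOf E := by
    refine le_antisymm (fun x hx => hcen x fun z => ?_) hle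
    obtain ⟨c, hc⟩ := hx
    rw [hc]; simp
  have hcov : ∀ {g : X} (hg : g ∈ normalizer (E : Set X)) (h : ∀ u ∈ U, ρ g u ∈ U) x,
      (ρ g).restrict h * τ' x = τ' (H1.conjAutOf hg x) * (ρ g).restrict h :=
    fun hg h x => by ext1 u; exact Subtype.ext (LinearMap.congr_fun (H1.cov_conjAutOf ρ hg x) u)
  have hpow : ∀ {g : X} (h : ∀ u ∈ U, ρ g u ∈ U) {n : ℕ}, g ^ n = 1 → (ρ g).restrict h ^ n = 1 :=
    fun h n hn => by
      ext1 u
      refine Subtype.ext ?_
      rw [H1.coe_restrict_pow, ← map_pow, hn, map_one]; rfl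
  have hcomm : _root_.commutator E ≤ H1.scalarSub τ' := by
    rw [hD]; exact map_le_iff_le_comap.mp ((map_subtype_commutator E).le.trans hE')
  have hsn : ∀ g : X, g ∈ normalizer (H1.scalarSub ρ : Set X) := fun g =>
    (normalizer_eq_top _).ge (mem_top g)
  have hσE : (orderOf σ).Coprime (Nat.card E) := coprime_card_of_isPGroup' hp hE
    (((Nat.coprime_primes hr hp).mpr hpr.symm).coprime_dvd_left (orderOf_dvd_of_pow_eq_one hσ1))
  have hfβ' : ∀ x ∈ E, σ * x * σ⁻¹ * x⁻¹ ∈ H1.scalarSub ρ → x ∈ H1.scalarSub ρ := fun x hx h => by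
    refine mem_of_conj_mul_inv_mem hσ (hsn σ) hσE hE' ?_ h
    rw [← H1.commutator_sup_centralizer (A := zpowers σ) (zpowers_le.mpr hσ)
      (by rwa [Nat.card_zpowers]) (Or.inr (isSolvable_of_isPGroup' hp hE)),
      centralizer_zpowers_eq] at hx
    exact sup_le_sup_left (le_inf inf_le_left hC) _ hx
  have hfβ : ∀ x, H1.conjAutOf hσ x * x⁻¹ ∈ H1.scalarSub τ' → x ∈ H1.scalarSub τ' := fun x h => by
    rw [hD] at h ⊢
    exact hfβ' x x.2 h
  have hfα : ∀ x, (H1.conjAutOf hy ^ q ^ j) x * x⁻¹ ∈ H1.scalarSub τ' → x ∈ H1.scalarSub τ' :=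
    fun x h => by
      rw [hD, mem_subgroupOf] at h ⊢
      rw [Subgroup.coe_mul, H1.coe_conjAutOf_pow] at h
      refine mem_of_conj_mul_inv_mem (pow_mem hy _) (hsn _) (coprime_card_of_isPGroup' hp hE
        ((((Nat.coprime_primes hq hp).mpr hqp).pow_left e).coprime_dvd_left
          (orderOf_dvd_of_pow_eq_one ?_))) hE' (mem_sup_left (hz.ge x.2)) h
      rw [← pow_mul, mul_comm, pow_mul, hy1, one_pow]
  have hirr' : H1.IrrBy (Set.range τ') := by
    refine H1.irrBy_range_of_fpf hEk (hcov hg hG) (orderOf_pos (y * σ))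
      (hpow hG (pow_orderOf_eq_one _)) hirr hcomm (fun x hx => hle (hcen x hx)) fun x hx => ?_
    have h1 : H1.conjAutOf hg ∈ fixMod (H1.scalarSub τ') x :=
      ⟨fun z => H1.cov_mem_scalarSub_iff (hcov hg hG) (orderOf_pos (y * σ))
        (hpow hG (pow_orderOf_eq_one _)), hx⟩
    obtain ⟨n, hn⟩ := (Submonoid.mem_powers_iff _ _).mp (mem_powers_iff_mem_zpowers.mpr hσz)
    have h2 := (pow_mem h1 n).2
    rw [hD, mem_subgroupOf] at h2 ⊢
    rw [Subgroup.coe_mul, H1.coe_conjAutOf_pow, hn] at h2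
    exact hfβ' x x.2 h2
  -- normalize `y`
  obtain ⟨c, hc1, hc2⟩ : ∃ c : k, (c • (ρ y).restrict hY) ^ q ^ (j + 1) = 1 ∧
      ∀ v, (ρ σ).restrict hS v = v → (c • (ρ y).restrict hY) v = v := by
    obtain ⟨l, hl⟩ := hirr'.exists_eq_smul (T := (ρ y).restrict hY ^ q ^ (j + 1)) (by
      rintro _ ⟨x, rfl⟩
      rw [H1.cov_pow (hcov hy hY), H1.conjAutOf_pow_eq_one hy hyc]; rfl)
    by_cases hv : ∃ v : U, v ≠ 0 ∧ (ρ σ).restrict hS v = v
    · obtain ⟨v, hv0, hv⟩ := hv
      have h1 : ∀ v : U, (ρ σ).restrict hS v = v → (ρ y).restrict hY v = v := fun v hv =>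
        Subtype.ext (hfix v (congrArg Subtype.val hv))
      refine ⟨1, ?_, fun v hv => by rw [one_smul]; exact h1 v hv⟩
      have h2 := LinearMap.congr_fun hl v
      rw [End.pow_apply, Function.iterate_fixed (h1 v hv), LinearMap.smul_apply,
        End.one_apply] at h2
      have h3 : l = 1 := by
        by_contra hne
        exact hv0 ((smul_eq_zero.mp (show (l - 1) • v = 0 by
          rw [sub_smul, ← h2, one_smul, sub_self])).resolve_left (sub_ne_zero.mpr hne))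
      rw [one_smul, hl, h3, one_smul]
    · push Not at hv
      have hl0 : l ≠ 0 := by
        rintro rfl
        have h2 := congrArg Subtype.val (LinearMap.congr_fun hl ⟨u₀, hu₀⟩)
        rw [H1.coe_restrict_pow, ← map_pow] at h2
        exact hu₀0 (rep_eq_zero ρ _ (h2.trans (by simp)))
      obtain ⟨c, hc⟩ := IsAlgClosed.exists_pow_nat_eq l⁻¹ (pow_pos hq.pos (j + 1))
      refine ⟨c, by rw [smul_pow, hl, smul_smul, hc, inv_mul_cancel₀ hl0, one_smul], fun v h => ?_⟩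
      by_cases hv0 : v = 0
      · rw [hv0, map_zero]
      · exact absurd h (hv v hv0)
  obtain ⟨a1, a2, v, hv0, hv⟩ := l2c_core hirr' hcomm hEk (α := H1.conjAutOf hy)
    (β := H1.conjAutOf hσ) (Y := c • (ρ y).restrict hY) (S := (ρ σ).restrict hS)
    (fun x => by rw [smul_mul_assoc, hcov hy hY, mul_smul_comm]) (hcov hσ hS)
    (Commute.smul_left (by
      ext1 u
      refine Subtype.ext ?_
      change ρ y (ρ σ u) = ρ σ (ρ y u)
      rw [← rep_mul_apply, ← rep_mul_apply, hyσ.eq]) c)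
    (MulEquiv.ext fun x => Subtype.ext (by
      change y * (σ * x * σ⁻¹) * y⁻¹ = σ * (y * x * y⁻¹) * σ⁻¹
      rw [show y * (σ * x * σ⁻¹) * y⁻¹ = (y * σ) * x * (y * σ)⁻¹ by group, hyσ.eq]; group))
    hq hr hqr hrk hc1 (hpow hS hσ1) (H1.conjAutOf_pow_eq_one hy hyc)
    (H1.conjAutOf_pow_eq_one hσ (hσ1 ▸ one_mem _)) hfα hfβ
    (fun h => hns (by rwa [hD, subgroupOf_eq_top] at h)) hc2
  refine ⟨a1, ?_, v, fun h => hv0 (Subtype.ext h), congrArg Subtype.val hv⟩
  rw [relIndex, ← hD, ← H1.finrank_sq_eq_index hirr' hcomm]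
  exact Nat.pow_le_pow_left (by omega) 2

omit [Finite X] [IsAlgClosed k] [FiniteDimensional k V] in
theorem scalarSub_le_centralizer (hρ : ∀ x, ρ x = 1 → x = 1) (H : Subgroup X) :
    H ≤ centralizer (H1.scalarSub ρ : Set X) := fun x _ =>
  mem_centralizer_iff.mpr fun z hz => (mem_center_iff.mp (mem_center_of_scalar hρ hz) x).symm

omit [Finite X] in
theorem commutator_le_of_le_of_le_normalizer {T A F : Subgroup X} (h : A ≤ F)
    (hT : T ≤ normalizer (F : Set X)) : ⁅T, A⁆ ≤ F := by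
  rw [commutator_comm]
  exact (commutator_mono h le_rfl).trans (H1.commutator_le_of_le_normalizer hT)

theorem l2 [Nontrivial V] (hρ : ∀ x, ρ x = 1 → x = 1) {p q r : ℕ} (hp : p.Prime)
    (hq : q.Prime) (hr : r.Prime) (hqp : q ≠ p) (hqr : q ≠ r) (hpr : p ≠ r) (hpk : (p : k) ≠ 0)
    (hrk : (r : k) ≠ 0) {T A : Subgroup X} (hT : IsPGroup p T) (hA : IsPGroup q A) {σ : X}
    (hσ1 : σ ^ r = 1) (hσ : σ ∈ normalizer (T : Set X)) (hAT : A ≤ normalizer (T : Set X))
    (hAσ : A ≤ centralizer {σ}) (hT' : ⁅T, T⁆ ≤ H1.scalarSub ρ)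
    (hC : T ⊓ centralizer {σ} ≤ H1.scalarSub ρ) (hTA : T ≤ ⁅T, A⁆ ⊔ H1.scalarSub ρ)
    (hne : ⁅T, T⁆ ≠ ⊥) (hfix : ∀ v, ρ σ v = v → ∀ y ∈ A, ρ y v = v)
    (H : (∀ v, ρ σ v = v → v = 0) ∨
      ∃ Y : Subgroup X, Y ≤ normalizer (T : Set X) ∧ ⁅A, Y⁆ = A) : False := by
  classical
  have hS := scalarSub_le_centralizer hρ
  have hS' : ∀ H : Subgroup X, H1.scalarSub ρ ≤ centralizer (H : Set X) := fun H =>
    le_centralizer_iff.mp (hS H)
  have hcm : ∀ y ∈ A, Commute y σ := fun y hy => mem_centralizer_singleton_iff.mp (hAσ hy)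
  have hTsol := isSolvable_of_isPGroup' hp hT
  have hcop : ∀ y ∈ A, (Nat.card (zpowers y)).Coprime (Nat.card T) := fun y hy => by
    rw [Nat.card_zpowers]
    exact coprime_card_of_isPGroup' hp hT (coprime_orderOf_of_isPGroup hp hq hqp hA hy)
  have hR : T ⊓ centralizer (T : Set X) ≤ H1.scalarSub ρ := by
    have hσR : zpowers σ ≤ normalizer ((T ⊓ centralizer (T : Set X) : Subgroup X) : Set X) :=
      le_normalizer_center_of (zpowers_le.mpr hσ)
    have h1 : ⁅T ⊓ centralizer (T : Set X), zpowers σ⁆ ≤ ρ.ker := by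
      by_contra hc
      obtain ⟨μ, hμ⟩ := exists_wsp (isMulCommutative_center_of T)
        (H1.commutator_le_of_le_normalizer hσR) (H1.cast_card_ne_zero_of_isPGroup hp
          (hT.to_le ((H1.commutator_le_of_le_normalizer hσR).trans inf_le_left)) hpk) hc
      have h0 := wsp_ne_bot_of_not_le hμ
      have hσμ : σ ∉ wstab (T ⊓ centralizer (T : Set X)) μ := fun h => hμ
        ((commutator_mono le_rfl (zpowers_le.mpr h)).trans
          (commutator_le_fixer (isMulCommutative_center_of T)))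
      have hAf : A ≤ fixer ρ (wsp ρ (T ⊓ centralizer (T : Set X)) μ) := fun y hy =>
        (mem_wstab_fixer_of_norm hr hσ1 (hσR (mem_zpowers σ)) hσμ (le_normalizer_center_of hAT hy)
          (hcm y hy) (coprime_orderOf_of_isPGroup hr hq hqr hA hy) h0 fun v _ =>
            hfix _ (rep_sumRep_apply ρ _ (mem_zpowers σ) v) y hy).2
      have hTn := ((le_centralizer_center_of T).trans centralizer_le_wstab).trans
        (wstab_le_normalizer_fixer (ρ := ρ) (μ := μ))
      have h2 := commutator_le_of_le_of_le_normalizer hAf hTn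
      have h3 := (commutator_mono le_rfl hTA).trans (H1.commutator_sup_le (h2.trans le_normalizer)
        (H1.le_normalizer_of_le_centralizer (hS' _)) (commutator_le_of_le_of_le_normalizer h2 hTn)
        ((H1.commutator_eq_bot_iff_le_centralizer'.mpr (hS' T)).le.trans bot_le))
      obtain ⟨w, hw, hw0⟩ := (Submodule.ne_bot_iff _).mp h0
      exact hne (eq_bot_iff.mpr fun z hz => eq_one_of_scalar_of_fix hρ (hT' hz) hw0 (h3 hz w hw))
    rw [ker_eq_bot_of_faithful hρ, le_bot_iff, H1.commutator_eq_bot_iff_le_centralizer',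
      le_centralizer_iff, centralizer_zpowers_eq] at h1
    exact (le_inf inf_le_left h1).trans hC
  have key : ∀ y ∈ A, y ∉ centralizer (T : Set X) → q = 2 ∧ y * y ∈ centralizer (T : Set X) ∧
      (H1.scalarSub ρ).relIndex ⁅T, zpowers y⁆ ≤ (2 * r - 1) ^ 2 ∧ ∃ v, v ≠ 0 ∧ ρ σ v = v := by
    intro y hy hyT
    obtain ⟨e, he⟩ := hA ⟨y, hy⟩
    have he' : y ^ q ^ e = 1 := congrArg Subtype.val he
    have hex : ∃ j, y ^ q ^ j ∈ centralizer (T : Set X) := ⟨e, he' ▸ one_mem _⟩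
    obtain ⟨j, hj⟩ := Nat.exists_eq_succ_of_ne_zero (n := Nat.find hex) fun h0 =>
      hyT (by simpa [h0] using Nat.find_spec hex)
    have hj1 : y ^ q ^ (j + 1) ∈ centralizer (T : Set X) := by
      have := Nat.find_spec hex; rwa [hj] at this
    have hj2 : y ^ q ^ j ∉ centralizer (T : Set X) := Nat.find_min hex (by omega)
    have hB : zpowers (y ^ q ^ j) ≤ normalizer (T : Set X) := zpowers_le.mpr (hAT (pow_mem hy _))
    have hE : ⁅T, zpowers (y ^ q ^ j)⁆ ≤ T := H1.commutator_le_of_le_normalizer hB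
    have hn : ∀ g ∈ normalizer (T : Set X), Commute g y →
        g ∈ normalizer ((⁅T, zpowers (y ^ q ^ j)⁆ : Subgroup X) : Set X) := fun g hg hgy =>
      H1.le_normalizer_commutator (zpowers_le.mpr hg) (H1.le_normalizer_of_le_centralizer (by
        rw [centralizer_zpowers_eq, zpowers_le]
        exact mem_centralizer_singleton_iff.mpr (hgy.pow_right _))) (mem_zpowers g)
    have hz := H1.commutator_commutator_eq hB (hcop _ (pow_mem hy _))
    obtain ⟨a1, a2, a3⟩ := l2c hρ hp hq hr hqp hqr hpr hpk hrk (hT.to_le hE) (hn σ hσ (hcm y hy).symm)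
      (hn y (hAT hy) (Commute.refl y)) (hcm y hy) hσ1 he'
      (centralizer_le (SetLike.coe_mono hE) hj1) ((commutator_mono hE hE).trans hT')
      ((le_inf (inf_le_left.trans hE) (inf_centralizer_commutator_le hB (hcop _ (pow_mem hy _))
        hTsol ((hS _).trans (centralizer_le (SetLike.coe_mono hT'))))).trans hR)
      ((inf_le_inf_right _ hE).trans hC) hz (fun h => hj2 (by
        rw [H1.commutator_eq_bot_iff_le_centralizer'.mpr
          ((hS _).trans (centralizer_le (SetLike.coe_mono h))), eq_comm,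
          H1.commutator_eq_bot_iff_le_centralizer'] at hz
        exact hz (mem_zpowers _))) fun v hv => hfix v hv y hy
    obtain ⟨b1, b2⟩ := (Nat.Prime.pow_eq_iff Nat.prime_two).mp a1
    obtain rfl : j = 0 := by omega
    subst b1
    rw [pow_zero, pow_one] at a2
    exact ⟨rfl, by simpa [pow_two] using hj1, a2, a3⟩
  have hAC : ¬ A ≤ centralizer (T : Set X) := fun h => hne (by
    rw [H1.commutator_eq_bot_iff_le_centralizer'.mpr h, bot_sup_eq] at hTA
    exact H1.commutator_eq_bot_iff_le_centralizer'.mpr (hTA.trans (hS' T)))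
  obtain ⟨y, hy, hyT⟩ := SetLike.not_le_iff_exists.mp hAC
  obtain ⟨rfl, -, -, v, hv0, hv⟩ := key y hy hyT
  obtain ⟨Y, hYT, hAY⟩ := H.resolve_left fun h => hv0 (h v hv)
  obtain ⟨a, ha, b, hb, ha1, hb1, hab1⟩ : ∃ a ∈ A, ∃ b ∈ A, a ∉ centralizer (T : Set X) ∧
      b ∉ centralizer (T : Set X) ∧ a * b ∉ centralizer (T : Set X) := by
    by_contra hc
    push Not at hc
    refine hAC (hAY.ge.trans (commutator_le.mpr fun a ha x hx => ?_))
    have hYA : Y ≤ normalizer (A : Set X) := hAY ▸ H1.le_normalizer_commutator_self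
    have hYC := H1.le_normalizer_centralizer hYT
    rw [show ⁅a, x⁆ = a * (x * a⁻¹ * x⁻¹) by simp [commutatorElement_def, mul_assoc]]
    by_cases haC : a ∈ centralizer (T : Set X)
    · exact mul_mem haC (H1.conj_mem_of_le_normalizer hYC hx (inv_mem haC))
    · refine hc a ha _ (H1.conj_mem_of_le_normalizer hYA hx (inv_mem ha)) haC fun h => haC ?_
      simpa [mul_assoc] using H1.conj_mem_of_le_normalizer' hYC hx h
  set π := QuotientGroup.mk' (H1.scalarSub ρ) with hπ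
  have hcomm : ∀ H K : Subgroup X, K.map π ≤ centralizer ((H.map π : Subgroup _) : Set _) ↔
      ⁅H, K⁆ ≤ H1.scalarSub ρ := fun H K => by
    rw [← H1.commutator_eq_bot_iff_le_centralizer', ← map_commutator, Subgroup.map_eq_bot_iff,
      QuotientGroup.ker_mk']
  have hiff : ∀ c ∈ A, π c ∈ centralizer ((T.map π : Subgroup _) : Set _) ↔
      c ∈ centralizer (T : Set X) := fun c hc => by
    rw [← zpowers_le, ← MonoidHom.map_zpowers, hcomm, ← zpowers_le,
      ← H1.commutator_eq_bot_iff_le_centralizer']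
    refine ⟨fun h => H1.commutator_eq_bot_of_commutator_commutator_eq_bot
      (zpowers_le.mpr (hAT hc)) (hcop c hc) (H1.commutator_eq_bot_iff_le_centralizer'.mpr
        ((hS _).trans (centralizer_le (SetLike.coe_mono h)))), fun h => h.le.trans bot_le⟩
  have hn : ∀ g ∈ normalizer (T : Set X), π g ∈ normalizer ((T.map π : Subgroup _) : Set _) :=
    fun g hg => le_normalizer_map π (mem_map_of_mem π hg)
  obtain ⟨c, hc, hle⟩ := klein_amb (T := T.map π)
    (le_centralizer_iff_isMulCommutative.mp ((hcomm T T).mpr hT'))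
    ((Nat.coprime_two_left.mp (coprime_card_of_isPGroup' hp (hT.map π)
      ((Nat.coprime_primes hq hp).mpr hqp)))) (σ := π σ) (a := π a) (b := π b) hr hqr.symm
    (by rw [← map_pow, hσ1, map_one]) (hn σ hσ) (hn a (hAT ha)) (hn b (hAT hb))
    (by
      rw [← centralizer_zpowers_eq, ← MonoidHom.map_zpowers, H1.map_inf_centralizer_map π
        (zpowers_le.mpr hσ) (coprime_card_zpowers hσ1 (coprime_card_of_isPGroup' hp hT
          ((Nat.coprime_primes hr hp).mpr hpr.symm))) (Or.inr hTsol), Subgroup.map_eq_bot_iff,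
        QuotientGroup.ker_mk', centralizer_zpowers_eq]
      exact hC)
    ((hcm a ha).symm.map π) ((hcm b hb).symm.map π)
    (by rw [← map_mul, hiff _ (mul_mem ha ha)]; exact (key a ha ha1).2.1)
    (by rw [← map_mul, hiff _ (mul_mem hb hb)]; exact (key b hb hb1).2.1)
    (by
      rw [← map_mul, ← map_mul, hiff _ (mul_mem (mul_mem ha hb) (mul_mem ha hb))]
      exact (key _ (mul_mem ha hb) hab1).2.1)
    (by rwa [hiff a ha]) (by rwa [hiff b hb]) (by rwa [← map_mul, hiff _ (mul_mem ha hb)])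
  obtain ⟨c, hcA, hc1, rfl⟩ : ∃ c' ∈ A, c' ∉ centralizer (T : Set X) ∧ π c' = c := by
    rcases hc with rfl | rfl | rfl
    exacts [⟨a, ha, ha1, rfl⟩, ⟨b, hb, hb1, rfl⟩, ⟨a * b, mul_mem ha hb, hab1, map_mul _ _ _⟩]
  rw [← MonoidHom.map_zpowers, ← map_commutator, ← L.relIndex_eq_card_map_mk'] at hle
  have := (Nat.pow_le_pow_iff_left two_ne_zero).mp (hle.trans (key c hcA hc1).2.2.1)
  omega

theorem nf_loc [Nontrivial V] (hρ : ∀ x, ρ x = 1 → x = 1) {p q r : ℕ} (hp : p.Prime)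
    (hq : q.Prime) (hr : r.Prime) (hqp : q ≠ p) (hqr : q ≠ r) (hpr : p ≠ r) (hpk : (p : k) ≠ 0)
    (hrk : (r : k) ≠ 0) {T T₀ : Subgroup X} (hT : IsPGroup p T) (hT₀ : IsPGroup q T₀) {σ : X}
    (hσ1 : σ ^ r = 1) (hσ : σ ∈ normalizer (T : Set X)) (hσ₀ : σ ∈ normalizer (T₀ : Set X))
    (hT₀T : T₀ ≤ normalizer (T : Set X)) (hc : ⁅T, T₀⁆ = T) (hT' : ⁅T, T⁆ ≤ H1.scalarSub ρ)
    (H : (∃ w, w ≠ 0 ∧ ∀ x ∈ ⁅T, zpowers σ⁆, ρ x w = w) ∨ ∀ v, ρ σ v = v → v = 0) :
    ⁅⁅T, zpowers σ⁆, T⁆ = ⊥ := by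
  have hS := scalarSub_le_centralizer hρ
  have hB := zpowers_le.mpr hσ
  have hB₀ := zpowers_le.mpr hσ₀
  have hcop := coprime_card_zpowers hσ1 (coprime_card_of_isPGroup' hp hT
    ((Nat.coprime_primes hr hp).mpr hpr.symm))
  have hcop₀ := coprime_card_zpowers hσ1 (coprime_card_of_isPGroup' hq hT₀
    ((Nat.coprime_primes hr hq).mpr hqr.symm))
  have hE : ⁅T, zpowers σ⁆ ≤ T := H1.commutator_le_of_le_normalizer hB
  refine le_bot_iff.mp ((commutator_commutator_le hB hcop (isSolvable_of_isPGroup' hp hT)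
    ((hS _).trans (centralizer_le (SetLike.coe_mono hT')))).trans ?_)
  rcases H with ⟨w, hw0, hw⟩ | hfix
  · exact fun z hz => eq_one_of_scalar_of_fix hρ (hT' (commutator_mono hE hE hz)) hw0
      (hw z (H1.commutator_le_of_le_normalizer le_normalizer hz))
  by_contra hne
  have hE₀ : ⁅T₀, zpowers σ⁆ ≤ T₀ := H1.commutator_le_of_le_normalizer hB₀
  have h1 := ll_fixer hr hp hq hpr hqr hqp hrk hpk ρ hT (hT₀.to_le hE₀) hσ
    (H1.le_normalizer_commutator_self (mem_zpowers σ)) (hE₀.trans hT₀T) hσ1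
    (H1.commutator_commutator_eq hB₀ hcop₀) (L := ⊤) le_top le_top (mem_top _) (U := ⊤)
    (fun _ _ _ _ => trivial) fun u _ => hfix u
  have h2 : ⁅T, ⁅T₀, zpowers σ⁆⁆ = ⊥ := eq_bot_iff.mpr fun x hx =>
    hρ x (LinearMap.ext fun v => h1 hx v trivial)
  set A := T₀ ⊓ centralizer ((zpowers σ : Subgroup X) : Set X) with hA
  have hAT : A ≤ normalizer (T : Set X) := inf_le_left.trans hT₀T
  have h3 : T ≤ ⁅T, A⁆ := by
    have := H1.commutator_sup_le (G := T) (M := ⁅T, A⁆) (H1.le_normalizer_of_le_centralizer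
      ((H1.commutator_eq_bot_iff_le_centralizer'.mp h2).trans (centralizer_le (SetLike.coe_mono
        (H1.commutator_le_of_le_normalizer hAT))))) H1.le_normalizer_commutator_self
      (h2.le.trans bot_le) le_rfl
    rwa [H1.commutator_sup_centralizer hB₀ hcop₀ (Or.inr (isSolvable_of_isPGroup' hq hT₀)),
      hc] at this
  have hAE : A ≤ normalizer ((⁅T, zpowers σ⁆ : Subgroup X) : Set X) :=
    H1.le_normalizer_commutator hAT (H1.le_normalizer_of_le_centralizer inf_le_right)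
  have hcA : (Nat.card A).Coprime (Nat.card T) := by
    haveI := Fact.mk hp
    haveI := Fact.mk hq
    exact IsPGroup.coprime_card_of_ne q p hqp _ _ (hT₀.to_le inf_le_left) hT
  refine l2 hρ hp hq hr hqp hqr hpr hpk hrk (hT.to_le hE) (hT₀.to_le inf_le_left) hσ1
    (H1.le_normalizer_commutator_self (mem_zpowers σ)) hAE
    (inf_le_right.trans (centralizer_zpowers_eq σ).le) ((commutator_mono hE hE).trans hT') ?_ ?_
    (fun h => hne h.le) (fun v hv y _ => by rw [hfix v hv, map_zero]) (Or.inl hfix)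
  · rw [← centralizer_zpowers_eq]
    exact (inf_centralizer_le_commutator hB hcop).trans hT'
  · refine (H1.commutator_sup_centralizer hAE (H1.coprime_of_le hcA le_rfl hE)
      (Or.inr (isSolvable_of_isPGroup' hp (hT.to_le hE)))).ge.trans (sup_le_sup_left ?_ _)
    exact ((inf_le_inf_right _ (hE.trans h3)).trans (inf_centralizer_le_commutator hAT hcA)).trans hT'

end Cfsg.Agent.H9
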