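import Cfsg.Agent.H9.Tur4
import Cfsg.Agent.H1.RepFree

/-! Invariant spanning sets and norms of their non-fixed members. -/

set_option autoImplicit false
open Subgroup Module Cfsg
open scoped commutatorElement

namespace Cfsg.Agent.H9

universe u v

variable {k : Type*} {V : Type v} [Field k] [AddCommGroup V] [Module k V] {X : Type u} [Group X]
  [Finite X] {ρ : X →* End k V}

theorem commute_sumRep {A : Subgroup X} {x : X} (hx : x ∈ normalizer (A : Set X)) :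
    Commute (ρ x) (sumRep ρ A) := by
  let _ := Fintype.ofFinite A
  rw [sumRep_eq, Commute, SemiconjBy, Finset.mul_sum, Finset.sum_mul]
  refine Fintype.sum_equiv (H1.conjAutOf hx).toEquiv _ _ fun a => ?_
  rw [← map_mul, ← map_mul]
  congr 1
  change x * a = x * a * x⁻¹ * x
  group

theorem commute_sumRep_right {A : Subgroup X} {F : End k V} (h : ∀ a ∈ A, Commute F (ρ a)) :
    Commute F (sumRep ρ A) := by
  let _ := Fintype.ofFinite A
  rw [sumRep_eq]
  exact Commute.sum_right _ _ _ fun a _ => h a a.2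

omit [Finite X] in
theorem commute_of_mem_zpowers {F : End k V} {σ a : X} [Finite X] (h : Commute F (ρ σ))
    (ha : a ∈ zpowers σ) : Commute F (ρ a) := by
  obtain ⟨n, rfl⟩ := (Submonoid.mem_powers_iff _ _).mp (mem_powers_iff_mem_zpowers.mpr ha)
  rw [map_pow]; exact h.pow_right n

theorem commute_norm {F : End k V} {σ : X} (h : Commute F (ρ σ)) :
    Commute F (sumRep ρ (zpowers σ)) :=
  commute_sumRep_right fun _ ha => commute_of_mem_zpowers h ha

theorem sum_norm_conj (A : Subgroup X) [Fintype A] (s : X) (u : V) :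
    ∑ a : A, sumRep ρ A (ρ (a * s * (a : X)⁻¹) u) = sumRep ρ A (ρ s (sumRep ρ A u)) := by
  rw [Finset.sum_congr rfl (g := fun a : A => sumRep ρ A (ρ s (ρ (a⁻¹ : A) u))) fun a _ => by
    rw [rep_mul_apply, rep_mul_apply, ← End.mul_apply (sumRep ρ A) (ρ a), sumRep_mul ρ A a.2]; rfl,
    ← map_sum, ← map_sum]
  congr 2
  rw [sumRep_eq, LinearMap.sum_apply]
  exact Fintype.sum_equiv (Equiv.inv A) _ _ fun _ => rfl

theorem cast_card_zpowers_ne_zero {σ : X} {r : ℕ} (hσ1 : σ ^ r = 1) (hrk : (r : k) ≠ 0) :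
    (Nat.card (zpowers σ) : k) ≠ 0 := fun h => by
  obtain ⟨c, hc⟩ := orderOf_dvd_of_pow_eq_one hσ1
  rw [Nat.card_zpowers] at h
  exact hrk (by rw [hc, Nat.cast_mul, h, zero_mul])

/-- Norms of vectors killed by the sum over `[Z, σ]`. -/
theorem norm_eq_zero_of_sum {Λ : Set V} (hΛ : Submodule.span k Λ = ⊤) {Z : Subgroup X}
    (hZ : IsMulCommutative Z) (hZk : (Nat.card Z : k) ≠ 0) {σ : X}
    (hσ : σ ∈ normalizer (Z : Set X)) (hcop : (orderOf σ).Coprime (Nat.card Z))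
    (hΛZ : ∀ z ∈ Z, ∀ l ∈ Λ, ρ z l ∈ Λ) {F : End k V}
    (hF : Commute F (sumRep ρ ⁅Z, zpowers σ⁆))
    (hnf : ∀ l ∈ Λ, ρ σ l ≠ l → F (sumRep ρ (zpowers σ) l) = 0) {v : V}
    (hv : sumRep ρ ⁅Z, zpowers σ⁆ v = 0) : F (sumRep ρ (zpowers σ) v) = 0 := by
  classical
  set Z₀ := ⁅Z, zpowers σ⁆ with hZ₀
  let _ := Fintype.ofFinite Z₀
  have hle : Z₀ ≤ Z := H1.commutator_le_of_le_normalizer (zpowers_le.mpr hσ)
  have hdk : ∀ U : Subgroup X, U ≤ Z → (Nat.card U : k) ≠ 0 := fun U hU h => by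
    obtain ⟨c, hc⟩ := card_dvd_of_le hU
    exact hZk (by rw [hc, Nat.cast_mul, h, zero_mul])
  set e : End k V := (Nat.card Z₀ : k) • 1 - sumRep ρ Z₀ with he
  have hc : Commute (F * sumRep ρ (zpowers σ)) e := by
    refine ((Commute.one_right _).smul_right _).sub_right (hF.mul_left ?_)
    exact (commute_norm (commute_sumRep (H1.le_normalizer_commutator_self (mem_zpowers σ))).symm).symm
  have h1 : ∀ l ∈ Λ, ρ σ l ≠ l → (F * sumRep ρ (zpowers σ) * e) l = 0 := fun l hl h => by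
    rw [hc.eq, End.mul_apply, End.mul_apply, hnf l hl h, map_zero]
  have h2 : ∀ l ∈ Λ, (F * sumRep ρ (zpowers σ) * e) l = 0 := by
    intro l hl
    by_cases hfx : ρ σ l = l
    swap
    · exact h1 l hl hfx
    have h3 : (F * sumRep ρ (zpowers σ) * e) (sumRep ρ Z₀ l) = 0 := by
      rw [End.mul_apply, he, LinearMap.sub_apply, LinearMap.smul_apply, End.one_apply,
        sumRep_apply_of_fix ρ Z₀ fun a ha => rep_sumRep_apply ρ Z₀ ha l, sub_self, map_zero]
    rw [sumRep_eq ρ Z₀, LinearMap.sum_apply, map_sum, ← Finset.sum_filter_add_sum_filter_not _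
      (fun z : Z₀ => (z : X) ∈ H1.vecStab ρ l), Finset.sum_eq_zero (s := Finset.univ.filter
        fun z : Z₀ => ¬ (z : X) ∈ H1.vecStab ρ l) fun z hz => h1 _ (hΛZ z (hle z.2) l hl) fun h =>
          (Finset.mem_filter.mp hz).2 ?_, add_zero,
      Finset.sum_congr rfl fun z hz => by rw [H1.mem_vecStab.mp (Finset.mem_filter.mp hz).2],
      Finset.sum_const, ← Nat.cast_smul_eq_nsmul k] at h3
    · refine (smul_eq_zero.mp h3).resolve_left ?_
      have h4 : (Finset.univ.filter fun z : Z₀ => (z : X) ∈ H1.vecStab ρ l).card =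
          Nat.card ((H1.vecStab ρ l).subgroupOf Z₀) := by
        rw [Nat.card_eq_fintype_card, Fintype.card_subtype]; rfl
      rw [h4, ← card_map_of_injective Z₀.subtype_injective]
      exact hdk _ ((map_subtype_le _).trans hle)
    · refine inv_mem_iff.mp (mem_of_conj_mul_inv_mem hσ (le_normalizer (H1.mem_vecStab.mpr hfx))
        hcop ((H1.commutator_eq_bot_iff_le_centralizer'.mpr
          (le_centralizer_iff_isMulCommutative.mpr hZ)).le.trans bot_le)
        (mem_sup_left (inv_mem z.2)) (H1.mem_vecStab.mpr ?_))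
      rw [inv_inv, rep_mul_apply, rep_mul_apply, rep_mul_apply]
      conv_lhs => rw [← h]
      rw [rep_inv_apply, rep_inv_apply, hfx]
  have h5 : F * sumRep ρ (zpowers σ) * e = 0 := LinearMap.ext_on hΛ h2
  have h6 := LinearMap.congr_fun h5 v
  rw [End.mul_apply, he, LinearMap.sub_apply, hv, sub_zero, LinearMap.smul_apply, map_smul] at h6
  exact (smul_eq_zero.mp h6).resolve_left (hdk _ hle)

theorem sumRep_eq_zero_of_wsp {Z : Subgroup X} {μ : X → k} {σ : X}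
    (hσ : σ ∈ normalizer (Z : Set X)) (hσμ : σ ∉ wstab Z μ) {v : V} (hv : v ∈ wsp ρ Z μ) :
    sumRep ρ ⁅Z, zpowers σ⁆ v = 0 := by
  have hle : ⁅Z, zpowers σ⁆ ≤ Z := H1.commutator_le_of_le_normalizer (zpowers_le.mpr hσ)
  by_cases hv0 : v = 0
  · rw [hv0, map_zero]
  obtain ⟨z, hz, hz1⟩ : ∃ z ∈ ⁅Z, zpowers σ⁆, μ z ≠ 1 := by
    by_contra hc
    push Not at hc
    refine hσμ ⟨hσ, fun z hz => smul_left_injective k hv0 ?_⟩
    have h1 := commutator_mem_commutator (inv_mem hz) (inv_mem (mem_zpowers σ))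
    have h2 := hv _ (hle h1)
    rw [hc _ h1, one_smul] at h2
    change μ _ • v = μ _ • v
    rw [← hv _ (H1.conj_mem_of_le_normalizer' (zpowers_le.mpr hσ) (mem_zpowers σ) hz), ← hv z hz,
      show σ⁻¹ * z * σ = z * ⁅z⁻¹, σ⁻¹⁆ by simp [commutatorElement_def, mul_assoc],
      rep_mul_apply, h2]
  have h1 := LinearMap.congr_fun (sumRep_mul ρ _ hz) v
  rw [End.mul_apply, hv z (hle hz), map_smul] at h1
  exact (smul_eq_zero.mp (show (μ z - 1) • sumRep ρ ⁅Z, zpowers σ⁆ v = 0 by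
    rw [sub_smul, h1, one_smul, sub_self])).resolve_left (sub_ne_zero.mpr hz1)

theorem mem_wstab_fixer_of_span {Λ : Set V} (hΛ : Submodule.span k Λ = ⊤) {Z : Subgroup X}
    (hZ : IsMulCommutative Z) (hZk : (Nat.card Z : k) ≠ 0) {σ : X} {r : ℕ} (hr : r.Prime)
    (hσ1 : σ ^ r = 1) (hσ : σ ∈ normalizer (Z : Set X)) (hcop : (orderOf σ).Coprime (Nat.card Z))
    (hΛZ : ∀ z ∈ Z, ∀ l ∈ Λ, ρ z l ∈ Λ) {μ : X → k} (hσμ : σ ∉ wstab Z μ) (h0 : wsp ρ Z μ ≠ ⊥)
    {y : X} (hy : y ∈ normalizer (Z : Set X)) (hyσ : Commute y σ) (hyr : (orderOf y).Coprime r)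
    (hnf : ∀ l ∈ Λ, ρ σ l ≠ l → ρ y (sumRep ρ (zpowers σ) l) = sumRep ρ (zpowers σ) l) :
    y ∈ fixer ρ (wsp ρ Z μ) := by
  refine (mem_wstab_fixer_of_norm hr hσ1 hσ hσμ hy hyσ hyr h0 fun v hv => ?_).2
  have := norm_eq_zero_of_sum hΛ hZ hZk hσ hcop hΛZ (F := ρ y - 1)
    ((commute_sumRep (H1.le_normalizer_commutator (zpowers_le.mpr hy)
      (H1.le_normalizer_of_le_centralizer (by
        rw [centralizer_zpowers_eq, zpowers_le]
        exact mem_centralizer_singleton_iff.mpr hyσ)) (mem_zpowers y))).sub_left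
      (Commute.one_left _))
    (fun l hl h => by rw [LinearMap.sub_apply, hnf l hl h, End.one_apply, sub_self])
    (sumRep_eq_zero_of_wsp hσ hσμ hv)
  rwa [LinearMap.sub_apply, End.one_apply, sub_eq_zero] at this

theorem mem_wstab_of_span {Λ : Set V} (hΛ : Submodule.span k Λ = ⊤) {Z : Subgroup X}
    (hZ : IsMulCommutative Z) (hZk : (Nat.card Z : k) ≠ 0) {σ : X} {r : ℕ} (hr : r.Prime)
    (hσ1 : σ ^ r = 1) (hσ : σ ∈ normalizer (Z : Set X)) (hcop : (orderOf σ).Coprime (Nat.card Z))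
    (hΛZ : ∀ z ∈ Z, ∀ l ∈ Λ, ρ z l ∈ Λ) {μ : X → k} (h0 : wsp ρ Z μ ≠ ⊥)
    (hnf : ∀ l ∈ Λ, ρ σ l ≠ l → sumRep ρ (zpowers σ) l = 0) : σ ∈ wstab Z μ := by
  classical
  by_contra hσμ
  let _ := Fintype.ofFinite (zpowers σ)
  obtain ⟨v, hv, hv0⟩ := (Submodule.ne_bot_iff _).mp h0
  have h1 := norm_eq_zero_of_sum hΛ hZ hZk hσ hcop hΛZ (F := 1) (Commute.one_left _) hnf
    (sumRep_eq_zero_of_wsp hσ hσμ hv)
  rw [End.one_apply, sumRep_eq, LinearMap.sum_apply] at h1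
  have h3 := sum_filter_eq_zero Finset.univ (fun b : zpowers σ => (b : X)) (fun _ => v)
    (fun b _ => zpowers_le.mpr hσ b.2) (fun _ _ => hv) h1
  rw [Finset.sum_eq_single (1 : zpowers σ)] at h3
  · exact hv0 (by simpa using h3)
  · intro b hb hb1
    exact absurd (Subtype.ext (mem_bot.mp ((zpowers_inf_eq_bot hr hσ1 hσμ).le
      ⟨b.2, (Finset.mem_filter.mp hb).2⟩))) hb1
  · intro h4
    exact (h4 (Finset.mem_filter.mpr ⟨Finset.mem_univ _, (wstab Z μ).one_mem⟩)).elim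

theorem exists_wproj {Z : Subgroup X} {μ : X → k} (h0 : wsp ρ Z μ ≠ ⊥)
    (hZk : (Nat.card Z : k) ≠ 0) : ∃ P : End k V, (∀ v, P v ∈ wsp ρ Z μ) ∧
      (∀ v ∈ wsp ρ Z μ, P v = v) ∧ ∀ x ∈ wstab Z μ, Commute (ρ x) P := by
  let _ := Fintype.ofFinite Z
  obtain ⟨w, hw, hw0⟩ := (Submodule.ne_bot_iff _).mp h0
  have hmul : ∀ a ∈ Z, ∀ b ∈ Z, μ (a * b) = μ a * μ b := fun a ha b hb =>
    smul_left_injective k hw0 (show μ _ • w = _ • w by
      rw [← hw _ (mul_mem ha hb), rep_mul_apply, hw b hb, map_smul, hw a ha, smul_smul, mul_comm])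
  have hone : μ 1 = 1 := smul_left_injective k hw0 (show μ _ • w = _ • w by
    rw [← hw _ (one_mem Z), map_one, one_smul]; rfl)
  refine ⟨(Nat.card Z : k)⁻¹ • ∑ z : Z, μ (z : X)⁻¹ • ρ z, fun v => Submodule.smul_mem _ _ ?_,
    fun v hv => ?_, fun x hx => Commute.smul_right ?_ _⟩
  · intro a ha
    rw [LinearMap.sum_apply, map_sum, Finset.smul_sum]
    refine Fintype.sum_equiv (Equiv.mulLeft (⟨a, ha⟩ : Z)) _ _ fun z => ?_
    rw [LinearMap.smul_apply, LinearMap.smul_apply, map_smul, smul_smul, ← rep_mul_apply,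
      mul_comm, ← hmul _ (inv_mem (Equiv.mulLeft (⟨a, ha⟩ : Z) z).2) _ ha]
    simp
  · rw [LinearMap.smul_apply, LinearMap.sum_apply, Finset.sum_congr rfl (g := fun _ => v)
      fun z _ => by
        rw [LinearMap.smul_apply, hv z z.2, smul_smul, ← hmul _ (inv_mem z.2) _ z.2,
          inv_mul_cancel, hone, one_smul],
      Finset.sum_const, Finset.card_univ, ← Nat.card_eq_fintype_card, ← Nat.cast_smul_eq_nsmul k,
      smul_smul, inv_mul_cancel₀ hZk, one_smul]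
  · rw [Commute, SemiconjBy, Finset.mul_sum, Finset.sum_mul]
    refine Fintype.sum_equiv (H1.conjAutOf hx.1).toEquiv _ _ fun z => ?_
    rw [mul_smul_comm, smul_mul_assoc, ← map_mul, ← map_mul,
      ← hx.2 _ (inv_mem ((H1.conjAutOf hx.1).toEquiv z).2)]
    congr 2
    · change _ = x⁻¹ * (x * z * x⁻¹)⁻¹ * x
      group
    · change _ = x * z * x⁻¹ * x
      group

/-- The stabilizer of the line through a vector. -/
def lstab (ρ : X →* End k V) (w : V) : Subgroup X where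
  carrier := {x | ∃ c : k, ρ x w = c • w}
  one_mem' := ⟨1, by simp⟩
  mul_mem' := by
    rintro a b ⟨c, hc⟩ ⟨d, hd⟩
    exact ⟨d * c, by rw [rep_mul_apply, hd, map_smul, hc, smul_smul]⟩
  inv_mem' := by
    rintro a ⟨c, hc⟩
    by_cases h0 : c = 0
    · rw [h0, zero_smul] at hc
      exact ⟨1, by rw [rep_eq_zero ρ a hc]; simp⟩
    · exact ⟨c⁻¹, by rw [eq_comm, inv_smul_eq_iff₀ h0, ← map_smul, ← hc, rep_inv_apply]⟩

section DoubleNorm

variable {Λ : Set V} {T : Subgroup X} {σ : X} {r : ℕ} {P : End k V} {l : V}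
  (hr : r.Prime) (hσ1 : σ ^ r = 1) (hσ : σ ∈ normalizer (T : Set X))
  (hcop : r.Coprime (Nat.card T)) (hPT : ∀ x ∈ T, Commute (ρ x) P) (hPσ : Commute (ρ σ) P)
  (hT' : ⁅T, T⁆ ≤ lstab ρ (P l)) (hl : ρ σ l = l)
include hσ1 hσ hcop hPT hPσ hT' hl

theorem dn_nonfixed {t : X} (ht : t ∈ ⁅T, zpowers σ⁆ ⊔ (T ⊓ lstab ρ (P l)))
    (htD : t ∉ lstab ρ (P l)) : ρ σ (ρ t l) ≠ ρ t l := by
  intro h
  have hσD : σ ∈ lstab ρ (P l) := ⟨1, by rw [← End.mul_apply, hPσ.eq, End.mul_apply, hl, one_smul]⟩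
  have htT : t ∈ T := sup_le (H1.commutator_le_of_le_normalizer (zpowers_le.mpr hσ)) inf_le_left ht
  refine htD (inv_mem_iff.mp (mem_of_conj_mul_inv_mem hσ (le_normalizer hσD)
    (hcop.coprime_dvd_left (orderOf_dvd_of_pow_eq_one hσ1)) hT' (inv_mem ht) ⟨1, ?_⟩))
  rw [← End.mul_apply, (hPT _ (mul_mem (H1.conj_mem_of_le_normalizer (zpowers_le.mpr hσ)
    (mem_zpowers σ) (inv_mem htT)) (inv_mem (inv_mem htT)))).eq, End.mul_apply, one_smul,
    inv_inv, rep_mul_apply, rep_mul_apply, rep_mul_apply]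
  conv_lhs => rw [← h]
  rw [rep_inv_apply, rep_inv_apply, hl]

omit hPT in
include hr in
theorem dn_core {F : End k V} (hF : ∀ x ∈ ⁅T, zpowers σ⁆, x ∉ lstab ρ (P l) →
      F (sumRep ρ (zpowers σ) (ρ x (P l))) = 0) {t : X}
    (ht : t ∈ ⁅T, zpowers σ⁆ ⊔ (T ⊓ lstab ρ (P l))) (htD : t ∉ lstab ρ (P l)) :
    F (sumRep ρ (zpowers σ) (ρ t⁻¹ (sumRep ρ (zpowers σ) (ρ t (P l))))) =
      (Nat.card (zpowers σ) : k) • F (P l) := by
  let _ := Fintype.ofFinite (zpowers σ)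
  have hw : ρ σ (P l) = P l := by rw [← End.mul_apply, hPσ.eq, End.mul_apply, hl]
  have hσD : zpowers σ ≤ lstab ρ (P l) := zpowers_le.mpr ⟨1, by rw [hw, one_smul]⟩
  have htT : t ∈ T := sup_le (H1.commutator_le_of_le_normalizer (zpowers_le.mpr hσ)) inf_le_left ht
  rw [← sum_norm_conj, map_sum, Finset.sum_eq_single (1 : zpowers σ)]
  · rw [OneMemClass.coe_one, one_mul, inv_one, mul_one, rep_inv_apply,
      sumRep_apply_of_fix ρ _ fun a ha => fix_of_mem_zpowers hw ha, map_smul]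
  · intro a _ ha1
    rw [← rep_mul_apply]
    refine hF _ ?_ fun h => htD ?_
    · have := inv_mem (commutator_mem_commutator (inv_mem htT) a.2)
      rwa [commutatorElement_inv, commutatorElement_def, inv_inv] at this
    · have hza : zpowers (a : X) = zpowers σ := by
        refine le_antisymm (zpowers_le.mpr a.2) (zpowers_le.mpr ?_)
        by_contra hc
        exact ha1 (Subtype.ext (mem_bot.mp ((zpowers_inf_eq_bot hr hσ1 hc).le
          ⟨a.2, mem_zpowers _⟩)))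
      refine inv_mem_iff.mp (mem_of_conj_mul_inv_mem (zpowers_le.mpr hσ a.2)
        (le_normalizer (hσD a.2)) (hcop.coprime_dvd_left ((orderOf_dvd_of_mem_zpowers a.2).trans
          (orderOf_dvd_of_pow_eq_one hσ1))) hT' (by rw [hza]; exact inv_mem ht) (by rwa [inv_inv]))
  · exact fun h => (h (Finset.mem_univ _)).elim

include hr in
theorem dn_zero (hrk : (r : k) ≠ 0) (hΛT : ∀ x ∈ T, ρ x l ∈ Λ)
    (hnf : ∀ l ∈ Λ, ρ σ l ≠ l → P (sumRep ρ (zpowers σ) l) = 0) :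
    P l = 0 ∨ ⁅T, zpowers σ⁆ ≤ lstab ρ (P l) := by
  refine or_iff_not_imp_right.mpr fun h => ?_
  obtain ⟨t, ht, htD⟩ := SetLike.not_le_iff_exists.mp h
  have hle := H1.commutator_le_of_le_normalizer (zpowers_le.mpr hσ)
  have hF : ∀ x ∈ ⁅T, zpowers σ⁆, x ∉ lstab ρ (P l) →
      (1 : End k V) (sumRep ρ (zpowers σ) (ρ x (P l))) = 0 := fun x hx hxD => by
    rw [End.one_apply, ← End.mul_apply (ρ x), (hPT x (hle hx)).eq, End.mul_apply,
      ← End.mul_apply, ← (commute_norm hPσ.symm).eq, End.mul_apply]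
    exact hnf _ (hΛT x (hle hx)) (dn_nonfixed hσ1 hσ hcop hPT hPσ hT' hl (mem_sup_left hx) hxD)
  have h1 := dn_core hr hσ1 hσ hcop hPσ hT' hl hF (mem_sup_left ht) htD
  have h2 := hF t ht htD
  rw [End.one_apply] at h2
  rw [h2, map_zero, map_zero, map_zero, End.one_apply] at h1
  exact (smul_eq_zero.mp h1.symm).resolve_left (cast_card_zpowers_ne_zero hσ1 hrk)

include hr in
theorem dn_fix (hrk : (r : k) ≠ 0) (hΛT : ∀ x ∈ T, ρ x l ∈ Λ) (hTσ : ⁅T, zpowers σ⁆ = T) {y : X}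
    (hy : y ∈ normalizer (T : Set X)) (hyσ : Commute y σ) (hyr : (orderOf y).Coprime r)
    (hPy : Commute (ρ y) P)
    (hnf : ∀ l ∈ Λ, ρ σ l ≠ l → ρ y (sumRep ρ (zpowers σ) l) = sumRep ρ (zpowers σ) l) :
    ρ y (P l) = P l ∨ ⁅T, zpowers y⁆ ≤ lstab ρ (P l) := by
  classical
  let _ := Fintype.ofFinite (zpowers σ)
  have hw : ρ σ (P l) = P l := by rw [← End.mul_apply, hPσ.eq, End.mul_apply, hl]
  have hσD : zpowers σ ≤ lstab ρ (P l) := zpowers_le.mpr ⟨1, by rw [hw, one_smul]⟩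
  have hF : ∀ x ∈ T, x ∉ lstab ρ (P l) →
      (ρ y - 1) (sumRep ρ (zpowers σ) (ρ x (P l))) = 0 := fun x hx hxD => by
    rw [← End.mul_apply (ρ x), (hPT x hx).eq, End.mul_apply,
      ← End.mul_apply (sumRep ρ _), ← (commute_norm hPσ.symm).eq, End.mul_apply, LinearMap.sub_apply,
      ← End.mul_apply (ρ y), hPy.eq, End.mul_apply, hnf _ (hΛT x hx)
        (dn_nonfixed hσ1 hσ hcop hPT hPσ hT' hl (mem_sup_left (hTσ.ge hx)) hxD), End.one_apply,
      sub_self]
  refine or_iff_not_imp_left.mpr fun hne => ?_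
  have key : ∀ t ∈ T, t ∉ lstab ρ (P l) → ∃ a ∈ zpowers σ,
      a * (y * t⁻¹ * y⁻¹) * a⁻¹ * t ∈ lstab ρ (P l) := by
    intro t ht htD
    by_contra hc
    push Not at hc
    have h1 := dn_core hr hσ1 hσ hcop hPσ hT' hl (fun x hx => hF x (hTσ.le hx))
      (mem_sup_left (hTσ.ge ht)) htD
    have h2 := hF t ht htD
    rw [LinearMap.sub_apply, End.one_apply, sub_eq_zero] at h2
    have hN := (commute_norm (hyσ.map ρ)).eq
    have h3 : ρ y (sumRep ρ (zpowers σ) (ρ t⁻¹ (sumRep ρ (zpowers σ) (ρ t (P l))))) =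
        sumRep ρ (zpowers σ) (ρ (y * t⁻¹ * y⁻¹) (sumRep ρ (zpowers σ) (ρ t (P l)))) := by
      rw [← End.mul_apply, hN, End.mul_apply, rep_mul_apply, rep_mul_apply]
      conv_rhs => rw [← h2]
      rw [rep_inv_apply]
    have h4 : (ρ y - 1) (ρ y (sumRep ρ (zpowers σ) (ρ t⁻¹
        (sumRep ρ (zpowers σ) (ρ t (P l)))))) = 0 := by
      rw [h3, ← sum_norm_conj, map_sum]
      refine Finset.sum_eq_zero fun a _ => ?_
      rw [← rep_mul_apply]
      exact hF _ (mul_mem (H1.conj_mem_of_le_normalizer (zpowers_le.mpr hσ) a.2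
        (H1.conj_mem_of_le_normalizer (zpowers_le.mpr hy) (mem_zpowers y) (inv_mem ht))) ht)
        (hc a a.2)
    rw [LinearMap.sub_apply, End.one_apply, sub_eq_zero] at h4
    rw [LinearMap.sub_apply, End.one_apply, rep_injective ρ y h4, sub_self, eq_comm,
      smul_eq_zero, LinearMap.sub_apply, End.one_apply, sub_eq_zero] at h1
    exact hne (h1.resolve_left (cast_card_zpowers_ne_zero hσ1 hrk))
  set D := T ⊓ lstab ρ (P l) with hD
  have hσD' : zpowers σ ≤ normalizer (D : Set X) :=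
    H1.le_normalizer_inf (zpowers_le.mpr hσ) (hσD.trans le_normalizer)
  have hyD : y ∈ normalizer (D : Set X) := by
    refine inv_mem_iff.mp (mem_normalizer_fintype fun s hs => ?_)
    have hsT := H1.conj_mem_of_le_normalizer (zpowers_le.mpr hy) (inv_mem (mem_zpowers y)) hs.1
    refine ⟨hsT, ?_⟩
    by_contra hc
    obtain ⟨a, ha, h⟩ := key _ hsT hc
    refine hc (((lstab ρ (P l)).mul_mem_cancel_left ?_).mp h)
    have := (H1.conj_mem_of_le_normalizer hσD' ha (inv_mem hs)).2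
    simpa [mul_assoc] using this
  refine le_trans (b := D) ?_ inf_le_right
  refine H1.commutator_zpowers_le hyD fun t ht => ?_
  by_cases htD : t ∈ lstab ρ (P l)
  · rw [show ⁅t, y⁆ = t * (y * t⁻¹ * y⁻¹) by simp [commutatorElement_def, mul_assoc]]
    exact mul_mem ⟨ht, htD⟩ (H1.conj_mem_of_le_normalizer (zpowers_le.mpr hyD) (mem_zpowers y)
      (inv_mem ⟨ht, htD⟩))
  · obtain ⟨a, ha, h⟩ := key t⁻¹ (inv_mem ht) (by rwa [inv_mem_iff])
    have hay : Commute a y := by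
      obtain ⟨n, rfl⟩ := ha
      exact (hyσ.zpow_right n).symm
    have har : a ^ r = 1 :=
      orderOf_dvd_iff_pow_eq_one.mp ((orderOf_dvd_of_mem_zpowers ha).trans
        (orderOf_dvd_of_pow_eq_one hσ1))
    refine H1.commutatorElement_mem_of_mem_zpowers (mul_mem (hσD' ha) hyD) ?_
      (mem_of_pow_mem_of_coprime (n := r) (by
        have := npow_mem_zpowers (a * y) r
        rwa [hay.mul_pow, har, one_mul] at this) hyr)
    rw [← commutatorElement_inv]
    refine inv_mem (mem_inf.mpr ⟨mul_mem (H1.conj_mem_of_le_normalizer le_rfl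
      (mul_mem (zpowers_le.mpr hσ ha) hy) ht) (inv_mem ht), ?_⟩)
    simpa [commutatorElement_def, mul_assoc] using h

end DoubleNorm

end Cfsg.Agent.H9
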