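import Cfsg.Agent.H9.Tur5

/-! The dual module of a section with its spanning set, and the local lemmas on a subspace. -/

set_option autoImplicit false
open Subgroup Module Cfsg
open scoped commutatorElement

namespace Cfsg.Agent.H9

universe u v

section Dual

variable {X : Type u} [Group X]

theorem exists_additive {p : ℕ} [Fact p.Prime] (K : Type*) [Field K] [Algebra (ZMod p) K]
    {T M : Subgroup X} (h1 : ⁅T, T⁆ ≤ M) (h2 : ∀ x ∈ T, x ^ p ∈ M) {s : T} (hs : (s : X) ∉ M) :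
    ∃ f : T → K, (∀ a b, f (a * b) = f a + f b) ∧ (∀ t : T, (t : X) ∈ M → f t = 0) ∧ f s ≠ 0 := by
  have hc : _root_.commutator T ≤ M.subgroupOf T :=
    map_le_iff_le_comap.mp ((map_subtype_commutator T).le.trans h1)
  haveI : (M.subgroupOf T).Normal := Normal.of_commutator_le _ hc
  letI : CommGroup (T ⧸ M.subgroupOf T) :=
    { QuotientGroup.Quotient.group _ with
      mul_comm := (Normal.quotient_commutative_iff_commutator_le.mpr hc).is_comm.comm }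
  have he : ∀ v : T ⧸ M.subgroupOf T, v ^ p = 1 := fun v => by
    obtain ⟨v, rfl⟩ := QuotientGroup.mk_surjective v
    rw [← QuotientGroup.mk_pow, QuotientGroup.eq_one_iff]
    exact h2 v v.2
  obtain ⟨φ, hφ⟩ := H1.exists_dual_apply_eq_one (k := ZMod p) (v := H1.eaOf he (s : T ⧸ M.subgroupOf T))
    fun h => hs ((QuotientGroup.eq_one_iff s).mp (H1.eaOf_eq_zero he |>.mp h))
  refine ⟨fun t => algebraMap (ZMod p) K (φ (H1.eaOf he (t : T ⧸ M.subgroupOf T))),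
    fun a b => ?_, fun t ht => ?_, ?_⟩
  · rw [← map_add, ← map_add, ← H1.eaOf_mul]; rfl
  · have : (t : T ⧸ M.subgroupOf T) = 1 := (QuotientGroup.eq_one_iff t).mpr ht
    simp only [this]; simp
  · simp [hφ]

theorem additive_one {T K : Type*} [Group T] [AddCommGroup K] {f : T → K}
    (hf : ∀ a b, f (a * b) = f a + f b) : f 1 = 0 := by
  simpa using hf 1 1

theorem additive_inv {T K : Type*} [Group T] [AddCommGroup K] {f : T → K}
    (hf : ∀ a b, f (a * b) = f a + f b) (a : T) : f a⁻¹ = - f a := by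
  have := hf a a⁻¹
  rw [mul_inv_cancel, additive_one hf] at this
  exact (neg_eq_of_add_eq_zero_right this.symm).symm

/-- The kernel of an additive function on a subgroup. -/
def addKer {T : Subgroup X} {K : Type*} [AddCommGroup K] {f : T → K}
    (hf : ∀ a b, f (a * b) = f a + f b) : Subgroup X where
  carrier := {x | ∃ h : x ∈ T, f ⟨x, h⟩ = 0}
  one_mem' := ⟨T.one_mem, additive_one hf⟩
  mul_mem' := by
    rintro a b ⟨ha, h1⟩ ⟨hb, h2⟩
    exact ⟨T.mul_mem ha hb, by simpa [h1, h2] using hf ⟨a, ha⟩ ⟨b, hb⟩⟩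
  inv_mem' := by
    rintro a ⟨ha, h1⟩
    exact ⟨T.inv_mem ha, (additive_inv hf ⟨a, ha⟩).trans (by rw [h1, neg_zero])⟩

variable [Finite X]

/-- An invariant additive function vanishing on the fixed points vanishes. -/
theorem additive_eq_zero {T : Subgroup X} {K : Type*} [AddCommGroup K] {f : T → K}
    (hf : ∀ a b, f (a * b) = f a + f b) {σ : X} (hσ : σ ∈ normalizer (T : Set X))
    (hcop : (Nat.card (zpowers σ)).Coprime (Nat.card T)) (hT : Group.IsSolvable T)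
    (h1 : ∀ t, f (H1.conjAutOf hσ t) = f t)
    (h2 : ∀ t : T, (t : X) ∈ centralizer {σ} → f t = 0) : f = 0 := by
  have h3 : T ≤ addKer hf := by
    refine (H1.commutator_sup_centralizer (zpowers_le.mpr hσ) hcop (Or.inr hT)).ge.trans
      (sup_le (H1.commutator_zpowers_le (mem_normalizer_fintype ?_) fun t ht => ?_) ?_)
    · rintro x ⟨hx, h⟩
      exact ⟨(H1.conjAutOf hσ ⟨x, hx⟩).2, (h1 ⟨x, hx⟩).trans h⟩
    · refine ⟨(⟨t, ht⟩ * H1.conjAutOf hσ ⟨t, ht⟩⁻¹ : T).2 |> fun h => by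
        simpa [commutatorElement_def, mul_assoc, H1.coe_conjAutOf] using h, ?_⟩
      have := hf ⟨t, ht⟩ (H1.conjAutOf hσ ⟨t, ht⟩⁻¹)
      rw [h1, additive_inv hf, add_neg_cancel] at this
      rw [← this]
      congr 1
      exact Subtype.ext (by simp [commutatorElement_def, mul_assoc, H1.coe_conjAutOf])
    · rw [centralizer_zpowers_eq]
      exact fun x hx => ⟨hx.1, h2 ⟨x, hx.1⟩ hx.2⟩
  funext t
  exact (h3 t.2).2

theorem exists_dual {p : ℕ} [hp : Fact p.Prime] {T B : Subgroup X} (hT : IsPGroup p T)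
    (hB : B ≤ normalizer (T : Set X)) (hpow : ∀ x ∈ T, x ^ p ∈ ⁅T, T⁆) (𝓜 : Set (Subgroup X))
    (m1 : ∀ M ∈ 𝓜, ⁅T, T⁆ ≤ M) (m2 : ∀ x ∈ T, (∀ M ∈ 𝓜, x ∈ M) → x ∈ ⁅T, T⁆)
    (m3 : ∀ g ∈ B, ∀ M ∈ 𝓜, ∃ M' ∈ 𝓜, ∀ x ∈ T, x ∈ M' → g⁻¹ * x * g ∈ M) :
    ∃ (V : Type u) (_ : AddCommGroup V) (_ : Module (AlgebraicClosure (ZMod p)) V)
      (_ : FiniteDimensional (AlgebraicClosure (ZMod p)) V)
      (ρ : B →* End (AlgebraicClosure (ZMod p)) V) (Λ : Set V),
      Submodule.span (AlgebraicClosure (ZMod p)) Λ = ⊤ ∧ (∀ x, ∀ l ∈ Λ, ρ x l ∈ Λ) ∧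
      (∀ x : B, (x : X) ∈ centralizer (T : Set X) → ρ x = 1) ∧
      (∀ x : B, ρ x = 1 → ∀ t ∈ T, ⁅t, (x : X)⁆ ∈ ⁅T, T⁆) ∧
      ∀ σ : B, (Nat.card (zpowers (σ : X))).Coprime (Nat.card T) → ∀ l ∈ Λ, ρ σ l ≠ l →
        ∃ M ∈ 𝓜, ¬ ⁅T, zpowers (σ : X)⁆ ≤ M ∧
          (T ⊓ centralizer {(σ : X)} ≤ M → sumRep ρ (zpowers σ) l = 0) ∧
          ∀ y : B, Commute y σ → ⁅T ⊓ centralizer {(σ : X)}, zpowers (y : X)⁆ ≤ M →
            ρ y (sumRep ρ (zpowers σ) l) = sumRep ρ (zpowers σ) l := by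
  set K := AlgebraicClosure (ZMod p)
  let φ := H1.conjAut hB
  let ρ₀ : B →* End K (T → K) :=
    { toFun := fun g => LinearMap.funLeft K K (φ g⁻¹)
      map_one' := by ext f t; simp [LinearMap.funLeft]
      map_mul' := fun g h => by ext f t; simp [LinearMap.funLeft] }
  have hρ₀ : ∀ g f t, ρ₀ g f t = f (φ g⁻¹ t) := fun _ _ _ => rfl
  have hφ : ∀ (g : B) (t : T), (φ g⁻¹ t : X) = (g : X)⁻¹ * t * g := fun g t => by
    rw [H1.coe_conjAut]; simp
  let Λ₀ : Set (T → K) :=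
    {f | (∀ a b, f (a * b) = f a + f b) ∧ ∃ M ∈ 𝓜, ∀ t : T, (t : X) ∈ M → f t = 0}
  have hΛ₀ : ∀ g, ∀ f ∈ Λ₀, ρ₀ g f ∈ Λ₀ := by
    rintro g f ⟨hf, M, hM, hfM⟩
    obtain ⟨M', hM', h⟩ := m3 g g.2 M hM
    refine ⟨fun a b => by simp only [hρ₀, map_mul, hf], M', hM', fun t ht => hfM _ ?_⟩
    rw [hφ]; exact h t t.2 ht
  have hU : ∀ g, ∀ f ∈ Submodule.span K Λ₀, ρ₀ g f ∈ Submodule.span K Λ₀ := fun g f hf =>
    (Submodule.span_le (p := (Submodule.span K Λ₀).comap (ρ₀ g))).mpr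
      (fun f hf => Submodule.subset_span (hΛ₀ g f hf)) hf
  have hadd : ∀ f ∈ Submodule.span K Λ₀, ∀ a b, f (a * b) = f a + f b := fun f hf => by
    induction hf using Submodule.span_induction with
    | mem f hf => exact hf.1
    | zero => simp
    | add f g _ _ hf hg => intro a b; simp only [Pi.add_apply, hf, hg]; abel
    | smul c f _ hf => intro a b; simp only [Pi.smul_apply, hf, smul_add]
  set ρ := H1.restrictRep ρ₀ _ hU with hρ
  have hρa : ∀ g (f : Submodule.span K Λ₀) t, (ρ g f : T → K) t = (f : T → K) (φ g⁻¹ t) :=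
    fun _ _ _ => rfl
  refine ⟨Submodule.span K Λ₀, inferInstance, inferInstance, inferInstance, ρ,
    Subtype.val ⁻¹' Λ₀, Submodule.span_span_coe_preimage, fun x l hl => hΛ₀ x l hl,
    fun x hx => ?_, fun x hx t ht => ?_, fun σ hcop l hl hne => ?_⟩
  · ext f t
    rw [hρa, show φ x⁻¹ = 1 from (H1.mem_ker_conjAut hB).mpr (inv_mem hx)]
    rfl
  · have hx' : ρ x⁻¹ = 1 := by
      have := H1.rep_inv_mul ρ x
      rwa [hx, mul_one] at this
    have he : ⁅t, (x : X)⁆ = ((⟨t, ht⟩ * φ x ⟨t, ht⟩⁻¹ : T) : X) := by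
      simp [φ, commutatorElement_def, mul_assoc, H1.coe_conjAut]
    rw [he]
    refine m2 _ (Subtype.prop _) fun M hM => ?_
    by_contra hc
    obtain ⟨f, hf, hfM, hfs⟩ := exists_additive K (m1 M hM) (fun x hx => m1 M hM (hpow x hx)) hc
    have := hρa x⁻¹ ⟨f, Submodule.subset_span ⟨hf, M, hM, hfM⟩⟩ ⟨t, ht⟩⁻¹
    rw [hx', inv_inv] at this
    change f _ = f _ at this
    rw [hf, ← this, additive_inv hf, add_neg_cancel] at hfs
    exact hfs rfl
  · obtain ⟨hf, M, hM, hfM⟩ := hl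
    let _ := Fintype.ofFinite (zpowers σ)
    have hTs : Group.IsSolvable T := H1.isSolvable_of_isPGroup hT
    have key : ∀ ψ : Submodule.span K Λ₀, ρ σ ψ = ψ →
        (∀ t : T, (t : X) ∈ centralizer {(σ : X)} → (ψ : T → K) t = 0) → ψ = 0 := fun ψ h1 h2 =>
      Subtype.ext (additive_eq_zero (hadd _ ψ.2) (hB σ.2) hcop hTs (fun t => by
        have := hρa σ ψ (H1.conjAutOf (hB σ.2) t)
        rw [h1] at this
        rw [this]
        exact congrArg (ψ : T → K) (Subtype.ext (by rw [hφ, H1.coe_conjAutOf]; group))) h2)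
    have hN : ∀ t : T, (t : X) ∈ centralizer {(σ : X)} →
        (sumRep ρ (zpowers σ) l : T → K) t = Nat.card (zpowers σ) • (l : T → K) t := fun t ht => by
      rw [sumRep_eq, LinearMap.sum_apply, Submodule.coe_sum, Finset.sum_apply,
        Finset.sum_congr rfl (g := fun _ => (l : T → K) t) fun a _ => ?_, Finset.sum_const,
        Finset.card_univ, Nat.card_eq_fintype_card]
      rw [hρa]
      obtain ⟨n, hn⟩ := a.2
      have h1 : Commute (t : X) ((a : B) : X) := by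
        rw [← hn]
        exact (show Commute (t : X) σ from mem_centralizer_singleton_iff.mp ht).zpow_right n
      exact congrArg (l : T → K) (Subtype.ext (by rw [hφ, mul_assoc, h1.eq, inv_mul_cancel_left]))
    refine ⟨M, hM, fun h => hne ?_, fun h => key _ (rep_sumRep_apply ρ _ (mem_zpowers σ) l)
      fun t ht => ?_, fun y hy h => sub_eq_zero.mp (key _ ?_ fun t ht => ?_)⟩
    · ext t
      have h1 := hfM (t⁻¹ * φ σ⁻¹ t) (h (by
        rw [Subgroup.coe_mul, hφ]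
        simpa [commutatorElement_def, mul_assoc] using
          commutator_mem_commutator (inv_mem t.2) (inv_mem (mem_zpowers (σ : X)))))
      rw [hf, additive_inv hf, neg_add_eq_zero] at h1
      rw [hρa, ← h1]
    · rw [hN t ht, hfM t (h ⟨t.2, ht⟩), smul_zero]
    · rw [map_sub, ← rep_mul_apply, ← hy.eq, rep_mul_apply,
        rep_sumRep_apply ρ _ (mem_zpowers σ) l]
    · have h0 : ((φ y⁻¹ t : T) : X) ∈ centralizer {(σ : X)} := by
        have h2 : Commute (y : X) σ := congrArg Subtype.val hy.eq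
        have h3 : Commute (t : X) σ := mem_centralizer_singleton_iff.mp ht
        rw [H1.coe_conjAut]
        exact mem_centralizer_singleton_iff.mpr
          ((h2.inv_left.mul_left h3).mul_left h2.inv_left.inv_left).eq
      have h1 := hfM (t⁻¹ * φ y⁻¹ t) (h (by
        rw [Subgroup.coe_mul, hφ]
        simpa [commutatorElement_def, mul_assoc] using
          commutator_mem_commutator (inv_mem (mem_inf.mpr ⟨t.2, ht⟩))
            (inv_mem (mem_zpowers (y : X)))))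
      rw [hf, additive_inv hf, neg_add_eq_zero] at h1
      rw [Submodule.coe_sub, Pi.sub_apply, hρa, hN _ h0, hN t ht, ← h1, sub_self]

end Dual

section Local

variable {k : Type*} {V : Type v} [Field k] [AddCommGroup V] [Module k V] {X : Type u} [Group X]
  [Finite X] {ρ : X →* End k V} [IsAlgClosed k] [FiniteDimensional k V]

theorem nf_fixer {p q r : ℕ} (hp : p.Prime) (hq : q.Prime) (hr : r.Prime) (hqp : q ≠ p)
    (hqr : q ≠ r) (hpr : p ≠ r) (hpk : (p : k) ≠ 0) (hrk : (r : k) ≠ 0) {T T₀ : Subgroup X}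
    (hT : IsPGroup p T) (hT₀ : IsPGroup q T₀) {σ : X} (hσ1 : σ ^ r = 1)
    (hσ : σ ∈ normalizer (T : Set X)) (hσ₀ : σ ∈ normalizer (T₀ : Set X))
    (hT₀T : T₀ ≤ normalizer (T : Set X)) (hc : ⁅T, T₀⁆ = T) {L : Subgroup X} (hTL : T ≤ L)
    (hT₀L : T₀ ≤ L) (hσL : σ ∈ L) {W : Submodule k V} (hW : ∀ x ∈ L, ∀ u ∈ W, ρ x u ∈ W)
    (hW0 : W ≠ ⊥) (hT' : ∀ z ∈ ⁅T, T⁆, ∃ c : k, ∀ u ∈ W, ρ z u = c • u)
    (H : (∃ w ∈ W, w ≠ 0 ∧ ∀ x ∈ ⁅T, zpowers σ⁆, ρ x w = w) ∨ ∀ v ∈ W, ρ σ v = v → v = 0) :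
    ⁅⁅T, zpowers σ⁆, T⁆ ≤ fixer ρ W := by
  obtain ⟨N, hN, ρ', hNL, hρ', hap, hmem⟩ := exists_local ρ L W hW
  haveI : Nontrivial W := Submodule.nontrivial_iff_ne_bot.mpr hW0
  have hz := H1.bar_zpowers (N := N) (⟨σ, hσL⟩ : L)
  have hzL : zpowers σ ≤ L := zpowers_le.mpr hσL
  have hE : ⁅T, zpowers σ⁆ ≤ T := H1.commutator_le_of_le_normalizer (zpowers_le.mpr hσ)
  have := nf_loc hρ' hp hq hr hqp hqr hpr hpk hrk (H1.isPGroup_bar (Y := L) (N := N) hT)
    (H1.isPGroup_bar hT₀) (σ := H1.qmk L N ⟨σ, hσL⟩)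
    (by rw [← map_pow, show (⟨σ, hσL⟩ : L) ^ r = 1 from Subtype.ext hσ1, map_one])
    (zpowers_le.mp (hz ▸ H1.bar_le_normalizer (zpowers_le.mpr hσ)))
    (zpowers_le.mp (hz ▸ H1.bar_le_normalizer (zpowers_le.mpr hσ₀)))
    (H1.bar_le_normalizer hT₀T) (by rw [← H1.bar_commutator hTL hT₀L, hc])
    (by
      rw [← H1.bar_commutator hTL hTL]
      intro z hz
      obtain ⟨y, hy, rfl⟩ := H1.mem_bar.mp hz
      obtain ⟨c, hc⟩ := hT' y hy
      exact ⟨c, LinearMap.ext fun u => Subtype.ext ((hap y u).trans (hc u u.2))⟩)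
    (H.imp (by
      rintro ⟨w, hw, hw0, h⟩
      refine ⟨⟨w, hw⟩, fun h => hw0 (congrArg Subtype.val h), fun x hx => ?_⟩
      rw [← hz, ← H1.bar_commutator hTL hzL] at hx
      obtain ⟨y, hy, rfl⟩ := H1.mem_bar.mp hx
      exact Subtype.ext ((hap y _).trans (h y hy))) fun h v hv =>
        Subtype.ext (h v v.2 ((hap _ v).symm.trans (congrArg Subtype.val hv))))
  rw [← hz, ← H1.bar_commutator hTL hzL, ← H1.bar_commutator (hE.trans hTL) hTL,
    H1.bar_eq_bot_iff ((commutator_mono hE le_rfl).trans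
      ((H1.commutator_le_of_le_normalizer le_normalizer).trans hTL))] at this
  exact fun x hx => (hmem x (hNL (this hx))).mp (this hx)

theorem l2_fixer {p q r : ℕ} (hp : p.Prime) (hq : q.Prime) (hr : r.Prime) (hqp : q ≠ p)
    (hqr : q ≠ r) (hpr : p ≠ r) (hpk : (p : k) ≠ 0) (hrk : (r : k) ≠ 0) {T A Y : Subgroup X}
    (hT : IsPGroup p T) (hA : IsPGroup q A) {σ : X} (hσ1 : σ ^ r = 1)
    (hσ : σ ∈ normalizer (T : Set X)) (hAT : A ≤ normalizer (T : Set X))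
    (hAσ : A ≤ centralizer {σ}) (hC : T ⊓ centralizer {σ} ≤ ⁅T, T⁆) (hc : ⁅T, A⁆ = T)
    (hY : Y ≤ normalizer (T : Set X)) (hAY : ⁅A, Y⁆ = A) {L : Subgroup X} (hTL : T ≤ L)
    (hAL : A ≤ L) (hYL : Y ≤ L) (hσL : σ ∈ L) {W : Submodule k V}
    (hW : ∀ x ∈ L, ∀ u ∈ W, ρ x u ∈ W) (hT' : ∀ z ∈ ⁅T, T⁆, ∃ c : k, ∀ u ∈ W, ρ z u = c • u)
    (hfix : ∀ v ∈ W, ρ σ v = v → ∀ y ∈ A, ρ y v = v) : ⁅T, T⁆ ≤ fixer ρ W := by
  by_contra hne
  obtain ⟨N, hN, ρ', hNL, hρ', hap, hmem⟩ := exists_local ρ L W hW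
  haveI : Nontrivial W := Submodule.nontrivial_iff_ne_bot.mpr (wsp_ne_bot_of_not_le hne)
  have hz := H1.bar_zpowers (N := N) (⟨σ, hσL⟩ : L)
  have hzL : zpowers σ ≤ L := zpowers_le.mpr hσL
  have hT'L : ⁅T, T⁆ ≤ L := (H1.commutator_le_of_le_normalizer le_normalizer).trans hTL
  have hsc : H1.bar L N ⁅T, T⁆ ≤ H1.scalarSub ρ' := by
    intro z hz
    obtain ⟨y, hy, rfl⟩ := H1.mem_bar.mp hz
    obtain ⟨c, hc⟩ := hT' y hy
    exact ⟨c, LinearMap.ext fun u => Subtype.ext ((hap y u).trans (hc u u.2))⟩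
  refine l2 hρ' hp hq hr hqp hqr hpr hpk hrk (H1.isPGroup_bar (Y := L) (N := N) hT)
    (H1.isPGroup_bar hA) (σ := H1.qmk L N ⟨σ, hσL⟩)
    (by rw [← map_pow, show (⟨σ, hσL⟩ : L) ^ r = 1 from Subtype.ext hσ1, map_one])
    (zpowers_le.mp (hz ▸ H1.bar_le_normalizer (zpowers_le.mpr hσ)))
    (H1.bar_le_normalizer hAT) ?_ (by rwa [← H1.bar_commutator hTL hTL]) ?_
    (by rw [← H1.bar_commutator hTL hAL, hc]; exact le_sup_left) ?_ ?_
    (Or.inr ⟨_, H1.bar_le_normalizer hY, by rw [← H1.bar_commutator hAL hYL, hAY]⟩)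
  · rw [← centralizer_zpowers_eq, ← hz, H1.bar_le_centralizer_iff hAL hzL, commutator_comm,
      H1.commutator_eq_bot_iff_le_centralizer'.mpr (hAσ.trans (centralizer_zpowers_eq σ).ge)]
    exact bot_le
  · rw [← centralizer_zpowers_eq, ← hz, H1.bar_inf_centralizer_bar hzL hTL (zpowers_le.mpr hσ)
      (coprime_card_zpowers hσ1 (coprime_card_of_isPGroup' hp hT
        ((Nat.coprime_primes hr hp).mpr hpr.symm))) (Or.inr (isSolvable_of_isPGroup' hp hT)),
      centralizer_zpowers_eq]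
    exact (H1.bar_mono hC).trans hsc
  · rw [← H1.bar_commutator hTL hTL, Ne, H1.bar_eq_bot_iff hT'L]
    exact fun h => hne fun x hx => (hmem x (hNL (h hx))).mp (h hx)
  · intro v hv y hy
    obtain ⟨y, hy', rfl⟩ := H1.mem_bar.mp hy
    exact Subtype.ext ((hap y v).trans
      (hfix v v.2 ((hap _ v).symm.trans (congrArg Subtype.val hv)) y hy'))

end Local

end Cfsg.Agent.H9
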