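import Cfsg.Agent.H9.Tur6

/-! The two cases of the inductive step for the Fitting height of fixed points. -/

set_option autoImplicit false
open Subgroup Module Cfsg
open scoped commutatorElement

namespace Cfsg.Agent.H9

universe u v

variable {k : Type*} {V : Type v} [Field k] [AddCommGroup V] [Module k V] {X : Type u} [Group X]
  [Finite X] {ρ : X →* End k V}

/-- The standing hypotheses. -/
structure TCtx (ρ : X →* End k V) (G : Subgroup X) (σ : X) (r : ℕ) (Λ : Set V) : Prop where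
  hr : r.Prime
  hσ1 : σ ^ r = 1
  hσG : σ ∈ normalizer (G : Set X)
  sol : Group.IsSolvable G
  cop : r.Coprime (Nat.card G)
  hrk : (r : k) ≠ 0
  span : Submodule.span k Λ = ⊤
  inv : ∀ x ∈ G, ∀ l ∈ Λ, ρ x l ∈ Λ

/-- The fixed points of `σ` that fix the norms of the non-fixed members of `Λ`. -/
def tK (ρ : X →* End k V) (G : Subgroup X) (σ : X) (Λ : Set V) : Subgroup X where
  carrier := {y | y ∈ G ⊓ centralizer {σ} ∧
    ∀ l ∈ Λ, ρ σ l ≠ l → ρ y (sumRep ρ (zpowers σ) l) = sumRep ρ (zpowers σ) l}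
  one_mem' := ⟨one_mem _, fun _ _ _ => by simp⟩
  mul_mem' {a b} ha hb := ⟨mul_mem ha.1 hb.1, fun l hl h => by
    rw [rep_mul_apply, hb.2 l hl h, ha.2 l hl h]⟩
  inv_mem' {a} ha := ⟨inv_mem ha.1, fun l hl h => by
    conv_lhs => rw [← ha.2 l hl h]
    rw [rep_inv_apply]⟩

/-- The first hypothesis of the inductive statement. -/
def THyp (ρ : X →* End k V) (G : Subgroup X) (σ : X) (Λ : Set V) (t : ℕ) : ℕ → Prop
  | 0 => ∀ l ∈ Λ, ρ σ l ≠ l → sumRep ρ (zpowers σ) l = 0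
  | m + 1 => PMod t (res m (G ⊓ centralizer {σ})) (tK ρ G σ Λ)

variable {G : Subgroup X} {σ : X} {r : ℕ} {Λ : Set V}

theorem TCtx.le_normalizer_tK (c : TCtx ρ G σ r Λ) :
    G ⊓ centralizer {σ} ≤ normalizer (tK ρ G σ Λ : Set X) := fun x hx =>
  mem_normalizer_fintype fun y hy => ⟨mul_mem (mul_mem hx hy.1) (inv_mem hx), fun l hl h => by
    have hc : Commute x⁻¹ σ := (show Commute x σ from mem_centralizer_singleton_iff.mp hx.2).inv_left
    have h1 := LinearMap.congr_fun (commute_norm (hc.map ρ)).eq l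
    rw [End.mul_apply, End.mul_apply] at h1
    rw [rep_mul_apply, rep_mul_apply, h1, hy.2 _ (c.inv _ (inv_mem hx.1) l hl) fun h2 => h ?_, ← h1,
      rep_apply_inv]
    rw [← rep_mul_apply, ← hc.eq, rep_mul_apply] at h2
    exact rep_injective ρ _ h2⟩

theorem TCtx.res_le_tK (c : TCtx ρ G σ r Λ) {t n : ℕ} (ht : t.Prime) (h : THyp ρ G σ Λ t n) :
    res n (G ⊓ centralizer {σ}) ≤ tK ρ G σ Λ := by
  rcases n with _ | m
  · exact fun y hy => ⟨hy, fun l hl hne => by rw [h l hl hne, map_zero]⟩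
  · exact PMod.nres_le ht h ((res_le _ _).trans c.le_normalizer_tK)

theorem TCtx.ne (c : TCtx ρ G σ r Λ) {p : ℕ} (hp : p.Prime) {T : Subgroup X} (hT : IsPGroup p T)
    (hTG : T ≤ G) (h : T ≠ ⊥) : p ≠ r := by
  haveI := Fact.mk hp
  rintro rfl
  rcases hT.card_eq_or_dvd with h1 | h1
  · exact h (card_eq_one.mp h1)
  · exact hp.one_lt.ne' (Nat.eq_one_of_dvd_coprimes c.cop dvd_rfl (h1.trans (card_dvd_of_le hTG)))

theorem commutator_le_res_succ {U B H : Subgroup X} {n : ℕ} (hU : U ≤ H) (hB : B ≤ res n H)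
    (hBU : B ≤ normalizer (U : Set X)) (hcop : (Nat.card B).Coprime (Nat.card U)) :
    ⁅U, B⁆ ≤ res (n + 1) H := by
  refine le_nres_of_commutator (commutator_le_of_le_of_le_normalizer hB
    (hU.trans (self_le_normalizer_res n H))) ?_
  conv_lhs => rw [← H1.commutator_commutator_eq hBU hcop]
  exact commutator_mono le_rfl hB

omit [Finite X] in
theorem le_wstab_of_commutator_le {Z Y : Subgroup X} {μ : X → k}
    (hY : Y ≤ normalizer (Z : Set X)) (h0 : wsp ρ Z μ ≠ ⊥) (h : ⁅Z, Y⁆ ≤ fixer ρ (wsp ρ Z μ)) :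
    Y ≤ wstab Z μ := by
  obtain ⟨v, hv, hv0⟩ := (Submodule.ne_bot_iff _).mp h0
  refine fun y hy => ⟨hY hy, fun z hz => smul_left_injective k hv0 ?_⟩
  change μ _ • v = μ _ • v
  rw [← hv _ (H1.conj_mem_of_le_normalizer' hY hy hz), ← hv z hz,
    show y⁻¹ * z * y = z * ⁅z⁻¹, y⁻¹⁆ by simp [commutatorElement_def, mul_assoc],
    rep_mul_apply, h (commutator_mem_commutator (inv_mem hz) (inv_mem hy)) v hv]

omit [Finite X] in
theorem mem_fixer_of_fix_vec {Z : Subgroup X} {μ : X → k} {z : X} (hz : z ∈ Z) {w : V}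
    (hw : w ∈ wsp ρ Z μ) (hw0 : w ≠ 0) (h : ρ z w = w) : z ∈ fixer ρ (wsp ρ Z μ) := by
  have h1 : μ z = 1 := smul_left_injective k hw0 (show μ z • w = (1 : k) • w by
    rw [← hw z hz, h, one_smul])
  intro v hv
  rw [hv z hz, h1, one_smul]

omit [Finite X] in
theorem commutator_lstab_le (w : V) : ⁅lstab ρ w, lstab ρ w⁆ ≤ H1.vecStab ρ w := by
  refine commutator_le.mpr fun x hx y hy => H1.mem_vecStab.mpr ?_
  obtain ⟨a, ha⟩ := inv_mem hx
  obtain ⟨b, hb⟩ := inv_mem hy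
  have h1 : ρ y⁻¹ (ρ x⁻¹ w) = ρ x⁻¹ (ρ y⁻¹ w) := by
    rw [ha, hb, map_smul, map_smul, ha, hb, smul_comm]
  rw [commutatorElement_def, rep_mul_apply, rep_mul_apply, rep_mul_apply, ← h1, rep_apply_inv,
    rep_apply_inv]

theorem le_normalizer_commStab {A T M : Subgroup X} (hT : A ≤ normalizer (T : Set X))
    (hM : A ≤ normalizer (M : Set X)) : A ≤ normalizer (H1.commStab T M : Set X) := fun a ha =>
  mem_normalizer_fintype fun x hx => H1.mem_commStab.mpr ⟨H1.conj_mem_of_le_normalizer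
    (H1.le_normalizer_normalizer hM) ha (H1.mem_commStab.mp hx).1, fun g hg => by
      have := H1.conj_mem_of_le_normalizer hM ha ((H1.mem_commStab.mp hx).2 _
        (H1.conj_mem_of_le_normalizer' hT ha hg))
      simpa [commutatorElement_def, mul_assoc] using this⟩

variable [IsAlgClosed k] [FiniteDimensional k V]

theorem TCtx.nf (c : TCtx ρ G σ r Λ) {p q : ℕ} (hp : p.Prime) (hq : q.Prime) (hqp : q ≠ p)
    (hqr : q ≠ r) (hpr : p ≠ r) (hpk : (p : k) ≠ 0) {T T₀ Z : Subgroup X} (hT : IsPGroup p T)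
    (hT₀ : IsPGroup q T₀) (hTG : T ≤ G) (hσ : σ ∈ normalizer (T : Set X))
    (hσ₀ : σ ∈ normalizer (T₀ : Set X)) (hT₀T : T₀ ≤ normalizer (T : Set X)) (hc : ⁅T, T₀⁆ = T)
    (hZ1 : ⁅T, T⁆ ≤ Z) (hZT : Z ≤ T) (hTZ : T ≤ centralizer (Z : Set X))
    (hT₀Z : T₀ ≤ centralizer (Z : Set X)) {μ : X → k} (hσμ : σ ∈ wstab Z μ) (h0 : wsp ρ Z μ ≠ ⊥)
    (H : (∀ l ∈ Λ, ρ σ l ≠ l → sumRep ρ (zpowers σ) l = 0) ∨
      ¬ Z ⊓ tK ρ G σ Λ ≤ fixer ρ (wsp ρ Z μ)) :
    ⁅⁅T, zpowers σ⁆, T⁆ ≤ fixer ρ (wsp ρ Z μ) := by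
  obtain ⟨P, hP1, hP2, hP3⟩ := exists_wproj h0
    (H1.cast_card_ne_zero_of_isPGroup hp (hT.to_le hZT) hpk)
  have hTL : T ≤ wstab Z μ := hTZ.trans centralizer_le_wstab
  have hnf : ∀ l ∈ Λ, ρ σ l ≠ l → P (sumRep ρ (zpowers σ) l) = 0 := fun l hl hne => by
    rcases H with H | H
    · rw [H l hl hne, map_zero]
    · obtain ⟨z, hz, hz1⟩ := SetLike.not_le_iff_exists.mp H
      by_contra h
      refine hz1 (mem_fixer_of_fix_vec hz.1 (hP1 _) h ?_)
      rw [← End.mul_apply, (hP3 z (hTL (hZT hz.1))).eq, End.mul_apply, hz.2.2 l hl hne]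
  have hcop : r.Coprime (Nat.card T) := c.cop.coprime_dvd_right (card_dvd_of_le hTG)
  refine nf_fixer hp hq c.hr hqp hqr hpr hpk c.hrk hT hT₀ c.hσ1 hσ hσ₀ hT₀T hc hTL
    (hT₀Z.trans centralizer_le_wstab) hσμ (fun x hx u hu => apply_mem_wsp hx hu) h0
    (fun z hz => ⟨μ z, fun u hu => hu z (hZ1 hz)⟩) ?_
  by_cases h : ∃ l ∈ Λ, ρ σ l = l ∧ P l ≠ 0
  · obtain ⟨l, hl, hfx, hl0⟩ := h
    have h1 := (dn_zero c.hr c.hσ1 hσ hcop (fun x hx => hP3 x (hTL hx)) (hP3 σ hσμ)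
      (fun z hz => ⟨μ z, hP1 l z (hZ1 hz)⟩) hfx c.hrk (fun x hx => c.inv x (hTG hx) l hl)
      hnf).resolve_left hl0
    refine Or.inl ⟨P l, hP1 l, hl0, fun x hx => H1.mem_vecStab.mp (commutator_lstab_le _ ?_)⟩
    rw [← H1.commutator_commutator_eq (zpowers_le.mpr hσ) (coprime_card_zpowers c.hσ1 hcop)] at hx
    have h2 : σ ∈ lstab ρ (P l) :=
      ⟨1, by rw [← End.mul_apply, (hP3 σ hσμ).eq, End.mul_apply, hfx, one_smul]⟩
    exact commutator_mono h1 (zpowers_le.mpr h2) hx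
  · push Not at h
    have hN := (commute_norm (hP3 σ hσμ).symm).eq
    have h1 : P * sumRep ρ (zpowers σ) = 0 := LinearMap.ext_on c.span fun l hl => by
      by_cases hfx : ρ σ l = l
      · rw [hN, End.mul_apply, h l hl hfx, map_zero]; rfl
      · exact hnf l hl hfx
    refine Or.inr fun v hv hfx => ?_
    have h2 := LinearMap.congr_fun h1 v
    rw [hN, End.mul_apply, hP2 v hv, sumRep_apply_of_fix ρ _ fun a ha =>
      fix_of_mem_zpowers hfx ha] at h2
    exact (smul_eq_zero.mp h2).resolve_left (cast_card_zpowers_ne_zero c.hσ1 c.hrk)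

theorem TCfg.ne₀ {p q n : ℕ} {A G T₀ T : Subgroup X} (f : TCfg p q n A G T₀ T) : T₀ ≠ ⊥ :=
  fun h => f.ne (by rw [← f.comm, h, commutator_bot_right])

theorem TCfg.T₀T {p q n : ℕ} {A G T₀ T : Subgroup X} (f : TCfg p q n A G T₀ T) :
    T₀ ≤ normalizer (T : Set X) := (f.T₀res.trans (res_le _ _)).trans f.GT

theorem TCfg.cop {p q n : ℕ} (hp : p.Prime) {A G T₀ T : Subgroup X} (f : TCfg p q n A G T₀ T) :
    (Nat.card T₀).Coprime (Nat.card T) := by
  haveI := Fact.mk hp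
  haveI := Fact.mk f.hq
  exact IsPGroup.coprime_card_of_ne q p f.hqp _ _ f.T₀q f.Tp

/-- The fixed vectors in a weight space are fixed by the upper group. -/
theorem TCtx.fix (c : TCtx ρ G σ r Λ) {p q : ℕ} (hp : p.Prime) (hq : q.Prime) (hqp : q ≠ p)
    (hqr : q ≠ r) (hpk : (p : k) ≠ 0) {T T₀ Z : Subgroup X} (hT : IsPGroup p T)
    (hT₀ : IsPGroup q T₀) (hTG : T ≤ G) (hσ : σ ∈ normalizer (T : Set X))
    (hT₀T : T₀ ≤ normalizer (T : Set X)) (hc : ⁅T, T₀⁆ = T) (hTσ : ⁅T, zpowers σ⁆ = T)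
    (hK : T₀ ≤ tK ρ G σ Λ) (hZ1 : ⁅T, T⁆ ≤ Z) (hZT : Z ≤ T) (hTZ : T ≤ centralizer (Z : Set X))
    (hT₀Z : T₀ ≤ centralizer (Z : Set X)) {μ : X → k} (hσμ : σ ∈ wstab Z μ)
    (hne : ¬ ⁅T, T⁆ ≤ fixer ρ (wsp ρ Z μ)) :
    ∀ v ∈ wsp ρ Z μ, ρ σ v = v → ∀ y ∈ T₀, ρ y v = v := by
  obtain ⟨P, hP1, hP2, hP3⟩ := exists_wproj (wsp_ne_bot_of_not_le hne)
    (H1.cast_card_ne_zero_of_isPGroup hp (hT.to_le hZT) hpk)
  have hTL : T ≤ wstab Z μ := hTZ.trans centralizer_le_wstab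
  have hT₀L : T₀ ≤ wstab Z μ := hT₀Z.trans centralizer_le_wstab
  have hcop : r.Coprime (Nat.card T) := c.cop.coprime_dvd_right (card_dvd_of_le hTG)
  set F := fixer ρ (wsp ρ Z μ) with hF
  have hFn : wstab Z μ ≤ normalizer (F : Set X) := wstab_le_normalizer_fixer
  have hM : T₀ ≤ normalizer (H1.commStab T F : Set X) :=
    le_normalizer_commStab hT₀T (hT₀L.trans hFn)
  have hN := (commute_norm (hP3 σ hσμ).symm).eq
  have key : ∀ y ∈ T₀, y ∉ H1.commStab T (H1.commStab T F) →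
      ∀ v ∈ wsp ρ Z μ, ρ σ v = v → ρ y v = v := by
    intro y hy hyB v hv hfx
    have hyσ : Commute y σ := mem_centralizer_singleton_iff.mp (hK hy).1.2
    have hPy := hP3 y (hT₀L hy)
    have h1 : (ρ y - 1) * (P * sumRep ρ (zpowers σ)) = 0 := LinearMap.ext_on c.span fun l hl => by
      rw [End.mul_apply, LinearMap.sub_apply, End.one_apply, LinearMap.zero_apply, sub_eq_zero]
      by_cases hl1 : ρ σ l = l
      swap
      · rw [End.mul_apply, ← End.mul_apply (ρ y), hPy.eq, End.mul_apply, (hK hy).2 l hl hl1]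
      have hw : ρ σ (P l) = P l := by rw [← End.mul_apply, (hP3 σ hσμ).eq, End.mul_apply, hl1]
      rw [hN, End.mul_apply, sumRep_apply_of_fix ρ _ fun a ha => fix_of_mem_zpowers hw ha, map_smul]
      congr 1
      by_cases hl0 : P l = 0
      · rw [hl0, map_zero]
      refine (dn_fix c.hr c.hσ1 hσ hcop (fun x hx => hP3 x (hTL hx)) (hP3 σ hσμ)
        (fun z hz => ⟨μ z, hP1 l z (hZ1 hz)⟩) hl1 c.hrk (fun x hx => c.inv x (hTG hx) l hl) hTσ
        (hT₀T hy) hyσ (coprime_orderOf_of_isPGroup c.hr hq hqr hT₀ hy) hPy (hK hy).2).resolve_right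
        fun h => hyB (H1.le_commStab_iff.mpr ⟨zpowers_le.mpr (hM hy), ?_⟩ (mem_zpowers y))
      have hB : zpowers y ≤ normalizer (T : Set X) := zpowers_le.mpr (hT₀T hy)
      have hE := H1.commutator_le_of_le_normalizer hB
      refine H1.le_commStab_iff.mpr ⟨(hE.trans hTL).trans hFn, ?_⟩
      rw [commutator_comm]
      refine (commutator_commutator_le hB (by
        rw [Nat.card_zpowers]
        exact coprime_card_of_isPGroup' hp hT (coprime_orderOf_of_isPGroup hp hq hqp hT₀ hy))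
        (isSolvable_of_isPGroup' hp hT) ((zpowers_le.mpr (hT₀Z hy)).trans
          (centralizer_le (SetLike.coe_mono hZ1)))).trans fun z hz => ?_
      exact mem_fixer_of_fix_vec (hZ1 (commutator_mono hE hE hz)) (hP1 l) hl0
        (commutator_lstab_le _ (commutator_mono h h hz))
    have h2 := LinearMap.congr_fun h1 v
    rw [hN, End.mul_apply, End.mul_apply, hP2 v hv, sumRep_apply_of_fix ρ _ fun a ha =>
      fix_of_mem_zpowers hfx ha, map_smul] at h2
    have h3 := (smul_eq_zero.mp h2).resolve_left (cast_card_zpowers_ne_zero c.hσ1 c.hrk)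
    rwa [LinearMap.sub_apply, End.one_apply, sub_eq_zero] at h3
  obtain ⟨y', hy', hy'B⟩ := SetLike.not_le_iff_exists.mp
    (show ¬ T₀ ≤ H1.commStab T (H1.commStab T F) from fun h =>
      hne (H1.le_commStab_iff.mp (hc.ge.trans (H1.le_commStab_iff.mp h).2)).2)
  intro v hv hfx y hy
  by_cases hyB : y ∈ H1.commStab T (H1.commStab T F)
  · have := key (y * y') (mul_mem hy hy') (fun h => hy'B ((mul_mem_cancel_left hyB).mp h)) v hv hfx
    rwa [rep_mul_apply, key y' hy' hy'B v hv hfx] at this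
  · exact key y hy hyB v hv hfx

theorem TCtx.drop_false (c : TCtx ρ G σ r Λ) (hρ : ∀ x, ρ x = 1 → x = 1) {t : ℕ} (ht : t.Prime)
    [CharP k t] {n : ℕ} (h1 : THyp ρ G σ Λ t n)
    (h2 : PMod t (res (n + 1) (G ⊓ centralizer {σ})) ⊥) {p : ℕ} (hp : p.Prime) (hpt : p ≠ t)
    {T' : Subgroup X} (hT' : IsPGroup p T') (hT'G : T' ≤ G) (hσT' : σ ∈ normalizer (T' : Set X))
    (h : ¬ PMod p (res n (G ⊓ centralizer {σ} ⊓ normalizer (T' : Set X)))
      (centralizer (T' : Set X))) : False := by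
  haveI := Fact.mk hp
  obtain ⟨q, G₂, T₀, T, hG₂, hTT', f⟩ := exists_tcfg (A := zpowers σ)
    (H1.isSolvable_of_le (inf_le_left.trans inf_le_left) c.sol)
    (H1.le_normalizer_of_le_centralizer (le_centralizer_iff.mp
      ((inf_le_left.trans inf_le_right).trans (centralizer_zpowers_eq σ).ge)))
    (coprime_card_zpowers c.hσ1 (c.cop.coprime_dvd_right
      (card_dvd_of_le (inf_le_left.trans inf_le_left)))) hp hT' inf_le_right
    (zpowers_le.mpr hσT') h
  have hG₂C : G₂ ≤ G ⊓ centralizer {σ} := hG₂.trans inf_le_left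
  have hTG : T ≤ G := hTT'.trans hT'G
  have hσ : σ ∈ normalizer (T : Set X) := f.AT (mem_zpowers σ)
  have hT₀C : T₀ ≤ res n (G ⊓ centralizer {σ}) := f.T₀res.trans (res_mono n hG₂C)
  have hT₀K : T₀ ≤ tK ρ G σ Λ := hT₀C.trans (c.res_le_tK ht h1)
  have hT₀σ : T₀ ≤ centralizer {σ} := (hT₀C.trans (res_le _ _)).trans inf_le_right
  have hpk : (p : k) ≠ 0 := H1.cast_ne_zero_of_prime_ne ht hp hpt
  have hpr := c.ne hp f.Tp hTG f.ne
  have hqr := c.ne f.hq f.T₀q ((hT₀C.trans (res_le _ _)).trans inf_le_left) f.ne₀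
  have hcop : r.Coprime (Nat.card T) := c.cop.coprime_dvd_right (card_dvd_of_le hTG)
  have hC : T ⊓ centralizer {σ} ≤ ⁅T, T⁆ := by
    have hn : T₀ ≤ normalizer ((T ⊓ centralizer {σ} : Subgroup X) : Set X) :=
      H1.le_normalizer_inf f.T₀T (hT₀σ.trans le_normalizer)
    have h3 := h2.le_of_isPGroup ht hp hpt
      (f.Tp.to_le ((H1.commutator_le_of_le_normalizer hn).trans inf_le_left))
      (commutator_le_res_succ (inf_le_inf_right _ hTG) hT₀C hn
        (H1.coprime_of_le (f.cop hp) le_rfl inf_le_left))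
    exact (le_inf inf_le_left (le_centralizer_iff.mp
      (H1.commutator_eq_bot_iff_le_centralizer'.mp (le_bot_iff.mp h3)))).trans f.cle
  have hTσ : ⁅T, zpowers σ⁆ = T := by
    refine H1.eq_of_sup_frattini (H1.commutator_le_of_le_normalizer f.AT)
      ((H1.commutator_sup_centralizer f.AT (coprime_card_zpowers c.hσ1 hcop)
        (Or.inr (isSolvable_of_isPGroup' hp f.Tp))).ge.trans (sup_le_sup_left ?_ _))
    rw [centralizer_zpowers_eq]
    exact hC.trans (H1.commutator_le_frattiniOf f.Tp.isNilpotent)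
  set Z := T ⊓ centralizer (T : Set X) with hZ
  have hZc : IsMulCommutative Z := isMulCommutative_center_of T
  have hZk := H1.cast_card_ne_zero_of_isPGroup (k := k) hp (f.Tp.to_le (inf_le_left : Z ≤ T)) hpk
  have hTZ : T ≤ centralizer (Z : Set X) := le_centralizer_center_of T
  have hσZ : zpowers σ ≤ normalizer (Z : Set X) := le_normalizer_center_of f.AT
  have hst : ∀ μ : X → k, ¬ T ≤ fixer ρ (wsp ρ Z μ) → σ ∈ wstab Z μ := fun μ hμ => by
    by_contra hσμ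
    refine hμ (f.comm.ge.trans (commutator_le_of_le_of_le_normalizer (fun y hy => ?_)
      ((hTZ.trans centralizer_le_wstab).trans wstab_le_normalizer_fixer)))
    exact mem_wstab_fixer_of_span c.span hZc hZk c.hr c.hσ1 (hσZ (mem_zpowers σ))
      ((hcop.coprime_dvd_left (orderOf_dvd_of_pow_eq_one c.hσ1)).coprime_dvd_right
        (card_dvd_of_le inf_le_left)) (fun z hz => c.inv z (hTG hz.1)) hσμ
      (wsp_ne_bot_of_not_le hμ) (le_normalizer_center_of f.T₀T hy)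
      (mem_centralizer_singleton_iff.mp (hT₀σ hy))
      (coprime_orderOf_of_isPGroup c.hr f.hq hqr f.T₀q hy) (hT₀K hy).2
  have hZσ : Z ≤ centralizer {σ} := by
    rw [← centralizer_zpowers_eq, le_centralizer_iff, ← H1.commutator_eq_bot_iff_le_centralizer',
      ← le_bot_iff, ← ker_eq_bot_of_faithful hρ]
    by_contra hc
    have hle := H1.commutator_le_of_le_normalizer hσZ
    obtain ⟨μ, hμ⟩ := exists_wsp hZc hle
      (H1.cast_card_ne_zero_of_isPGroup hp (f.Tp.to_le (hle.trans inf_le_left)) hpk) hc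
    exact hμ ((commutator_mono le_rfl (zpowers_le.mpr (hst μ fun h =>
      hμ ((hle.trans inf_le_left).trans h)))).trans (commutator_le_fixer hZc))
  have hT1 : ⁅T, T⁆ ≠ ⊥ := fun hb => f.ne (le_bot_iff.mp (((le_inf le_rfl ((le_inf le_rfl
    (H1.commutator_eq_bot_iff_le_centralizer'.mp hb)).trans hZσ)).trans hC).trans hb.le))
  have hZ1 : ⁅T, T⁆ ≤ Z := le_inf (H1.commutator_le_of_le_normalizer le_normalizer) f.c2
  have hT₀Z : T₀ ≤ centralizer (Z : Set X) :=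
    f.cent.trans (centralizer_le (SetLike.coe_mono (f.zle hT1)))
  obtain ⟨μ, hμ⟩ := exists_wsp (ρ := ρ) hZc hZ1
    (H1.cast_card_ne_zero_of_isPGroup hp (f.Tp.to_le (hZ1.trans inf_le_left)) hpk)
    (by rw [ker_eq_bot_of_faithful hρ, le_bot_iff]; exact hT1)
  have h0 := wsp_ne_bot_of_not_le hμ
  have hσμ := hst μ fun h => hμ ((hZ1.trans inf_le_left).trans h)
  have hnf := c.nf hp f.hq f.hqp hqr hpr hpk f.Tp f.T₀q hTG hσ (f.AT₀ (mem_zpowers σ)) f.T₀T f.comm
    hZ1 inf_le_left hTZ hT₀Z hσμ h0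
  rw [hTσ] at hnf
  rcases n with _ | m
  · exact hμ (hnf (Or.inl h1))
  have hYC : res m G₂ ≤ res m (G ⊓ centralizer {σ}) := res_mono m hG₂C
  have hYT : res m G₂ ≤ normalizer (T : Set X) := (res_le _ _).trans f.GT
  have hYZ := le_normalizer_center_of hYT
  have hle := H1.commutator_le_of_le_normalizer hYZ
  have hY : res m G₂ ≤ wstab Z μ := by
    refine le_wstab_of_commutator_le hYZ h0 ?_
    by_contra hc
    refine hμ (hnf (Or.inr fun h => hc ((le_inf hle ?_).trans h)))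
    exact PMod.le_of_isPGroup h1 ht hp hpt (f.Tp.to_le (hle.trans inf_le_left))
      (commutator_le_of_le_of_le_normalizer hYC ((le_inf (inf_le_left.trans hTG) hZσ).trans
        (self_le_normalizer_res m _)))
  exact hμ (l2_fixer hp f.hq c.hr f.hqp hqr hpr hpk c.hrk f.Tp f.T₀q c.hσ1 hσ f.T₀T hT₀σ hC f.comm
    hYT (f.comm₀ m rfl) (hTZ.trans centralizer_le_wstab) (hT₀Z.trans centralizer_le_wstab) hY hσμ
    (fun x hx u hu => apply_mem_wsp hx hu) (fun z hz => ⟨μ z, fun u hu => hu z (hZ1 hz)⟩)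
    (c.fix hp f.hq f.hqp hqr hpk f.Tp f.T₀q hTG hσ f.T₀T f.comm hTσ hT₀K hZ1 inf_le_left hTZ hT₀Z
      hσμ hμ))

end Cfsg.Agent.H9
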