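import Cfsg.Agent.H9.Tur7
import Cfsg.Agent.H9.FpfAut

/-! The Fitting height of a solvable group and of the fixed points of a coprime automorphism of
prime order. -/

set_option autoImplicit false
open Subgroup Module Cfsg
open scoped commutatorElement

namespace Cfsg.Agent.H9

universe u v

theorem three_mod {X : Type*} [Group X] {A B C F : Subgroup X} (hA : A ≤ normalizer (F : Set X))
    (hB : B ≤ normalizer (F : Set X)) (hC : C ≤ normalizer (F : Set X)) (h1 : ⁅⁅B, C⁆, A⁆ ≤ F)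
    (h2 : ⁅⁅C, A⁆, B⁆ ≤ F) : ⁅⁅A, B⁆, C⁆ ≤ F := by
  haveI := H1.normal_subgroupOf_of_le (Y := normalizer (F : Set X)) (N := F) le_rfl
  have hc : ∀ {U W : Subgroup X}, U ≤ normalizer (F : Set X) → W ≤ normalizer (F : Set X) →
      ⁅U, W⁆ ≤ normalizer (F : Set X) := fun hU hW =>
    (commutator_mono hU hW).trans (H1.commutator_le_of_le_normalizer le_normalizer)
  rw [← H1.bar_eq_bot_iff (hc (hc hB hC) hA), H1.bar_commutator (hc hB hC) hA,
    H1.bar_commutator hB hC] at h1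
  rw [← H1.bar_eq_bot_iff (hc (hc hC hA) hB), H1.bar_commutator (hc hC hA) hB,
    H1.bar_commutator hC hA] at h2
  rw [← H1.bar_eq_bot_iff (hc (hc hA hB) hC), H1.bar_commutator (hc hA hB) hC,
    H1.bar_commutator hA hB]
  exact commutator_commutator_eq_bot_of_rotate h1 h2

theorem commutator_lt_of_pmod {X : Type*} [Group X] [Finite X] {p : ℕ} (hp : p.Prime)
    {T R : Subgroup X} (hT : IsPGroup p T) (hT1 : T ≠ ⊥) (hR : R ≤ normalizer (T : Set X))
    (h : PMod p R (centralizer (T : Set X))) : ⁅T, R⁆ < T := by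
  haveI := Fact.mk hp
  obtain ⟨P, hPR, hP, hPi⟩ := H1.exists_sylow_le p R
  have h1 : R ≤ P ⊔ centralizer (T : Set X) := H1.le_of_forall_exists_sylow_le fun s hs => by
    by_cases hsp : s = p
    · exact ⟨P, hsp ▸ hPi, le_sup_left⟩
    · haveI := Fact.mk hs
      obtain ⟨S, hSR, hS, hSi⟩ := H1.exists_sylow_le s R
      exact ⟨S, hSi, (h.le_of_isPGroup hp hs hsp hS hSR).trans le_sup_right⟩
  have hPT := hPR.trans hR
  haveI := (hP.to_sup_of_normal_right' hT hPT).isNilpotent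
  refine lt_of_le_of_lt ((commutator_mono le_rfl h1).trans (H1.commutator_sup_le
    H1.le_normalizer_commutator_self (H1.le_normalizer_of_le_centralizer (centralizer_le
      (SetLike.coe_mono (H1.commutator_le_of_le_normalizer hPT)))) le_rfl
    ((H1.commutator_eq_bot_iff_le_centralizer'.mpr le_rfl).le.trans bot_le))) ?_
  exact lt_of_le_of_lt (commutator_mono le_rfl le_sup_left)
    (L.commutator_lt_of_isNilpotent le_sup_right (H1.sup_le_normalizer_of_le hPT) hT1)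

section

variable {k : Type*} {V : Type v} [Field k] [AddCommGroup V] [Module k V] {X : Type u} [Group X]
  [Finite X] {ρ : X →* End k V} {G : Subgroup X} {σ : X} {r : ℕ} {Λ : Set V}
  [IsAlgClosed k] [FiniteDimensional k V]

theorem TCtx.exists_family (c : TCtx ρ G σ r Λ) (hρ : ∀ x, ρ x = 1 → x = 1) {p q n : ℕ}
    (hp : p.Prime) (hpk : (p : k) ≠ 0) {G₂ T₀ T : Subgroup X} (hG₂ : G₂ ≤ G) (hTG : T ≤ G)
    (f : TCfg p q n (zpowers σ) G₂ T₀ T) :
    ∃ 𝓜 : Set (Subgroup X), (∀ M ∈ 𝓜, ⁅T, T⁆ ≤ M) ∧ (∀ x ∈ T, (∀ M ∈ 𝓜, x ∈ M) → x ∈ ⁅T, T⁆) ∧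
      (∀ g ∈ normalizer (T : Set X), ∀ M ∈ 𝓜, ∃ M' ∈ 𝓜, ∀ x ∈ T, x ∈ M' → g⁻¹ * x * g ∈ M) ∧
      (∀ M ∈ 𝓜, ⁅T, zpowers σ⁆ ≤ M ∨ tK ρ G σ Λ ⊓ T ≤ M) ∧
      ((∀ l ∈ Λ, ρ σ l ≠ l → sumRep ρ (zpowers σ) l = 0) → ∀ M ∈ 𝓜, ⁅T, zpowers σ⁆ ≤ M) := by
  have hσ : σ ∈ normalizer (T : Set X) := f.AT (mem_zpowers σ)
  have hpr := c.ne hp f.Tp hTG f.ne
  have hqr := c.ne f.hq f.T₀q ((f.T₀res.trans (res_le _ _)).trans hG₂) f.ne₀
  have hcop : r.Coprime (Nat.card T) := c.cop.coprime_dvd_right (card_dvd_of_le hTG)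
  set Z := T ⊓ centralizer (T : Set X) with hZ
  have hZc : IsMulCommutative Z := isMulCommutative_center_of T
  have hZk := H1.cast_card_ne_zero_of_isPGroup (k := k) hp (f.Tp.to_le (inf_le_left : Z ≤ T)) hpk
  have hTZ : T ≤ centralizer (Z : Set X) := le_centralizer_center_of T
  have hσZ : zpowers σ ≤ normalizer (Z : Set X) := le_normalizer_center_of f.AT
  have hcZ : (orderOf σ).Coprime (Nat.card Z) :=
    (hcop.coprime_dvd_left (orderOf_dvd_of_pow_eq_one c.hσ1)).coprime_dvd_right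
      (card_dvd_of_le inf_le_left)
  have hΛZ : ∀ z ∈ Z, ∀ l ∈ Λ, ρ z l ∈ Λ := fun z hz => c.inv z (hTG hz.1)
  have hone : ∀ z ∈ Z, (∀ μ : X → k, wsp ρ Z μ ≠ ⊥ → z ∈ fixer ρ (wsp ρ Z μ)) → z = 1 := by
    intro z hz h
    by_contra hz1
    obtain ⟨μ, hμ⟩ := exists_wsp (ρ := ρ) hZc (zpowers_le.mpr hz) (H1.cast_card_ne_zero_of_isPGroup
      hp (f.Tp.to_le (zpowers_le.mpr hz.1)) hpk) fun h => hz1 (hρ z (h (mem_zpowers z)))
    exact hμ (zpowers_le.mpr (h μ (wsp_ne_bot_of_not_le hμ)))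
  have hK : ∀ μ : X → k, wsp ρ Z μ ≠ ⊥ → σ ∉ wstab Z μ →
      tK ρ G σ Λ ⊓ T ≤ fixer ρ (wsp ρ Z μ) := fun μ h0 hσμ y hy =>
    mem_wstab_fixer_of_span c.span hZc hZk c.hr c.hσ1 (hσZ (mem_zpowers σ)) hcZ hΛZ hσμ h0
      (H1.le_normalizer_of_le_centralizer hTZ hy.2) (mem_centralizer_singleton_iff.mp hy.1.1.2)
      (coprime_orderOf_of_isPGroup c.hr hp hpr f.Tp hy.2) hy.1.2
  have hσc : ∀ μ : X → k, σ ∈ wstab Z μ → ⁅Z, zpowers σ⁆ ≤ fixer ρ (wsp ρ Z μ) := fun μ h =>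
    (commutator_mono le_rfl (zpowers_le.mpr h)).trans (commutator_le_fixer hZc)
  have hst : (∀ l ∈ Λ, ρ σ l ≠ l → sumRep ρ (zpowers σ) l = 0) → ∀ μ : X → k, wsp ρ Z μ ≠ ⊥ →
      σ ∈ wstab Z μ := fun h μ h0 =>
    mem_wstab_of_span c.span hZc hZk c.hr c.hσ1 (hσZ (mem_zpowers σ)) hcZ hΛZ h0 h
  by_cases hT1 : ⁅T, T⁆ = ⊥
  · have hZT : T ≤ Z := le_inf le_rfl (H1.commutator_eq_bot_iff_le_centralizer'.mp hT1)
    refine ⟨{M | ∃ μ : X → k, wsp ρ Z μ ≠ ⊥ ∧ M = fixer ρ (wsp ρ Z μ)}, fun M _ => hT1.le.trans bot_le,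
      fun x hx h => ?_, ?_, ?_, ?_⟩
    · rw [hone x (hZT hx) fun μ h0 => h _ ⟨μ, h0, rfl⟩]; exact one_mem _
    · rintro g hg _ ⟨μ, h0, rfl⟩
      have hgZ := le_normalizer_center_of le_rfl hg
      exact ⟨_, ⟨_, wsp_conj_ne_bot hgZ h0, rfl⟩, fun x _ hx => mem_fixer_conj hgZ hx⟩
    · rintro _ ⟨μ, h0, rfl⟩
      by_cases hσμ : σ ∈ wstab Z μ
      · exact Or.inl ((commutator_mono hZT le_rfl).trans (hσc μ hσμ))
      · exact Or.inr (hK μ h0 hσμ)
    · rintro h _ ⟨μ, h0, rfl⟩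
      exact (commutator_mono hZT le_rfl).trans (hσc μ (hst h μ h0))
  have hZ1 : ⁅T, T⁆ ≤ Z := le_inf (H1.commutator_le_of_le_normalizer le_normalizer) f.c2
  have hT₀Z : T₀ ≤ centralizer (Z : Set X) :=
    f.cent.trans (centralizer_le (SetLike.coe_mono (f.zle hT1)))
  have hTn : ∀ μ : X → k, T ≤ normalizer (fixer ρ (wsp ρ Z μ) : Set X) := fun μ =>
    (hTZ.trans centralizer_le_wstab).trans wstab_le_normalizer_fixer
  have hE : ⁅T, zpowers σ⁆ ≤ T := H1.commutator_le_of_le_normalizer f.AT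
  have hnf : ∀ μ : X → k, σ ∈ wstab Z μ → wsp ρ Z μ ≠ ⊥ →
      ((∀ l ∈ Λ, ρ σ l ≠ l → sumRep ρ (zpowers σ) l = 0) ∨
        ¬ Z ⊓ tK ρ G σ Λ ≤ fixer ρ (wsp ρ Z μ)) →
      ⁅T, zpowers σ⁆ ≤ H1.commStab T (fixer ρ (wsp ρ Z μ)) := fun μ hσμ h0 H =>
    H1.le_commStab_iff.mpr ⟨hE.trans (hTn μ), by
      rw [commutator_comm]
      exact c.nf hp f.hq f.hqp hqr hpr hpk f.Tp f.T₀q hTG hσ (f.AT₀ (mem_zpowers σ)) f.T₀T f.comm
        hZ1 inf_le_left hTZ hT₀Z hσμ h0 H⟩
  refine ⟨{M | ∃ μ : X → k, wsp ρ Z μ ≠ ⊥ ∧ M = H1.commStab T (fixer ρ (wsp ρ Z μ))}, ?_,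
    fun x hx h => f.zle hT1 ⟨hx, mem_centralizer_iff.mpr fun t ht => ?_⟩, ?_, ?_, ?_⟩
  · rintro _ ⟨μ, h0, rfl⟩
    exact H1.le_commStab_iff.mpr ⟨(hZ1.trans inf_le_left).trans (hTn μ),
      (H1.commutator_eq_bot_iff_le_centralizer'.mpr f.c2).le.trans bot_le⟩
  · exact commutatorElement_eq_one_iff_mul_comm.mp (hone _ (hZ1 (commutator_mem_commutator ht hx))
      fun μ h0 => (H1.mem_commStab.mp (h _ ⟨μ, h0, rfl⟩)).2 t ht)
  · rintro g hg _ ⟨μ, h0, rfl⟩
    have hgZ := le_normalizer_center_of le_rfl hg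
    refine ⟨_, ⟨_, wsp_conj_ne_bot hgZ h0, rfl⟩, fun x hxT hx => H1.mem_commStab.mpr
      ⟨hTn μ (H1.conj_mem_of_le_normalizer' le_rfl hg hxT), fun t ht => ?_⟩⟩
    have := mem_fixer_conj hgZ ((H1.mem_commStab.mp hx).2 _
      (H1.conj_mem_of_le_normalizer le_rfl hg ht))
    simpa [commutatorElement_def, mul_assoc] using this
  · rintro _ ⟨μ, h0, rfl⟩
    by_cases hσμ : σ ∈ wstab Z μ
    swap
    · exact Or.inr (H1.le_commStab_iff.mpr ⟨inf_le_right.trans (hTn μ),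
        commutator_le_of_le_of_le_normalizer (hK μ h0 hσμ) (hTn μ)⟩)
    by_cases hZK : Z ⊓ tK ρ G σ Λ ≤ fixer ρ (wsp ρ Z μ)
    swap
    · exact Or.inl (hnf μ hσμ h0 (Or.inr hZK))
    refine Or.inr (H1.le_commStab_iff.mpr ⟨inf_le_right.trans (hTn μ), ?_⟩)
    have hKσ : tK ρ G σ Λ ⊓ T ≤ centralizer ((zpowers σ : Subgroup X) : Set X) := fun y hy =>
      (centralizer_zpowers_eq σ).ge hy.1.1.2
    have := H1.commutator_sup_le (G := tK ρ G σ Λ ⊓ T) (hE.trans (hTn μ))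
      ((inf_le_left (b := centralizer ((zpowers σ : Subgroup X) : Set X))).trans (hTn μ))
      (by
        rw [commutator_comm]
        refine three_mod (hTn μ) ((zpowers_le.mpr hσμ).trans wstab_le_normalizer_fixer)
          (inf_le_right.trans (hTn μ)) ?_ ((commutator_mono
            ((commutator_mono inf_le_right le_rfl).trans hZ1) le_rfl).trans (hσc μ hσμ))
        rw [H1.commutator_eq_bot_iff_le_centralizer'.mpr hKσ, commutator_bot_left]
        exact bot_le)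
      ((le_inf ((commutator_mono inf_le_right inf_le_left).trans hZ1)
        ((commutator_mono inf_le_left le_rfl).trans (H1.commutator_le_of_le_normalizer
          ((inf_le_inf hTG (centralizer_zpowers_eq σ).le).trans c.le_normalizer_tK)))).trans hZK)
    rwa [H1.commutator_sup_centralizer f.AT (coprime_card_zpowers c.hσ1 hcop)
      (Or.inr (isSolvable_of_isPGroup' hp f.Tp)), commutator_comm] at this
  · rintro h _ ⟨μ, h0, rfl⟩
    exact hnf μ (hst h μ h0) h0 (Or.inl h)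

end

/-- The inductive statement. -/
def TurS (n : ℕ) : Prop :=
  ∀ (X : Type u) [Group X] [Finite X] (k : Type) [Field k] [IsAlgClosed k] (V : Type u)
    [AddCommGroup V] [Module k V] [FiniteDimensional k V] (t : ℕ) [CharP k t] (ρ : X →* End k V)
    (G : Subgroup X) (σ : X) (r : ℕ) (Λ : Set V), t.Prime → TCtx ρ G σ r Λ → THyp ρ G σ Λ t n →
    PMod t (res (n + 1) (G ⊓ centralizer {σ})) ρ.ker → PMod t (res (n + 1) G) ρ.ker

theorem tur_faithful {k : Type*} {V : Type v} [Field k] [AddCommGroup V] [Module k V] {X : Type u}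
    [Group X] [Finite X] {ρ : X →* End k V} {G : Subgroup X} {σ : X} {r : ℕ} {Λ : Set V}
    [IsAlgClosed k] [FiniteDimensional k V] {n : ℕ} (ih : ∀ m, n = m + 1 → TurS.{u} m)
    (c : TCtx ρ G σ r Λ) (hρ : ∀ x, ρ x = 1 → x = 1) {t : ℕ} (ht : t.Prime) [CharP k t]
    (h1 : THyp ρ G σ Λ t n) (h2 : PMod t (res (n + 1) (G ⊓ centralizer {σ})) ⊥) :
    PMod t (res (n + 1) G) ⊥ := by
  by_contra hcon
  have hcopG := coprime_card_zpowers c.hσ1 c.cop
  obtain ⟨p, hp, hpt, T', G₁, a1, a2, a3, a4, a5, a6, a7, a8⟩ := exists_tower c.sol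
    (zpowers_le.mpr c.hσG) (le_normalizer_of_normal _ _) (le_normalizer_of_normal _ _) hcopG ht hcon
  haveI := Fact.mk hp
  obtain ⟨q, G₂, T₀, T, hG₂, hTT', f⟩ := exists_tcfg (H1.isSolvable_of_le a1 c.sol) a6
    (H1.coprime_of_le hcopG le_rfl a1) hp a3 a4 a5 (n := n) fun h =>
      (commutator_lt_of_pmod hp a3 (fun h => a8 h.le) ((res_le _ _).trans a4) h).ne a7
  have hG₂G : G₂ ≤ G := hG₂.trans a1
  have hTG : T ≤ G := hTT'.trans (a2.trans a1)
  have hσ : σ ∈ normalizer (T : Set X) := f.AT (mem_zpowers σ)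
  by_cases hd : PMod p (res n (G ⊓ centralizer {σ} ⊓ normalizer (T : Set X)))
    (centralizer (T : Set X))
  swap
  · exact c.drop_false hρ ht h1 h2 hp hpt f.Tp hTG hσ hd
  have hpk : (p : k) ≠ 0 := H1.cast_ne_zero_of_prime_ne ht hp hpt
  have hpr := c.ne hp f.Tp hTG f.ne
  have hcop := H1.coprime_of_le hcopG le_rfl hTG
  have hT₀G₂ : T₀ ≤ G₂ := f.T₀res.trans (res_le _ _)
  obtain ⟨𝓜, m1, m2, m3, m4, m5⟩ := c.exists_family hρ hp hpk hG₂G hTG f
  rcases n with _ | m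
  · have b1 : zpowers σ ≤ centralizer (T : Set X) :=
      H1.le_centralizer_of_commutator_le_commutator f.Tp.isNilpotent f.AT hcop fun x hx =>
        m2 x (H1.commutator_le_of_le_normalizer f.AT hx) fun M hM => m5 h1 M hM hx
    have b2 : T₀ ≤ centralizer (T : Set X) := by
      refine (H1.commutator_sup_centralizer f.AT₀ (H1.coprime_of_le hcopG le_rfl (hT₀G₂.trans hG₂G))
        (Or.inr (isSolvable_of_isPGroup' f.hq f.T₀q))).ge.trans (sup_le
          (commutator_le_of_le_of_le_normalizer b1 (H1.le_normalizer_centralizer f.T₀T)) ?_)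
      rw [centralizer_zpowers_eq]
      exact hd.le_of_isPGroup hp f.hq f.hqp (f.T₀q.to_le inf_le_left)
        (le_inf (inf_le_inf_right _ (hT₀G₂.trans hG₂G)) (inf_le_left.trans f.T₀T))
    exact f.ne (f.comm.symm.trans (H1.commutator_eq_bot_iff_le_centralizer'.mpr b2))
  set B := G₂ ⊔ zpowers σ with hB
  have hBT : B ≤ normalizer (T : Set X) := sup_le f.GT f.AT
  have hG₂B : G₂ ≤ B := le_sup_left
  have hσB : σ ∈ B := mem_sup_right (mem_zpowers σ)
  obtain ⟨V', _, _, _, ρ', Λ', d1, d2, d3, d4, d5⟩ := exists_dual f.Tp hBT f.pow 𝓜 m1 m2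
    fun g hg => m3 g (hBT hg)
  replace d5 := d5 ⟨σ, hσB⟩ hcop
  have hCm : ∀ j, ∀ y ∈ res j (G₂.subgroupOf B ⊓ centralizer {(⟨σ, hσB⟩ : B)}),
      (y : X) ∈ res j (G ⊓ centralizer {σ} ⊓ normalizer (T : Set X)) := fun j y hy => by
    have := mem_map_of_mem B.subtype hy
    rw [map_res] at this
    refine res_mono j ?_ this
    rintro _ ⟨x, hx, rfl⟩
    exact ⟨⟨hG₂G hx.1, mem_centralizer_singleton_iff.mpr
      (congrArg Subtype.val (mem_centralizer_singleton_iff.mp hx.2))⟩, hBT x.2⟩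
  have hfin := ih m rfl B _ V' p ρ' (G₂.subgroupOf B) ⟨σ, hσB⟩ r Λ' hp
    ⟨c.hr, Subtype.ext c.hσ1, mem_normalizer_subgroupOf hσB (f.AG (mem_zpowers σ)),
      (haveI := H1.isSolvable_of_le hG₂G c.sol;
        L.isSolvable_of_mulEquiv (subgroupOfEquivOfLe hG₂B).symm),
      by rw [card_subgroupOf hG₂B]; exact c.cop.coprime_dvd_right (card_dvd_of_le hG₂G),
      H1.cast_ne_zero_of_prime_ne hp c.hr hpr.symm, d1, fun x _ => d2 x⟩
    (by
      rcases m with _ | m
      · intro l hl hne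
        obtain ⟨M, hM, e1, e2, -⟩ := d5 l hl hne
        exact e2 ((le_inf (PMod.le_of_isPGroup h1 ht hp hpt (f.Tp.to_le inf_le_left)
          (inf_le_inf_right _ hTG)) inf_le_left).trans ((m4 M hM).resolve_left e1))
      · refine pmod_of_coprime hp fun y hy hyc => ⟨res_le _ _ hy, fun l hl hne => ?_⟩
        obtain ⟨M, hM, e1, -, e3⟩ := d5 l hl hne
        have hy' := hCm m y hy
        have hy1 := res_le _ _ hy'
        have hn : zpowers (y : X) ≤ normalizer ((T ⊓ centralizer {σ} : Subgroup X) : Set X) :=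
          H1.le_normalizer_inf (zpowers_le.mpr hy1.2) (zpowers_le.mpr (le_normalizer hy1.1.2))
        have hle := (H1.commutator_le_of_le_normalizer hn).trans inf_le_left
        refine e3 y (mem_centralizer_singleton_iff.mp (res_le _ _ hy).2) ((le_inf
          (PMod.le_of_isPGroup h1 ht hp hpt (f.Tp.to_le hle) (commutator_le_res_succ
            (inf_le_inf_right _ hTG) (zpowers_le.mpr (res_mono m inf_le_left hy')) hn ?_))
          hle).trans ((m4 M hM).resolve_left e1))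
        rw [Nat.card_zpowers, Subgroup.orderOf_coe]
        exact coprime_card_of_isPGroup' hp (f.Tp.to_le inf_le_left) hyc)
    (fun y hy => (hd y (hCm _ y hy)).imp fun e he => d3 _ he)
  have b1 : ⁅T, T₀⁆ ≤ ⁅T, T⁆ := commutator_le.mpr fun x hx y hy => by
    refine d4 ⟨y, hG₂B (hT₀G₂ hy)⟩ (hfin.mem ?_ ?_) x hx
    · have := f.T₀res hy
      rw [← map_subtype_subgroupOf hG₂B, ← map_res] at this
      obtain ⟨z, hz, rfl⟩ := this
      exact hz
    · rw [← Subgroup.orderOf_coe]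
      exact coprime_orderOf_of_isPGroup hp f.hq f.hqp f.T₀q hy
  rw [f.comm] at b1
  exact (H1.commutator_lt_of_isSolvable (isSolvable_of_isPGroup' hp f.Tp) f.ne).not_ge b1

theorem sumRep_kerRep {k V : Type*} [Field k] [AddCommGroup V] [Module k V] {X : Type*} [Group X]
    [Finite X] (ρ : X →* End k V) {A : Subgroup X} (h : A ⊓ ρ.ker = ⊥) :
    sumRep (H1.kerRep ρ) (A.map (QuotientGroup.mk' ρ.ker)) = sumRep ρ A := by
  let _ := Fintype.ofFinite A
  let _ := Fintype.ofFinite (A.map (QuotientGroup.mk' ρ.ker))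
  rw [sumRep_eq, sumRep_eq]
  refine (Fintype.sum_bijective ((QuotientGroup.mk' ρ.ker).subgroupMap A)
    ⟨(injective_iff_map_eq_one _).mpr fun a ha => ?_, MonoidHom.subgroupMap_surjective _ _⟩ _ _
    fun a => (H1.kerRep_mk ρ a).symm).symm
  exact Subtype.ext (mem_bot.mp (h.le ⟨a.2,
    (QuotientGroup.eq_one_iff _).mp (congrArg Subtype.val ha)⟩))

theorem turS (n : ℕ) : TurS.{u} n := by
  induction n using Nat.strong_induction_on with
  | _ n ih =>
  intro X _ _ k _ _ V _ _ _ t _ ρ G σ r Λ ht c h1 h2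
  set π := QuotientGroup.mk' ρ.ker with hπ
  have hcop := coprime_card_zpowers c.hσ1 c.cop
  have hC : G.map π ⊓ centralizer {π σ} = (G ⊓ centralizer {σ}).map π := by
    rw [← centralizer_zpowers_eq, ← centralizer_zpowers_eq, ← MonoidHom.map_zpowers]
    exact H1.map_inf_centralizer_map π (zpowers_le.mpr c.hσG) hcop (Or.inr c.sol)
  have h2' : PMod t (res (n + 1) (G.map π ⊓ centralizer {π σ})) ⊥ := by
    rw [hC, ← map_res, ← QuotientGroup.map_mk'_self ρ.ker]
    exact h2.map π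
  suffices h : PMod t (res (n + 1) (G.map π)) ⊥ by
    rw [← map_res] at h
    have := h.comap π
    rwa [MonoidHom.comap_bot, QuotientGroup.ker_mk'] at this
  by_cases hσ : σ ∈ ρ.ker
  · rwa [show π σ = 1 from (QuotientGroup.eq_one_iff σ).mpr hσ,
      show centralizer ({1} : Set (X ⧸ ρ.ker)) = ⊤ from
        eq_top_iff.mpr fun x _ => mem_centralizer_singleton_iff.mpr (by simp), inf_top_eq] at h2'
  have hN : sumRep (H1.kerRep ρ) (zpowers (π σ)) = sumRep ρ (zpowers σ) := by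
    rw [← MonoidHom.map_zpowers]
    exact sumRep_kerRep ρ (zpowers_inf_eq_bot c.hr c.hσ1 hσ)
  refine tur_faithful (ρ := H1.kerRep ρ) (Λ := Λ) (fun m hm => ih m (by omega))
    ⟨c.hr, by rw [← map_pow, c.hσ1, map_one], le_normalizer_map π (mem_map_of_mem π c.hσG),
      H1.isSolvable_map π c.sol, c.cop.coprime_dvd_right (L.card_map_dvd' G π), c.hrk, c.span, ?_⟩
    (H1.kerRep_eq_one ρ) ht ?_ h2'
  · rintro _ ⟨x, hx, rfl⟩
    exact c.inv x hx
  · rcases n with _ | m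
    · intro l hl hne
      rw [hN]; exact h1 l hl hne
    · change PMod t _ _
      rw [hC, ← map_res]
      refine (PMod.map π h1).mono le_rfl ?_
      rintro _ ⟨y, hy, rfl⟩
      refine ⟨hC.ge (mem_map_of_mem π hy.1), fun l hl hne => ?_⟩
      rw [hN]; exact hy.2 l hl hne

theorem res_eq_bot_of_centralizer {X : Type u} [Group X] [Finite X] {G : Subgroup X} [G.Normal]
    (hG : Group.IsSolvable G) {σ : X} {r : ℕ} (hr : r.Prime) (hσ1 : σ ^ r = 1)
    (hcop : r.Coprime (Nat.card G)) {n : ℕ} (h : res n (G ⊓ centralizer {σ}) = ⊥) :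
    res (n + 2) G = ⊥ := by
  by_contra hc
  obtain ⟨M, hMn, -, hM, hmax⟩ := exists_max_normal_not_le (N := ⊥) fun h => hc (le_bot_iff.mp h)
  set π := QuotientGroup.mk' M with hπ
  have hV := isMinNormal_map_of_max hM hmax
  haveI : Group.IsSolvable ((res (n + 2) G).map π) :=
    H1.isSolvable_map π (H1.isSolvable_of_le (res_le _ _) hG)
  obtain ⟨t, ht, hE⟩ := hV.exists_isElementaryAbelian
  haveI := Fact.mk ht
  haveI hVn : ((res (n + 2) G).map π).Normal := hV.1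
  have hEt := L.IsElementaryAbelian.isPGroup hE
  have hEG : (res (n + 2) G).map π ≤ G.map π := map_mono (res_le _ _)
  obtain ⟨V, _, _, _, ρ, r1, r2, r3, -⟩ := exists_rep_elem _ hE
  have hcop' : r.Coprime (Nat.card (G.map π)) := hcop.coprime_dvd_right (L.card_map_dvd' G π)
  have hσ1' : π σ ^ r = 1 := by rw [← map_pow, hσ1, map_one]
  have htr : r.Coprime t := by
    rcases hEt.card_eq_or_dvd with h1 | h1
    · exact absurd (card_eq_one.mp h1) hV.2.1
    · exact hcop'.coprime_dvd_right (h1.trans (card_dvd_of_le hEG))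
  have hC : res n (G.map π ⊓ centralizer {π σ}) = ⊥ := by
    rw [← centralizer_zpowers_eq, ← MonoidHom.map_zpowers, H1.map_inf_centralizer_map π
      (le_normalizer_of_normal _ _) (coprime_card_zpowers hσ1 hcop) (Or.inr hG), ← map_res,
      centralizer_zpowers_eq, h, Subgroup.map_bot]
  have hzt := coprime_card_zpowers hσ1' htr
  have := turS n _ _ V t ρ (G.map π) (π σ) r Set.univ ht
    ⟨hr, hσ1', le_normalizer_map π (mem_map_of_mem π (le_normalizer_of_normal ⊤ G (mem_top σ))),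
      H1.isSolvable_map π hG, hcop', H1.cast_ne_zero_of_coprime ht htr, Submodule.span_univ,
      fun _ _ _ _ => trivial⟩
    (by
      rcases n with _ | m
      · refine fun l _ _ => r3 _ hzt (le_bot_iff.mp ?_) _ fun a ha => rep_sumRep_apply ρ _ ha l
        rw [centralizer_zpowers_eq]
        exact (inf_le_inf_right _ hEG).trans hC.le
      · refine pmod_of_coprime ht fun y hy hyc => ⟨res_le _ _ hy, fun l _ _ =>
          r2 _ hzt y ?_ _ fun a ha => rep_sumRep_apply ρ _ ha l⟩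
        have hn : zpowers y ≤ normalizer (((res (m + 1 + 2) G).map π ⊓ centralizer {π σ} :
            Subgroup (X ⧸ M)) : Set (X ⧸ M)) := H1.le_normalizer_inf (le_normalizer_of_normal _ _)
          (zpowers_le.mpr (le_normalizer (res_le _ _ hy).2))
        have h3 := (commutator_le_res_succ (inf_le_inf_right _ hEG) (zpowers_le.mpr hy) hn (by
          rw [Nat.card_zpowers]
          exact coprime_card_of_isPGroup' ht (hEt.to_le inf_le_left) hyc)).trans hC.le
        rw [le_bot_iff, H1.commutator_eq_bot_iff_le_centralizer', le_centralizer_iff,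
          centralizer_zpowers_eq] at h3
        rwa [centralizer_zpowers_eq])
    (pmod_of_le (((res_succ_le n _).trans hC.le).trans bot_le))
  refine (commutator_lt_of_pmod ht hEt hV.2.1 (le_normalizer_of_normal _ _)
    (this.mono le_rfl fun x hx => (r1 x).mp hx)).ne ?_
  rw [← map_res, ← map_commutator]
  exact congrArg _ (commutator_nres (res (n + 1) G))

theorem fitLE_add_two {G : Type u} [Group G] [Finite G] (hG : Group.IsSolvable G) {σ : MulAut G}
    {r : ℕ} (hr : r.Prime) (hσ : σ ^ r = 1) (hcop : ¬ r ∣ Nat.card G) {C : Subgroup G}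
    (hC : ∀ g, g ∈ C ↔ σ g = g) {n : ℕ} (hn : L.FitLE n C) : L.FitLE (n + 2) G := by
  obtain ⟨X, _, _, f, g, hf, hN, h1, h2⟩ := exists_ambient σ
  have e := MonoidHom.ofInjective hf
  refine L.FitLE.of_mulEquiv e.symm (res_eq_bot_iff.mp (res_eq_bot_of_centralizer
    (L.isSolvable_of_mulEquiv e) hr (h1 r hσ) (by
      rw [← Nat.card_congr e.toEquiv]; exact (Nat.Prime.coprime_iff_not_dvd hr).mpr hcop)
    (res_eq_bot_iff.mpr ((hn.map f).of_le ?_))))
  rintro _ ⟨⟨x, rfl⟩, hx⟩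
  refine ⟨x, (hC x).mpr (hf ?_), rfl⟩
  have h3 := h2 x 1
  rw [pow_one, pow_one] at h3
  rw [← h3, ← mem_centralizer_singleton_iff.mp hx, mul_inv_cancel_right]

end Cfsg.Agent.H9
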