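import Cfsg.Agent.H9.FrobCompl2
import Cfsg.Agent.H9.FrobQuot
import Cfsg.Agent.H5.Kegel
import Cfsg.Agent.H3.Cover
import Cfsg.Agent.H8.PComplement
import Cfsg.Agent.H2.Radical
import Cfsg.Agent.L.PiSep

/-!
Elements of order `p q`, and 2-Frobenius groups.
-/

set_option autoImplicit false
set_option linter.unusedSectionVars false

namespace Cfsg.Agent.H9

open Cfsg Subgroup

variable {G : Type*} [Group G]

theorem exists_pow_orderOf_eq [Finite G] {x : G} {n : ℕ} (h : n ∣ orderOf x) :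
    ∃ k : ℕ, orderOf (x ^ k) = n :=
  ⟨orderOf x / n, orderOf_pow_orderOf_div (orderOf_pos x).ne' h⟩

theorem exists_orderOf_eq_mul_of_commute [Finite G] {x y : G} (h : Commute x y) {m n : ℕ}
    (hmn : m.Coprime n) (hm : m ∣ orderOf x) (hn : n ∣ orderOf y) :
    ∃ g : G, orderOf g = m * n := by
  obtain ⟨a, ha⟩ := exists_pow_orderOf_eq hm
  obtain ⟨b, hb⟩ := exists_pow_orderOf_eq hn
  exact ⟨x ^ a * y ^ b, by
    rw [(h.pow_pow a b).orderOf_mul_eq_mul_orderOf_of_coprime (by rwa [ha, hb]), ha, hb]⟩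

theorem exists_orderOf_eq_of_surjective [Finite G] {H : Type*} [Group H] {f : G →* H}
    (hf : Function.Surjective f) {n : ℕ} (h : ∃ y : H, orderOf y = n) :
    ∃ g : G, orderOf g = n := by
  obtain ⟨y, rfl⟩ := h
  obtain ⟨x, rfl⟩ := hf y
  obtain ⟨k, hk⟩ := exists_pow_orderOf_eq (orderOf_map_dvd f x)
  exact ⟨_, hk⟩

theorem exists_mem_orderOf_eq_prime [Finite G] {A : Subgroup G} {p : ℕ} (hp : p.Prime)
    (h : p ∣ Nat.card A) : ∃ x ∈ A, orderOf x = p := by
  have := Fact.mk hp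
  obtain ⟨⟨x, hx⟩, ho⟩ := exists_prime_orderOf_dvd_card' p h
  exact ⟨x, hx, by rwa [orderOf_mk] at ho⟩

theorem exists_orderOf_eq_mul_of_isNilpotent [Finite G] {A : Subgroup G} (hA : Group.IsNilpotent A)
    {p q : ℕ} (hp : p.Prime) (hq : q.Prime) (hpq : p ≠ q) (h1 : p ∣ Nat.card A)
    (h2 : q ∣ Nat.card A) : ∃ g : G, orderOf g = p * q := by
  obtain ⟨x, hx, hxo⟩ := exists_mem_orderOf_eq_prime hp h1
  obtain ⟨y, hy, hyo⟩ := exists_mem_orderOf_eq_prime hq h2
  have hc := (Nat.coprime_primes hp hq).2 hpq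
  exact exists_orderOf_eq_mul_of_commute (H3.commute_of_coprime_of_isNilpotent hA hx hy hc
    (hxo ▸ pow_orderOf_eq_one x) (hyo ▸ pow_orderOf_eq_one y)) hc (hxo ▸ dvd_rfl)
    (hyo ▸ dvd_rfl)

theorem pCoreOf_ne_bot_of_isNilpotent [Finite G] {A : Subgroup G} (hA : Group.IsNilpotent A)
    {p : ℕ} (hp : p.Prime) (h : p ∣ Nat.card A) : pCoreOf p A ≠ ⊥ := by
  obtain ⟨x, hx, hxo⟩ := exists_mem_orderOf_eq_prime hp h
  intro e
  have h1 : zpowers x ≤ pCoreOf p A := H2.le_pCoreOf_of_le_fittingOf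
    (H8.isPGroup_zpowers_of_orderOf (k := 1) (by rw [hxo, pow_one]))
    (by rw [H2.fittingOf_eq_self hA]; exact zpowers_le.2 hx)
  rw [e, le_bot_iff, zpowers_eq_bot] at h1
  rw [h1, orderOf_one] at hxo
  exact hp.one_lt.ne hxo

/-- Subgroups of a cyclic subgroup are invariant under its normalizer. -/
theorem normalizer_le_normalizer_of_isCyclic [Finite G] {K R : Subgroup G} [IsCyclic K]
    (h : R ≤ K) : normalizer (K : Set G) ≤ normalizer (R : Set G) := by
  obtain ⟨k, hk⟩ := (isCyclic_iff_exists_zpowers_eq_top (α := K)).1 inferInstance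
  have hK : ∀ x ∈ K, ∃ i : ℤ, (k : G) ^ i = x := fun x hx => by
    obtain ⟨i, hi⟩ := mem_zpowers_iff.1 (hk ▸ mem_top (⟨x, hx⟩ : K))
    exact ⟨i, congrArg Subtype.val hi⟩
  intro g hg
  refine mem_normalizer_fintype fun r hr => ?_
  obtain ⟨i, rfl⟩ := hK r (h hr)
  obtain ⟨j, hj⟩ := hK _ ((mem_normalizer_iff.1 hg k).1 k.2)
  rw [← conj_zpow, ← hj, ← zpow_mul, mul_comm, zpow_mul]
  exact zpow_mem hr j

theorem normal_of_le_isCyclic [Finite G] (K : Subgroup G) [K.Normal] [IsCyclic K] {R : Subgroup G}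
    (h : R ≤ K) : R.Normal :=
  H2.normal_of_top_le_normalizer
    ((normalizer_eq_top K).ge.trans (normalizer_le_normalizer_of_isCyclic h))

/-- A Frobenius complement with a fixed-point-free automorphism has odd order. -/
theorem IsFrobAction.odd_of_fpf {A N : Type*} [Group A] [Group N] [Finite N] [Nontrivial N]
    {φ : A →* MulAut N} (hφ : IsFrobAction φ) (α : MulAut A) (hα : ∀ a, α a = a → a = 1) :
    Odd (Nat.card A) := by
  have := hφ.finite
  rw [← Nat.not_even_iff_odd, even_iff_two_dvd]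
  intro h
  have : Fact (Nat.Prime 2) := ⟨Nat.prime_two⟩
  obtain ⟨t, ht⟩ := exists_prime_orderOf_dvd_card' 2 h
  have := hα t (hφ.involution_unique (by rw [MulEquiv.orderOf_eq, ht]) ht)
  rw [this, orderOf_one] at ht
  exact absurd ht (by decide)

theorem isMulCommutative_of_injective_mulAut {A C : Type*} [Group A] [Group C] [IsCyclic C]
    (φ : A →* MulAut C) (hφ : Function.Injective φ) : IsMulCommutative A :=
  ⟨⟨fun a b => hφ (by
    rw [map_mul, map_mul]
    exact (IsCyclic.mulAutMulEquiv C).injective (by rw [map_mul, map_mul, mul_comm]))⟩⟩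

theorem frob_exists_mulEquiv_map [Finite G] {H K : Subgroup G} [H.Normal]
    {C : Subgroup K} (hC : IsFrobeniusComplement C)
    (hCK : frobeniusKernel C = (H.subgroupOf K : Set K)) :
    Nonempty (C ≃* K.map (QuotientGroup.mk' H)) := by
  let f : C →* K.map (QuotientGroup.mk' H) := ((QuotientGroup.mk' H).subgroupMap K).comp C.subtype
  have hc : Nat.card C = Nat.card (K.map (QuotientGroup.mk' H)) := by
    rw [← frob_index_kernel hC hCK, ← relIndex_ker, QuotientGroup.ker_mk', relIndex]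
  have hf : Function.Bijective f := by
    refine (Nat.bijective_iff_injective_and_card f).2 ⟨?_, hc⟩
    rw [injective_iff_map_eq_one]
    intro c hc
    have h1 : ((c : K) : G) ∈ H := (QuotientGroup.eq_one_iff _).1 (congrArg Subtype.val hc)
    exact Subtype.ext (disjoint_def.1 (frob_kernel_disjoint hCK) h1 c.2)
  exact ⟨MulEquiv.ofBijective f hf⟩

/-- The upper two factors of a 2-Frobenius group are cyclic. -/
theorem twoFrob_cyclic [Finite G] {H K : Subgroup G} [H.Normal] [K.Normal]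
    {C : Subgroup K} (hC : IsFrobeniusComplement C)
    (hCK : frobeniusKernel C = (H.subgroupOf K : Set K))
    {D : Subgroup (G ⧸ H)} (hD : IsFrobeniusComplement D)
    (hDK : frobeniusKernel D = (K.map (QuotientGroup.mk' H) : Set (G ⧸ H))) :
    Odd (Nat.card C) ∧ IsCyclic C ∧ IsCyclic D ∧
      Nat.card C = Nat.card (K.map (QuotientGroup.mk' H)) := by
  have hφ := frob_isFrobAction hC hCK
  have hψ := frob_isFrobAction hD hDK
  have : Nontrivial (H.subgroupOf K) := (nontrivial_iff_ne_bot _).2 (frob_kernel_ne_bot hC hCK)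
  have : Nontrivial (K.map (QuotientGroup.mk' H)) :=
    (nontrivial_iff_ne_bot _).2 (frob_kernel_ne_bot hD hDK)
  have hnil := H5.isNilpotent_frobeniusKernel hD hDK
  obtain ⟨e⟩ := frob_exists_mulEquiv_map hC hCK
  have hc := Nat.card_congr e.toEquiv
  have hφ' := hφ.comp e.symm.toMonoidHom e.symm.injective
  obtain ⟨d, hd⟩ := ne_bot_iff_exists_ne_one.1 (frob_ne_bot hD)
  have hodd := hφ'.odd_of_fpf _ (hψ d hd)
  have hcyc := hφ'.isCyclic_of_odd_of_isNilpotent hodd
  have := isMulCommutative_of_injective_mulAut _ hψ.injective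
  exact ⟨hc ▸ hodd, isCyclic_of_surjective _ e.symm.surjective, hψ.isCyclic_of_comm, hc⟩

/-- No element has order the product of a prime in `π` and a prime outside `π`. -/
def NoMix (π : Set ℕ) (G : Type*) [Group G] : Prop :=
  ∀ a ∈ π, ∀ b ∉ π, a.Prime → b.Prime → ¬ ∃ g : G, orderOf g = a * b

namespace NoMix

variable {π : Set ℕ}

theorem compl (h : NoMix π G) : NoMix πᶜ G := fun a ha b hb hap hbp hg =>
  h b (not_not.1 hb) a ha hbp hap (mul_comm a b ▸ hg)

theorem subgroup (h : NoMix π G) (K : Subgroup G) : NoMix π K := fun a ha b hb hap hbp ⟨g, hg⟩ =>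
  h a ha b hb hap hbp ⟨g, by rwa [orderOf_coe]⟩

theorem quotient [Finite G] (h : NoMix π G) (N : Subgroup G) [N.Normal] : NoMix π (G ⧸ N) :=
  fun a ha b hb hap hbp hg => h a ha b hb hap hbp
    (exists_orderOf_eq_of_surjective (QuotientGroup.mk'_surjective N) hg)

theorem eq_one [Finite G] (h : NoMix π G) {H : Subgroup G} (hH : IsPiSubgroup π H) {x k : G}
    {b : ℕ} (hb : b.Prime) (hbπ : b ∉ π) (hx : b ∣ orderOf x) (hk : k ∈ H) (e : x * k = k * x) :
    k = 1 := by
  by_contra hk1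
  obtain ⟨a, ha, hak⟩ := Nat.exists_prime_and_dvd (mt orderOf_eq_one_iff.1 hk1)
  have haπ := hH a ha (hak.trans (H.orderOf_dvd_natCard hk))
  exact h a haπ b hbπ ha hb (exists_orderOf_eq_mul_of_commute (x := k) (y := x) e.symm
    ((Nat.coprime_primes ha hb).2 fun e => hbπ (e ▸ haπ)) hak hx)

theorem exists_frob [Finite G] (h : NoMix π G) {H : Subgroup G} [H.Normal] (h1 : H ≠ ⊥)
    (h2 : H ≠ ⊤) (hH : IsPiSubgroup π H) (hi : L.IsPiNum πᶜ H.index) :
    ∃ C : Subgroup G, IsFrobeniusComplement C ∧ frobeniusKernel C = (H : Set G) := by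
  refine exists_frob_of_forall_not_mem h1 h2 fun x hx k hk e => ?_
  obtain ⟨b, hb, hbx⟩ := Nat.exists_prime_and_dvd (n := orderOf (QuotientGroup.mk' H x))
    fun h0 => hx ((QuotientGroup.eq_one_iff x).1 (orderOf_eq_one_iff.1 h0))
  exact h.eq_one hH hb (hi b hb (hbx.trans (orderOf_dvd_natCard _)))
    (hbx.trans (orderOf_map_dvd _ x)) hk e

/-- The solvable case of the Gruenberg–Kegel theorem. -/
theorem frob_or_twoFrob [Finite G] [Group.IsSolvable G] (h : NoMix π G) (h1 : piCore π G ≠ ⊥)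
    (h2 : piCore π G ≠ ⊤) :
    (∃ C : Subgroup G, IsFrobeniusComplement C ∧ frobeniusKernel C = (piCore π G : Set G)) ∨
    (∃ (K : Subgroup G) (_ : K.Normal), piCore π G < K ∧
      (∃ C : Subgroup K, IsFrobeniusComplement C ∧
        frobeniusKernel C = ((piCore π G).subgroupOf K : Set K)) ∧
      (∃ C : Subgroup (G ⧸ piCore π G), IsFrobeniusComplement C ∧
        frobeniusKernel C = (K.map (QuotientGroup.mk' (piCore π G)) : Set (G ⧸ piCore π G)))) := by
  set H := piCore π G with hH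
  have hHπ : IsPiSubgroup π H := L.isPiSubgroup_piCore π
  by_cases hi : L.IsPiNum πᶜ H.index
  · exact Or.inl (h.exists_frob h1 h2 hHπ hi)
  right
  have hq := h.quotient H
  have hbot : piCore π (G ⧸ H) = ⊥ := L.piCore_quotient_piCore π
  have : Nontrivial (G ⧸ H) := QuotientGroup.nontrivial_iff.2 h2
  set K' := piCore πᶜ (G ⧸ H) with hK'
  have hK'1 : K' ≠ ⊥ := (L.piSep_of_isSolvable π).piCore_ne_bot.resolve_left (not_not.2 hbot)
  have hK'π : IsPiSubgroup πᶜ K' := L.isPiSubgroup_piCore _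
  set K := K'.comap (QuotientGroup.mk' H) with hK
  have hKK : K.map (QuotientGroup.mk' H) = K' :=
    map_comap_eq_self_of_surjective (QuotientGroup.mk'_surjective H) _
  have hHK : H ≤ K := QuotientGroup.le_comap_mk' H K'
  have hlt : H < K := by
    refine lt_of_le_of_ne hHK fun e => hK'1 ?_
    rw [← hKK, ← e, QuotientGroup.map_mk'_self]
  obtain ⟨C, hC, hCK⟩ := (h.subgroup K).exists_frob (H := H.subgroupOf K)
    (by rw [Ne, subgroupOf_eq_bot, disjoint_iff, inf_eq_left.2 hHK]; exact h1)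
    (by rw [Ne, subgroupOf_eq_top]; exact hlt.not_ge)
    (by intro r hr hd; rw [H2.card_subgroupOf_of_le hHK] at hd; exact hHπ r hr hd)
    (by rw [← relIndex, L.relIndex_eq_card_map_mk', hKK]; exact hK'π)
  refine ⟨K, inferInstance, hlt, ⟨C, hC, hCK⟩, ?_⟩
  rw [hKK]
  obtain ⟨a, ha, had, haπ⟩ : ∃ a : ℕ, a.Prime ∧ a ∣ H.index ∧ a ∈ π := by
    by_contra hc
    push Not at hc
    exact hi hc
  have := Fact.mk ha
  obtain ⟨y, hy⟩ := exists_prime_orderOf_dvd_card' (G := G ⧸ H) a had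
  have hyf : ∀ k ∈ K', y * k = k * y → k = 1 := fun k hk e =>
    hq.compl.eq_one hK'π ha (not_not.2 haπ) (hy ▸ dvd_rfl) hk e
  have hnil : Group.IsNilpotent K' := H5.isNilpotent_of_fpf ha K' y
    ((normalizer_eq_top K').ge (mem_top y)) (hy ▸ pow_orderOf_eq_one y) hyf
  obtain ⟨e⟩ := frob_exists_mulEquiv_map hC hCK
  rw [hKK] at e
  have : Nontrivial (H.subgroupOf K) := (nontrivial_iff_ne_bot _).2 (frob_kernel_ne_bot hC hCK)
  have hφ := (frob_isFrobAction hC hCK).comp e.symm.toMonoidHom e.symm.injective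
  have hodd := hφ.odd_of_fpf (MulAut.conjNormal y) fun k hk => Subtype.ext (hyf k k.2 (by
    have := congrArg Subtype.val hk
    rwa [MulAut.conjNormal_apply, mul_inv_eq_iff_eq_mul] at this))
  have hcyc := hφ.isCyclic_of_odd_of_isNilpotent hodd
  have hcent : centralizer (K' : Set (G ⧸ H)) ≤ K' :=
    L.centralizer_piCore_le (L.piSep_of_isSolvable _) (by rwa [compl_compl])
  have hcomm : IsMulCommutative ((G ⧸ H) ⧸ K') := by
    refine ⟨⟨fun a b => ?_⟩⟩
    obtain ⟨a, rfl⟩ := QuotientGroup.mk_surjective a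
    obtain ⟨b, rfl⟩ := QuotientGroup.mk_surjective b
    rw [← QuotientGroup.mk_mul, ← QuotientGroup.mk_mul, QuotientGroup.eq]
    refine hcent fun k hk => ?_
    have := isMulCommutative_of_injective_mulAut (MonoidHom.id (MulAut K')) Function.injective_id
    have e : MulAut.conjNormal (H := K') ((a * b)⁻¹ * (b * a)) = 1 := by
      rw [map_mul, map_inv, map_mul, map_mul, mul_comm' (MulAut.conjNormal b), inv_mul_cancel]
    have e' := congrArg Subtype.val (DFunLike.congr_fun e ⟨k, hk⟩)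
    rw [MulAut.conjNormal_apply, mul_inv_eq_iff_eq_mul] at e'
    exact e'.symm
  refine hq.compl.exists_frob hK'1 (fun e => ?_) hK'π ?_
  · exact hK'π a ha (by rw [e, card_top]; exact had) haπ
  · rw [compl_compl]
    intro r hr hd
    by_contra hrπ
    have := Fact.mk hr
    obtain ⟨z, hz⟩ := exists_prime_orderOf_dvd_card' (G := (G ⧸ H) ⧸ K') r hd
    have h3 : zpowers z ≤ piCore πᶜ ((G ⧸ H) ⧸ K') := L.le_piCore inferInstance (by
      intro s hs hsd
      rw [Nat.card_zpowers, hz] at hsd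
      rwa [(Nat.prime_dvd_prime_iff_eq hs hr).1 hsd])
    rw [L.piCore_quotient_piCore, le_bot_iff, zpowers_eq_bot] at h3
    rw [h3, orderOf_one] at hz
    exact hr.one_lt.ne hz

end NoMix

end Cfsg.Agent.H9
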